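import Cfsg.Agent.Lib.BC77.ThreeExtra.Main

/-!
# The invariants in the cases of inertial index eight, four and two

The tables are fixed by the frame of the centraliser of the centre; the totals give the numbers.
-/

set_option autoImplicit false
set_option linter.style.haveILetI false

namespace Cfsg.Agent.Lib.BC77.ThreeExtra.Cases

open Cfsg.Agent.Lib.Blocks hiding lin
open Cfsg.Agent.Lib.BC77.ThreeExtra.Group Cfsg.Agent.Lib.BC77.ThreeExtra.Classes
open Cfsg.Agent.Lib.BC77.ThreeExtra.Values Cfsg.Agent.Lib.BC77.ThreeExtra.Forms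
open Cfsg.Agent.Lib.BC77.ThreeExtra.Centre Cfsg.Agent.Lib.BC77.ThreeExtra.Types

universe u

local instance : Fact (Nat.Prime 3) := ⟨Nat.prime_three⟩

attribute [local instance] Classical.propDecidable

variable {G : Type u} [Group G] [Finite G] {P : Sylow 3 G} {z : G}

/-- The three invariants. -/
def Invariants (M : Ideal Cfsg.AlgInt) (G : Type u) [Group G] [Finite G] (k k₀ l : ℕ) : Prop :=
  Nat.card ↥(Cfsg.principalBlock M G) = k ∧
    Nat.card {χ : Cfsg.IrrCharacter G // χ ∈ Cfsg.principalBlock M G ∧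
      Cfsg.blockHeight 3 (Cfsg.principalBlock M G) (χ : G → ℂ) = 0} = k₀ ∧
    Cfsg.blockRank 3 (Cfsg.principalBlock M G) = l

/-- The invariants from a table, its totals and the solution of the counting. -/
theorem invariants (hS : Setup P z) {M : Ideal Cfsg.AlgInt} (hM : Cfsg.IsPModular 3 M) {c : Cfg}
    (hK : Main.Consts c) {u : Fin c.r → G} (hu : Reps P z u) (hr : 0 < c.r)
    (F : Shape.Frame (setup_cent hS) M c (reps_cent hS hu)) {TR TW : ℤ} {k l : ℕ}
    (hTR : 3 * ∑ j, Forms.lin (c.root j) (c.root j) = TR) (hTW : 3 * Forms.lin c.w c.w = TW)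
    (hcr : l + c.r = 6)
    (hsolve : ∀ (ι : Type u) [Fintype ι] (s t : ι → V6) (cv : ι → Fin c.r → ℤ),
      Solve.Totals c s t cv TR TW l →
      (∀ V, Even (Finset.univ.filter fun i => t i ≠ 0 ∧ c.WfC (s i) (t i) = V).card) →
      Fintype.card ι = k ∧
        (Finset.univ.filter fun i => ¬ (3 : ℤ) ∣ ∑ a, cv i a * cv i a).card = 6)
    (hrank : c.D * (27 * (l : ℤ)) + 2 * (9 * TR + TW) + 27 * (c.r : ℤ) * c.D =
      c.D * 27 * (k : ℤ)) :
    Invariants M G k 6 l := by
  classical
  haveI := hM.2.1
  obtain ⟨s, t, n, D, hc⟩ := Coords.exists_coord hS M hu F hM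
  have hpart : (part (centZ hS) M om).card = l := by
    have h1 : (part (centZ hS) M 1).card = 6 := by
      rw [Finset.card_eq_sum_ones, Coords.sum_part hS M hu F]
      simp
    have h2 := (card_parts (setup_cent hS) (centZ_commute hS) (reps_cent hS hu) M hM).1
    omega
  letI : Fintype (Cfsg.principalBlock M G) := Fintype.ofFinite _
  have ht := Main.totals hS M hu F hM hc hK hr hTR hTW hpart
  obtain ⟨h1, h2⟩ := hsolve _ _ _ _ ht fun V => by
    convert Main.even_fibre hS M hu F hM hc hK V
  refine ⟨by rw [Nat.card_eq_fintype_card, h1], ?_, ?_⟩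
  · rw [← h2, ← Fintype.card_subtype, ← Nat.card_eq_fintype_card]
    exact Nat.card_congr ((Equiv.subtypeSubtypeEquivSubtypeInter _ _).symm.trans
      (Equiv.subtypeEquivRight fun χ => (Main.height_iff hS M hu F hM hc hK).symm))
  · have h := Main.rank_eq hS M hu F hM hc hK ht
    rw [h1, ← hrank] at h
    have hd : c.D * 27 ≠ 0 := mul_ne_zero hK.dpos.ne' (by norm_num)
    exact_mod_cast mul_left_cancel₀ hd (by linear_combination h :
      c.D * 27 * (Cfsg.blockRank 3 (Cfsg.principalBlock M G) : ℤ) = c.D * 27 * (l : ℤ))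

/-- Inertial index eight. -/
theorem index8 (hS : Setup P z) {M : Ideal Cfsg.AlgInt} (hM : Cfsg.IsPModular 3 M)
    (he : (pc P).relIndex (Subgroup.normalizer ((P : Subgroup G) : Set G)) = 8) :
    Invariants M G 16 6 5 := by
  obtain ⟨r, u, hr, hu⟩ := exists_reps hS he (by norm_num)
  obtain rfl : r = cfg8.r := by simp only [cfg8]; omega
  obtain ⟨F⟩ := Shape.frame8 (setup_cent hS) (centZ_commute hS) (reps_cent hS hu) M hM
  exact invariants hS hM Main.consts8 hu (by decide) F (TR := 60) (TW := 135) (k := 16) (l := 5)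
    (by decide) (by decide) rfl
    (fun ι _ s t cv h hev => Solve.solve8 h (by convert hev 19))
    (by norm_num [cfg8])

/-- Inertial index four. -/
theorem index4 (hS : Setup P z) {M : Ideal Cfsg.AlgInt} (hM : Cfsg.IsPModular 3 M)
    (he : (pc P).relIndex (Subgroup.normalizer ((P : Subgroup G) : Set G)) = 4) :
    Invariants M G 14 6 4 := by
  obtain ⟨r, u, hr, hu⟩ := exists_reps hS he (by norm_num)
  obtain rfl : r = cfg4.r := by simp only [cfg4]; omega
  obtain ⟨F⟩ := Shape.frame4 (setup_cent hS) (centZ_commute hS) (reps_cent hS hu) M hM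
  exact invariants hS hM Main.consts4 hu (by decide) F (TR := 36) (TW := 108) (k := 14) (l := 4)
    (by decide) (by decide) rfl
    (fun ι _ s t cv h _ => Solve.solve4 h)
    (by norm_num [cfg4])

/-- Inertial index two. -/
theorem index2 (hS : Setup P z) {M : Ideal Cfsg.AlgInt} (hM : Cfsg.IsPModular 3 M)
    (he : (pc P).relIndex (Subgroup.normalizer ((P : Subgroup G) : Set G)) = 2) :
    Invariants M G 10 6 2 := by
  obtain ⟨r, u, hr, hu⟩ := exists_reps hS he (by norm_num)
  obtain rfl : r = cfg2.r := by simp only [cfg2]; omega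
  obtain ⟨F⟩ := Shape.frame2 (setup_cent hS) (centZ_commute hS) (reps_cent hS hu) M hM
  exact invariants hS hM Main.consts2 hu (by decide) F (TR := 6) (TW := 54) (k := 10) (l := 2)
    (by decide) (by decide) rfl
    (fun ι _ s t cv h _ => Solve.solve2 h)
    (by norm_num [cfg2])

end Cfsg.Agent.Lib.BC77.ThreeExtra.Cases
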