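import Cfsg.Agent.Lib.BC77.ThreeExtra.Section
import Cfsg.Agent.Lib.Blocks.SectionMatrix

/-!
# A group with the element `z` in the centre

The principal block of a group in which `z` is central falls into three parts according to the
scalar of `z`; the part with scalar one carries the values outside the centre, the other two have
regular inner products nine on the diagonal and are exchanged by a Galois twist.
-/

set_option autoImplicit false
set_option linter.style.haveILetI false

namespace Cfsg.Agent.Lib.BC77.ThreeExtra.Centre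

open Cfsg.Agent.Lib.Blocks Cfsg.Agent.Lib.Blocks.Contrib Cfsg.Agent.Lib.Characters.Basic
open Cfsg.Agent.Lib.H80.ClassMult
open Cfsg.Agent.Lib.BC77.ThreeExtra.Group Cfsg.Agent.Lib.BC77.ThreeExtra.Classes
open Cfsg.Agent.Lib.BC77.ThreeExtra.Values
open scoped ComplexConjugate

universe u

local instance : Fact (Nat.Prime 3) := ⟨Nat.prime_three⟩

attribute [local instance] Classical.propDecidable

variable {H : Type u} [Group H] [Finite H]

/-- The scalar of `z`. -/
noncomputable def lamz (z : H) (θ : Cfsg.IrrCharacter H) : ℂ := (θ : H → ℂ) z / (θ : H → ℂ) 1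

theorem lamz_one (z : H) : lamz z (oneChar H) = 1 := by simp [lamz, oneChar_apply]

theorem apply_z {z : H} (hz : ∀ c, Commute z c) (θ : Cfsg.IrrCharacter H) (c : H) :
    (θ : H → ℂ) (z * c) = lamz z θ * (θ : H → ℂ) c := by
  haveI := Fintype.ofFinite H
  have hc : (MonoidAlgebra.single z (1 : ℂ)) ∈ Subalgebra.center ℂ (MonoidAlgebra ℂ H) := by
    rw [Subalgebra.mem_center_iff]
    intro x
    induction x using MonoidAlgebra.induction_linear with
    | zero => simp
    | add a b ha hb => simp only [add_mul, mul_add, ha, hb]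
    | single a r =>
      rw [MonoidAlgebra.single_mul_single, MonoidAlgebra.single_mul_single, (hz a).eq, mul_comm r]
  have h := lin_center_mul θ hc (MonoidAlgebra.single c 1)
  rwa [MonoidAlgebra.single_mul_single, one_mul, lin_single, lin_single, lin_single, one_mul,
    one_mul, one_mul] at h

/-- The part of the principal block with scalar `μ`. -/
noncomputable def part (z : H) (M : Ideal Cfsg.AlgInt) (μ : ℂ) : Finset (Cfsg.IrrCharacter H) :=
  (bset (Cfsg.principalBlock M H)).filter fun θ => lamz z θ = μ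

theorem mem_part {z : H} {M : Ideal Cfsg.AlgInt} {μ : ℂ} {θ : Cfsg.IrrCharacter H} :
    θ ∈ part z M μ ↔ θ ∈ Cfsg.principalBlock M H ∧ lamz z θ = μ := by
  rw [part, Finset.mem_filter, mem_bset]

variable {P : Sylow 3 H} {z : H} (hS : Setup P z) (hz : ∀ c, Commute z c)

include hS

theorem sylow_exp : (Nat.card H).factorization 3 = 3 := by
  have h := P.card_eq_multiplicity
  rw [hS.card] at h
  exact (Nat.pow_right_injective (le_refl 2 |>.trans (by norm_num)) (h.symm.trans (by norm_num) :
    3 ^ (Nat.card H).factorization 3 = 3 ^ 3))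

theorem card_eq : (Nat.card H : ℂ) = 27 * (primeToCard 3 H : ℂ) := by
  rw [natCast_card_eq 3 H, sylow_exp hS]
  norm_num

include hz

theorem lam_cube (θ : Cfsg.IrrCharacter H) : lamz z θ ^ 3 = 1 := by
  have h := apply_z hz θ (z * z)
  rw [apply_z hz θ z, show z * (z * z) = 1 by rw [← mul_assoc, ← pow_two, ← pow_succ, z3 hS],
    show (θ : H → ℂ) z = lamz z θ * (θ : H → ℂ) 1 by rw [← apply_z hz θ 1, mul_one]] at h
  refine mul_right_cancel₀ (char_one_ne_zero θ) ?_
  rw [one_mul]
  linear_combination -h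

theorem lam_cases (θ : Cfsg.IrrCharacter H) :
    lamz z θ = 1 ∨ lamz z θ = om ∨ lamz z θ = om ^ 2 := cube_root (lam_cube hS hz θ)

theorem conj_lam (θ : Cfsg.IrrCharacter H) : conj (lamz z θ) = lamz z θ ^ 2 := by
  rw [Characters.Diag.conj_eq_inv_of_pow three_ne_zero (lam_cube hS hz θ)]
  exact inv_eq_of_mul_eq_one_right (by rw [← pow_succ', lam_cube hS hz θ])

variable {r : ℕ} {u : Fin r → H} (hu : Reps P z u)

include hu

/-- The faithful characters vanish outside the centre. -/
theorem vanish {θ : Cfsg.IrrCharacter H} (hl : lamz z θ ≠ 1) (a : Fin r) :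
    (θ : H → ℂ) (u a) = 0 := by
  obtain ⟨p, hp, hpu⟩ := exists_shift hS (hu.mem a) (hu.out a)
  have h : (θ : H → ℂ) (u a) = lamz z θ * (θ : H → ℂ) (u a) := by
    rw [← apply_z hz θ, (hz (u a)).eq, ← hpu, isClassFunction_irr θ]
  have h' : (lamz z θ - 1) * (θ : H → ℂ) (u a) = 0 := by linear_combination -h
  exact (mul_eq_zero.1 h').resolve_left (sub_ne_zero.2 hl)

/-- The integer value outside the centre. -/
noncomputable def val (θ : Cfsg.IrrCharacter H) (a : Fin r) : ℤ :=
  (Section.exists_int hS hu a θ).choose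

omit hz in
theorem val_spec (θ : Cfsg.IrrCharacter H) (a : Fin r) :
    (θ : H → ℂ) (u a) = val hS hu θ a ∧
      (val hS hu θ a - (Cfsg.charDegree (θ : H → ℂ) : ℤ)) % 3 = 0 :=
  (Section.exists_int hS hu a θ).choose_spec

omit hz in
theorem val_congr (θ : Cfsg.IrrCharacter H) (a b : Fin r) :
    (val hS hu θ a - val hS hu θ b) % 3 = 0 := by
  have h1 := (val_spec hS hu θ a).2
  have h2 := (val_spec hS hu θ b).2
  omega

theorem val_vanish {θ : Cfsg.IrrCharacter H} (hl : lamz z θ ≠ 1) (a : Fin r) :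
    val hS hu θ a = 0 := by
  have h := (val_spec hS hu θ a).1.symm.trans (vanish hS hz hu hl a)
  exact_mod_cast h

omit hz in
theorem val_one (a : Fin r) : val hS hu (oneChar H) a = 1 := by
  have h := (val_spec hS hu (oneChar H) a).1
  rw [oneChar_apply] at h
  exact_mod_cast h.symm

variable (M : Ideal Cfsg.AlgInt) (hM : Cfsg.IsPModular 3 M)

include hM

omit hz in
theorem one_mem : oneChar H ∈ Cfsg.principalBlock M H := by
  haveI := hM.2.1
  exact sameBlock_refl (M := M) (oneChar H)

/-- Orthogonality split over the sections. -/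
theorem pair_eq {θ ζ : Cfsg.IrrCharacter H} (hθ : θ ∈ Cfsg.principalBlock M H)
    (hζ : ζ ∈ Cfsg.principalBlock M H) :
    (contribN 3 θ ζ : ℂ) * (1 + lamz z θ * conj (lamz z ζ) +
        (lamz z θ * conj (lamz z ζ)) ^ 2) +
      3 * ∑ a, ((val hS hu θ a * val hS hu ζ a : ℤ) : ℂ) = if θ = ζ then 27 else 0 := by
  classical
  haveI := hM.2.1
  letI := Fintype.ofFinite H
  set f : H → ℂ := fun g => (θ : H → ℂ) g * conj ((ζ : H → ℂ) g) with hfdef
  set μ := lamz z θ * conj (lamz z ζ)
  have hf : Cfsg.IsClassFunction H f := fun g h => by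
    simp only [hfdef, isClassFunction_irr θ g h, isClassFunction_irr ζ g h]
  have hreg : ∑ g : H, (if 3 ∣ orderOf g then 0 else f g) =
      (primeToCard 3 H : ℂ) * contribN 3 θ ζ := by
    rw [← regSum_eq_contribN, regSum_eq_sum]
    exact Finset.sum_congr rfl fun g _ => by
      split_ifs
      · rfl
      · simp only [hfdef, apply_inv (isCharacter_irr ζ)]
  have hmul : ∀ c : H, f (z * c) = μ * f c := fun c => by
    simp only [hfdef, μ, apply_z hz, map_mul]; ring
  have hsec : ∀ (x : H) (c : ℂ), (∃ k, orderOf x = 3 ^ k) → (∀ g, Commute x g) →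
      (∀ g, f (x * g) = c * f g) →
      Section.secSum x f = c * ((primeToCard 3 H : ℂ) * contribN 3 θ ζ) := by
    intro x c hx hxc hxf
    have htop : (⊤ : Subgroup H) = Subgroup.centralizer ({x} : Set H) := by
      ext g
      simp only [Subgroup.mem_top, Subgroup.mem_centralizer_singleton_iff, true_iff]
      exact (hxc g).eq.symm
    have h := Section.secSum_eq hx htop hf
    rw [Subgroup.card_top] at h
    rw [mul_left_cancel₀ (Nat.cast_ne_zero.2 Nat.card_pos.ne') h, ← hreg, Finset.mul_sum]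
    refine Fintype.sum_equiv Subgroup.topEquiv.toEquiv _ _ fun s => ?_
    show _ = c * if 3 ∣ orderOf (s : H) then 0 else f (s : H)
    rw [Subgroup.orderOf_coe]
    split_ifs
    · rw [mul_zero]
    · exact hxf _
  have h1 := hsec z μ (Section.order_z hS) hz hmul
  have h2 := hsec (z ^ 2) (μ ^ 2) (Section.order_z2 hS) (fun g => (hz g).pow_left 2) fun g => by
    rw [pow_two, mul_assoc, hmul, hmul]; ring
  have hu' : ∀ a : Fin r, 9 * Section.secSum (u a) f = (Nat.card H : ℂ) *
      ((val hS hu θ a * val hS hu ζ a : ℤ) : ℂ) := by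
    intro a
    rw [Section.secSum_u hS hu a hf fun g hg => by
      simp only [hfdef, Section.section_const hS hu M hM a hg θ hθ,
        Section.section_const hS hu M hM a hg ζ hζ]]
    simp only [hfdef, (val_spec hS hu θ a).1, (val_spec hS hu ζ a).1, map_intCast, Int.cast_mul]
  have horth : ∑ g : H, f g = (Nat.card H : ℂ) * if θ = ζ then 1 else 0 := by
    have h := classInner_irr θ ζ
    rw [Cfsg.classInner, inv_mul_eq_iff_eq_mul₀ (Nat.cast_ne_zero.2 Nat.card_pos.ne')] at h
    rw [h]
  have htot := Section.total hS hu f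
  rw [horth, hreg, h1, h2, card_eq hS] at htot
  have hsum : 9 * ∑ a, Section.secSum (u a) f = 27 * (primeToCard 3 H : ℂ) *
      ∑ a, ((val hS hu θ a * val hS hu ζ a : ℤ) : ℂ) := by
    rw [Finset.mul_sum, Finset.mul_sum]
    exact Finset.sum_congr rfl fun a _ => by rw [hu' a, card_eq hS]
  have hh : (primeToCard 3 H : ℂ) ≠ 0 := Nat.cast_ne_zero.2 (primeToCard_pos 3).ne'
  refine mul_left_cancel₀ hh ?_
  split_ifs at htot ⊢ <;> linear_combination (1 / 9 : ℂ) * hsum * (0 : ℂ) - htot - (1 / 9 : ℂ) * hsum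

/-- The regular inner products for equal scalars. -/
theorem contrib_eq {θ ζ : Cfsg.IrrCharacter H} (hθ : θ ∈ Cfsg.principalBlock M H)
    (hζ : ζ ∈ Cfsg.principalBlock M H) (hl : lamz z θ = lamz z ζ) :
    contribN 3 θ ζ = (if θ = ζ then 9 else 0) - ∑ a, val hS hu θ a * val hS hu ζ a := by
  have h := pair_eq hS hz hu M hM hθ hζ
  rw [hl, conj_lam hS hz ζ, ← pow_succ', lam_cube hS hz ζ] at h
  refine Int.cast_injective (α := ℂ) ?_
  push_cast at h ⊢
  split_ifs at h ⊢ <;> linear_combination (1 / 3 : ℂ) * h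

/-- The regular inner products in the faithful parts. -/
theorem contrib_faithful {θ ζ : Cfsg.IrrCharacter H} {μ : ℂ} (hμ : μ ≠ 1)
    (hθ : θ ∈ part z M μ) (hζ : ζ ∈ part z M μ) :
    contribN 3 θ ζ = if θ = ζ then 9 else 0 := by
  rw [mem_part] at hθ hζ
  rw [contrib_eq hS hz hu M hM hθ.1 hζ.1 (hθ.2.trans hζ.2.symm)]
  simp [val_vanish hS hz hu (hθ.2.symm ▸ hμ : lamz z θ ≠ 1)]

/-- The squares of the values of a member with scalar one. -/
theorem sum_sq_le {θ : Cfsg.IrrCharacter H} (hθ : θ ∈ part z M 1) :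
    ∑ a, val hS hu θ a * val hS hu θ a ≤ 8 := by
  haveI := hM.2.1
  rw [mem_part] at hθ
  have h := contrib_eq hS hz hu M hM hθ.1 hθ.1 rfl
  have h' := contribN_self_pos hM isPBlock_principalBlock hθ.1 (p := 3)
  rw [if_pos rfl] at h
  omega

/-- No value outside the centre is divisible by three. -/
theorem val_not_dvd {θ : Cfsg.IrrCharacter H} (hθ : θ ∈ part z M 1) (a : Fin r) :
    ¬ (3 : ℤ) ∣ val hS hu θ a := by
  haveI := hM.2.1
  intro h3
  have hsq := sum_sq_le hS hz hu M hM hθ
  rw [mem_part] at hθ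
  have hall : ∀ b, val hS hu θ b = 0 := by
    intro b
    have hb : val hS hu θ b * val hS hu θ b ≤ 8 := le_trans
      (Finset.single_le_sum (f := fun b => val hS hu θ b * val hS hu θ b)
        (fun b _ => mul_self_nonneg _) (Finset.mem_univ b)) hsq
    have h1 : val hS hu θ b ≤ 2 := by nlinarith
    have h2 : -2 ≤ val hS hu θ b := by nlinarith
    have h4 := val_congr hS hu θ a b
    omega
  have hne : θ ≠ oneChar H := fun e => by
    have := hall a
    rw [e, val_one hS hu a] at this
    omega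
  have h0 : vdeg 3 (oneChar H) = minVdeg 3 (Cfsg.principalBlock M H) := by
    have hv : vdeg 3 (oneChar H) = 0 := by
      rw [vdeg, show Cfsg.charDegree (oneChar H : H → ℂ) = 1 by simp [Cfsg.charDegree, oneChar_apply]]
      simp
    have := minVdeg_le (p := 3) (one_mem hS hu M hM)
    omega
  refine contribN_ne_zero hM isPBlock_principalBlock (one_mem hS hu M hM) h0 hθ.1 ?_
  rw [contrib_eq hS hz hu M hM (one_mem hS hu M hM) hθ.1 ((lamz_one z).trans hθ.2.symm),
    if_neg (Ne.symm hne)]
  simp [hall]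

/-- The columns outside the centre. -/
theorem col_val (a b : Fin r) :
    ∑ θ ∈ part z M 1, val hS hu θ a * val hS hu θ b = if a = b then 9 else 0 := by
  haveI := hM.2.1
  have h := Section.col hS hu M hM b (g := u a) (y := u a)
    (isPPart_self Nat.prime_three (Section.order_u hS hu a))
  have hc : IsConj (u a) (u b) ↔ a = b := ⟨hu.inj a b, fun e => e ▸ IsConj.refl _⟩
  simp only [hc, finsum_mem_bset, (val_spec hS hu _ _).1, map_intCast] at h
  rw [part, Finset.sum_filter]
  refine Int.cast_injective (α := ℂ) ?_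
  push_cast
  refine Eq.trans (Finset.sum_congr rfl fun θ _ => ?_) (h.trans (by split_ifs <;> simp))
  split_ifs with hl
  · rfl
  · simp [val_vanish hS hz hu hl]

/-- The values outside the centre against the degrees. -/
theorem col_deg (a : Fin r) :
    ∑ θ ∈ part z M 1, (Cfsg.charDegree (θ : H → ℂ) : ℤ) * val hS hu θ a = 0 := by
  haveI := hM.2.1
  have h := Section.col hS hu M hM a (g := (1 : H)) (y := 1)
    (isPPart_self Nat.prime_three ⟨0, by simp⟩)
  rw [if_neg fun e : IsConj (1 : H) (u a) => Section.u_ne_one hS hu a (isConj_one_right.1 e),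
    finsum_mem_bset] at h
  simp only [(val_spec hS hu _ _).1, map_intCast, (deg_spec _).2] at h
  rw [part, Finset.sum_filter]
  refine Int.cast_injective (α := ℂ) ?_
  push_cast
  refine Eq.trans (Finset.sum_congr rfl fun θ _ => ?_) h
  split_ifs with hl
  · rfl
  · simp [val_vanish hS hz hu hl]

/-- The traces of the three parts agree. -/
theorem trace_eq :
    ∑ θ ∈ part z M om, contribN 3 θ θ = ∑ θ ∈ part z M 1, contribN 3 θ θ ∧
      ∑ θ ∈ part z M (om ^ 2), contribN 3 θ θ = ∑ θ ∈ part z M 1, contribN 3 θ θ := by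
  classical
  haveI := hM.2.1
  letI := Fintype.ofFinite H
  set s := bset (Cfsg.principalBlock M H)
  have hzero : ∑ θ ∈ s, lamz z θ * (contribN 3 θ θ : ℂ) = 0 := by
    refine ((mul_eq_zero (a := (primeToCard 3 H : ℂ))).1 ?_).resolve_left
      (Nat.cast_ne_zero.2 (primeToCard_pos 3).ne')
    simp only [Finset.mul_sum, mul_left_comm (primeToCard 3 H : ℂ), ← regSum_eq_contribN,
      regSum_eq_sum]
    rw [Finset.sum_comm]
    refine Finset.sum_eq_zero fun g _ => ?_
    split_ifs with hg
    · simp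
    · have h := sum_block_eq_zero hM (g := z * g) (h := g)
        (x := z) (y := 1) ⟨g, rfl, hz g, Section.order_z hS, hg⟩ (isPPart_one_of_regular hg)
        (fun e => hS.zne (isConj_one_left.1 e)) (isPBlock_principalBlock (M := M))
      rw [finsum_mem_bset] at h
      refine Eq.trans (Finset.sum_congr rfl fun θ _ => ?_) h
      rw [apply_z hz]; ring
  have hne1 : om ≠ 1 := om_ne_one
  have hne2 : om ^ 2 ≠ 1 := fun h => om_ne_one (by
    have h3 := om_cube
    rwa [pow_succ, h, one_mul] at h3)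
  have hne3 : om ^ 2 ≠ om := fun h => om_ne_conj (h.symm.trans om_sq)
  set T := fun μ => ∑ θ ∈ part z M μ, contribN 3 θ θ
  have hsplit : ∑ θ ∈ s, lamz z θ * (contribN 3 θ θ : ℂ) =
      (T 1 : ℂ) + om * T om + om ^ 2 * T (om ^ 2) := by
    simp only [T, part, Finset.sum_filter]
    push_cast
    rw [Finset.mul_sum, Finset.mul_sum, ← Finset.sum_add_distrib, ← Finset.sum_add_distrib]
    refine Finset.sum_congr rfl fun θ _ => ?_
    rcases lam_cases hS hz θ with e | e | e <;> rw [e] <;>
      simp [hne1, hne2, hne3, hne1.symm, hne2.symm, hne3.symm]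
  rw [hsplit] at hzero
  obtain ⟨h1, h2⟩ := int_combination (a := T 1 - T (om ^ 2)) (b := T om - T (om ^ 2))
    (by push_cast; linear_combination hzero - (T (om ^ 2) : ℂ) * om_sq)
  exact ⟨by linarith, by linarith⟩

/-- The sizes of the parts. -/
theorem card_parts :
    (part z M om).card + r = (part z M 1).card ∧
      (part z M (om ^ 2)).card = (part z M om).card := by
  haveI := hM.2.1
  have hne2 : om ^ 2 ≠ 1 := fun h => om_ne_one (by
    have h3 := om_cube
    rwa [pow_succ, h, one_mul] at h3)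
  have hf : ∀ μ : ℂ, μ ≠ 1 →
      ∑ θ ∈ part z M μ, contribN 3 θ θ = 9 * ((part z M μ).card : ℤ) := by
    intro μ hμ
    rw [Finset.sum_congr rfl fun θ hθ => (contrib_faithful hS hz hu M hM hμ hθ hθ).trans
      (if_pos rfl), Finset.sum_const, nsmul_eq_mul, mul_comm]
  have h1 : ∑ θ ∈ part z M 1, contribN 3 θ θ = 9 * ((part z M 1).card : ℤ) - 9 * (r : ℤ) := by
    rw [Finset.sum_congr rfl fun θ hθ => (contrib_eq hS hz hu M hM (mem_part.1 hθ).1
      (mem_part.1 hθ).1 rfl).trans (by rw [if_pos rfl]), Finset.sum_sub_distrib,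
      Finset.sum_const, Finset.sum_comm, Finset.sum_congr rfl fun a _ =>
      (col_val hS hz hu M hM a a).trans (if_pos rfl)]
    simp [mul_comm]
  obtain ⟨e1, e2⟩ := trace_eq hS hz hu M hM
  rw [hf _ om_ne_one, h1] at e1
  rw [hf _ hne2, h1] at e2
  omega

omit hu in
/-- An expansion on the regular elements through the members with scalar one. -/
theorem exists_expansion {θ : Cfsg.IrrCharacter H} (hθ : θ ∈ Cfsg.principalBlock M H) :
    ∃ n : Cfsg.IrrCharacter H → ℤ, ∀ s : H, ¬ 3 ∣ orderOf s →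
      (θ : H → ℂ) s = ∑ η ∈ part z M 1, (n η : ℂ) * (η : H → ℂ) s := by
  classical
  haveI := hM.2.1
  letI := Fintype.ofFinite H
  haveI := Fintype.ofFinite (Cfsg.IrrCharacter H)
  obtain ⟨k, hk, hkreg, hgen⟩ := exists_regular_extension (p := 3) θ
  set F : H → ℂ := fun g => (θ : H → ℂ) (g ^ k)
  choose c hc using fun φ : Cfsg.IrrCharacter H =>
    Induced.Generalized.exists_classInner_int hgen (Induced.Generalized.of_irr φ)
  have hzk : z ^ k = 1 := by
    obtain ⟨t, ht⟩ := (dvd_pow_self 3 (by rw [sylow_exp hS]; norm_num)).trans hk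
    rw [ht, pow_mul, z3 hS, one_pow]
  have hc0 : ∀ φ : Cfsg.IrrCharacter H, lamz z φ ≠ 1 → c φ = 0 := by
    intro φ hl
    have h := hc φ
    have hsh : Cfsg.classInner F φ = conj (lamz z φ) * Cfsg.classInner F φ := by
      conv_rhs => rw [Cfsg.classInner, mul_left_comm, Finset.mul_sum]
      rw [Cfsg.classInner]
      refine congrArg _ (Fintype.sum_equiv (Equiv.mulLeft z⁻¹) _ _ fun g => ?_)
      rw [Equiv.coe_mulLeft]
      have e1 : F g = F (z⁻¹ * g) := by
        show (θ : H → ℂ) (g ^ k) = (θ : H → ℂ) ((z⁻¹ * g) ^ k)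
        rw [((hz g).inv_left).mul_pow, inv_pow, hzk, inv_one, one_mul]
      have e2 := apply_z hz φ (z⁻¹ * g)
      rw [mul_inv_cancel_left] at e2
      rw [e1, e2, map_mul]
      ring
    rw [h] at hsh
    have hne : conj (lamz z φ) - 1 ≠ 0 := sub_ne_zero.2 fun e => hl (by
      have := congrArg conj e
      rwa [Complex.conj_conj, map_one] at this)
    have h2 : (conj (lamz z φ) - 1) * (c φ : ℂ) = 0 := by linear_combination -hsh
    exact_mod_cast (mul_eq_zero.1 h2).resolve_left hne
  have hFcl : Cfsg.IsClassFunction H F := fun g h => by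
    show (θ : H → ℂ) ((h * g * h⁻¹) ^ k) = _
    rw [conj_pow, isClassFunction_irr θ]
  have hF : ∀ g, F g = ∑ φ : Cfsg.IrrCharacter H, (c φ : ℂ) * (φ : H → ℂ) g := by
    intro g
    have h := congrFun (Characters.Complete.classFunction_eq_sum hFcl) g
    simp only [Finset.sum_apply, Pi.smul_apply, smul_eq_mul] at h
    rw [h]
    exact Finset.sum_congr rfl fun φ _ => by rw [hc φ]
  set f : Cfsg.IrrCharacter H → ℂ := fun φ => (c φ : ℂ) - if φ = θ then 1 else 0 with hfdef
  have hrel : ∀ s : H, ¬ 3 ∣ orderOf s → ∑ φ, f φ * (φ : H → ℂ) s = 0 := by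
    intro s hs
    simp only [hfdef, sub_mul, ite_mul, one_mul, zero_mul, Finset.sum_sub_distrib,
      Finset.sum_ite_eq', Finset.mem_univ, if_true, ← hF s]
    show (θ : H → ℂ) (s ^ k) - _ = 0
    rw [hkreg s hs, sub_self]
  have hN : ∀ ζ ∈ bset (Cfsg.principalBlock M H),
      ∑ φ ∈ bset (Cfsg.principalBlock M H), f φ * (contribN 3 φ ζ : ℂ) = 0 := by
    intro ζ hζ
    rw [Finset.sum_subset (Finset.subset_univ _) fun φ _ hφ => by
      rw [contribN_comm, contribN_eq_zero hM isPBlock_principalBlock (mem_bset.1 hζ)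
        (fun h => hφ (mem_bset.2 h)), Int.cast_zero, mul_zero]]
    refine ((mul_eq_zero (a := (primeToCard 3 H : ℂ))).1 ?_).resolve_left
      (Nat.cast_ne_zero.2 (primeToCard_pos 3).ne')
    simp only [Finset.mul_sum, mul_left_comm (primeToCard 3 H : ℂ), ← regSum_eq_contribN,
      regSum_eq_sum]
    rw [Finset.sum_comm]
    refine Finset.sum_eq_zero fun g _ => ?_
    by_cases hg : 3 ∣ orderOf g
    · simp [hg]
    · simp only [if_neg hg, ← mul_assoc, ← Finset.sum_mul, hrel g hg, zero_mul]
  refine ⟨c, fun s hs => ?_⟩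
  have key : ∑ φ ∈ bset (Cfsg.principalBlock M H), f φ * (φ : H → ℂ) s = 0 := by
    refine ((mul_eq_zero (a := (3 : ℂ) ^ (Nat.card H).factorization 3)).1 ?_).resolve_left
      (pow_ne_zero _ (by norm_num))
    rw [Finset.mul_sum, Finset.sum_congr rfl fun φ hφ => show
      (3 : ℂ) ^ (Nat.card H).factorization 3 * (f φ * (φ : H → ℂ) s) =
        ∑ ζ ∈ bset (Cfsg.principalBlock M H), f φ * ((contribN 3 φ ζ : ℂ) * (ζ : H → ℂ) s) by
      have e := sum_bset_apply hM isPBlock_principalBlock (p := 3) (mem_bset.1 hφ) s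
      rw [if_neg hs] at e
      rw [← Finset.mul_sum, e]
      push_cast
      ring, Finset.sum_comm]
    refine Finset.sum_eq_zero fun ζ hζ => ?_
    simp only [← mul_assoc, ← Finset.sum_mul, hN ζ hζ, zero_mul]
  simp only [hfdef, sub_mul, ite_mul, one_mul, zero_mul, Finset.sum_sub_distrib,
    Finset.sum_ite_eq', if_pos (mem_bset.2 hθ)] at key
  rw [← sub_eq_zero.1 key, part, Finset.sum_filter]
  refine Finset.sum_congr rfl fun φ _ => ?_
  split_ifs with hl
  · rfl
  · rw [hc0 φ hl, Int.cast_zero, zero_mul]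

/-- The members with scalar `ω²` are the twists of those with scalar `ω`. -/
theorem exists_twin : ∃ tw : Cfsg.IrrCharacter H → Cfsg.IrrCharacter H,
    Set.InjOn tw (part z M om) ∧ (part z M om).image tw = part z M (om ^ 2) ∧
      ∀ θ (s : H), ¬ 3 ∣ orderOf s → (tw θ : H → ℂ) s = (θ : H → ℂ) s := by
  classical
  haveI := hM.2.1
  letI := Fintype.ofFinite H
  set n := primeToCard 3 H
  have hn3 : ¬ 3 ∣ n := not_dvd_primeToCard Nat.prime_three
  have hcop : Nat.Coprime 27 n :=
    ((Nat.prime_three.coprime_iff_not_dvd).2 hn3).pow_left 3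
  have hcard : 27 * n = Nat.card H := by
    have h := primeToCard_mul 3 H
    rwa [sylow_exp hS] at h
  obtain ⟨k, hk1, hk2⟩ := Nat.chineseRemainder hcop 26 1
  have hk : k.Coprime (Nat.card H) := by
    rw [← hcard, Nat.coprime_mul_iff_right]
    refine ⟨?_, ?_⟩
    · rw [Nat.coprime_iff_gcd_eq_one, hk1.gcd_eq]
      rfl
    · rw [Nat.coprime_iff_gcd_eq_one, hk2.gcd_eq, Nat.gcd_one_left]
  have hreg : ∀ g : H, ¬ 3 ∣ orderOf g → g ^ k = g := by
    intro g hg
    conv_rhs => rw [← pow_one g]
    refine pow_eq_pow_iff_modEq.2 (hk2.of_dvd (Nat.Coprime.dvd_of_dvd_mul_left ?_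
      (hcard.symm ▸ orderOf_dvd_natCard g)))
    exact ((Nat.prime_three.coprime_iff_not_dvd.2 hg).pow_left 3).symm
  set tw := SectionMatrix.twistChar (G := H) hk
  refine ⟨tw, (SectionMatrix.twistChar_injective hk).injOn, ?_, fun θ s hs => ?_⟩
  · refine Finset.eq_of_subset_of_card_le (fun φ hφ => ?_) ?_
    · simp only [Finset.mem_image] at hφ
      obtain ⟨θ, hθ, rfl⟩ := hφ
      rw [mem_part] at hθ ⊢
      refine ⟨SectionMatrix.twistChar_mem hM hk hreg isPBlock_principalBlock hθ.1, ?_⟩
      have hz2 : z ^ k = z * z := by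
        rw [← pow_two]
        refine pow_eq_pow_iff_modEq.2 ?_
        rw [z_order hS]
        exact (hk1.of_dvd (by norm_num : 3 ∣ 27)).trans rfl
      show (θ : H → ℂ) (z ^ k) / (θ : H → ℂ) (1 ^ k) = _
      rw [hz2, one_pow, apply_z hz, show (θ : H → ℂ) z = lamz z θ * (θ : H → ℂ) 1 by
        rw [← apply_z hz θ 1, mul_one], hθ.2, pow_two]
      field_simp [char_one_ne_zero θ]
    · refine ((card_parts hS hz hu M hM).2).le.trans (le_of_eq ?_)
      convert (Finset.card_image_of_injOn (SectionMatrix.twistChar_injective hk).injOn).symm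
  · show (θ : H → ℂ) (s ^ k) = _
    rw [hreg s hs]

end Cfsg.Agent.Lib.BC77.ThreeExtra.Centre
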