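import Cfsg.Agent.Lib.BC77.ThreeExtra.Group

/-!
# The classes of elements outside the centre

With `e` the index of `P C(P)` in the normaliser there are `8 / e` classes of elements of `P`
outside the centre, real when `e` is even.
-/

set_option autoImplicit false
set_option linter.style.haveILetI false

namespace Cfsg.Agent.Lib.BC77.ThreeExtra.Classes

open Cfsg.Agent.Lib.BC77.ThreeExtra.Group

universe u

local instance : Fact (Nat.Prime 3) := ⟨Nat.prime_three⟩

variable {G : Type u} [Group G] [Finite G]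

/-- Representatives of the classes outside the centre. -/
structure Reps (P : Sylow 3 G) (z : G) {r : ℕ} (u : Fin r → G) : Prop where
  mem : ∀ a, u a ∈ (P : Subgroup G)
  out : ∀ a, u a ∉ Subgroup.zpowers z
  inj : ∀ a b, IsConj (u a) (u b) → a = b
  cover : ∀ x ∈ (P : Subgroup G), x ∉ Subgroup.zpowers z → ∃ a, IsConj x (u a)
  real : ∀ a, ∃ g : G, Commute g z ∧ g * u a * g⁻¹ = (u a)⁻¹

/-- The stabiliser of a coset of the centre. -/
def stab (z a : G) : Subgroup G where
  carrier := {m | Commute m z ∧ ∃ w ∈ Subgroup.zpowers z, m * a * m⁻¹ = a * w}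
  one_mem' := ⟨Commute.one_left z, 1, one_mem _, by simp⟩
  mul_mem' := by
    rintro m m' ⟨hm, w, hw, e⟩ ⟨hm', w', hw', e'⟩
    refine ⟨hm.mul_left hm', w * w', mul_mem hw hw', ?_⟩
    obtain ⟨k, rfl⟩ := Subgroup.mem_zpowers_iff.1 hw'
    calc m * m' * a * (m * m')⁻¹ = m * (m' * a * m'⁻¹) * m⁻¹ := by group
      _ = (m * a * m⁻¹) * (m * z ^ k * m⁻¹) := by rw [e']; group
      _ = a * (w * z ^ k) := by
          rw [e, (hm.zpow_right k).eq, mul_inv_cancel_right, mul_assoc]
  inv_mem' := by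
    rintro m ⟨hm, w, hw, e⟩
    refine ⟨hm.inv_left, w⁻¹, inv_mem hw, ?_⟩
    obtain ⟨k, rfl⟩ := Subgroup.mem_zpowers_iff.1 hw
    have e' : m * (a * (z ^ k)⁻¹) * m⁻¹ = a := by
      calc m * (a * (z ^ k)⁻¹) * m⁻¹ = (m * a * m⁻¹) * (m * z ^ k * m⁻¹)⁻¹ := by group
        _ = a := by rw [e, (hm.zpow_right k).eq, mul_inv_cancel_right]; group
    calc m⁻¹ * a * m⁻¹⁻¹ = m⁻¹ * (m * (a * (z ^ k)⁻¹) * m⁻¹) * m := by rw [e', inv_inv]
      _ = a * (z ^ k)⁻¹ := by group

/-- The inertial subgroup `P C(P)`. -/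
abbrev pc (P : Sylow 3 G) : Subgroup G :=
  (P : Subgroup G) ⊔ Subgroup.centralizer ((P : Subgroup G) : Set G)

theorem pc_le (P : Sylow 3 G) : pc P ≤ Subgroup.normalizer ((P : Subgroup G) : Set G) :=
  sup_le Subgroup.le_normalizer fun c hc => Subgroup.mem_normalizer_iff.2 fun x =>
    ⟨fun hx => by
      rw [← Subgroup.mem_centralizer_iff.1 hc x hx, mul_inv_cancel_right]; exact hx,
    fun hx => by
      have h := Subgroup.mem_centralizer_iff.1 (inv_mem hc) _ hx
      have e : x = c * x * c⁻¹ := by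
        calc x = c⁻¹ * (c * x * c⁻¹) * c := by group
          _ = c * x * c⁻¹ := by rw [← h]; group
      rw [e]; exact hx⟩

theorem pc_normal (P : Sylow 3 G) :
    ((pc P).subgroupOf (Subgroup.normalizer ((P : Subgroup G) : Set G))).Normal := by
  refine ⟨fun m hm n => ?_⟩
  rw [Subgroup.mem_subgroupOf] at hm ⊢
  have hn := n.2
  have hle : (pc P).map (MulAut.conj (n : G)).toMonoidHom ≤ pc P := by
    rw [Subgroup.map_sup]
    refine sup_le ?_ ?_
    · rintro _ ⟨x, hx, rfl⟩
      exact Subgroup.mem_sup_left ((Subgroup.mem_normalizer_iff.1 hn x).1 hx)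
    · rintro _ ⟨x, hx, rfl⟩
      refine Subgroup.mem_sup_right (Subgroup.mem_centralizer_iff.2 fun y hy => ?_)
      show y * ((n : G) * x * (n : G)⁻¹) = (n : G) * x * (n : G)⁻¹ * y
      have hy' : (n : G)⁻¹ * y * n ∈ (P : Subgroup G) := by
        have := (Subgroup.mem_normalizer_iff.1 (inv_mem hn) y).1 hy
        rwa [inv_inv] at this
      have h := Subgroup.mem_centralizer_iff.1 hx _ hy'
      calc y * ((n : G) * x * (n : G)⁻¹) = n * (((n : G)⁻¹ * y * n) * x) * (n : G)⁻¹ := by group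
        _ = (n : G) * x * (n : G)⁻¹ * y := by rw [h]; group
  exact hle ⟨(m : G), hm, rfl⟩

theorem pc_coprime (P : Sylow 3 G) :
    ¬ 3 ∣ ((pc P).subgroupOf (Subgroup.normalizer ((P : Subgroup G) : Set G))).index := by
  intro h
  have h1 : (pc P).relIndex (Subgroup.normalizer ((P : Subgroup G) : Set G)) ∣
      (P : Subgroup G).relIndex (Subgroup.normalizer ((P : Subgroup G) : Set G)) :=
    Subgroup.relIndex_dvd_of_le_left _ le_sup_left
  have hle : (P : Subgroup G) ≤ Subgroup.normalizer ((P : Subgroup G) : Set G) :=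
    Subgroup.le_normalizer
  exact P.not_dvd_index (h.trans (h1.trans (Dvd.intro _ (Subgroup.relIndex_mul_index hle))))

variable {P : Sylow 3 G} {z : G} (hS : Setup P z)

include hS

theorem pc_le_stab {a : G} (ha : a ∈ (P : Subgroup G)) : pc P ≤ stab z a := by
  refine sup_le (fun p hp => ?_) fun c hc => ?_
  · obtain ⟨k, hk⟩ := Subgroup.mem_zpowers_iff.1 (hS.comm p hp a ha)
    exact ⟨(hS.zc p hp).symm, z ^ k, Subgroup.zpow_mem_zpowers z k,
      by rw [← ((hS.zc a ha).zpow_left k).eq, hk, inv_mul_cancel_right]⟩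
  · refine ⟨(Subgroup.mem_centralizer_iff.1 hc z hS.zmem).symm, 1, one_mem _, ?_⟩
    rw [← Subgroup.mem_centralizer_iff.1 hc a ha, mul_inv_cancel_right, mul_one]

/-- An element of the normaliser fixing a coset of the centre lies in `P C(P)`. -/
theorem fix_mem {a g : G} (ha : a ∈ (P : Subgroup G)) (haz : a ∉ Subgroup.zpowers z)
    (hg : g ∈ Subgroup.normalizer ((P : Subgroup G) : Set G))
    (hga : ∃ w ∈ Subgroup.zpowers z, g * a * g⁻¹ = a * w) : g ∈ pc P := by
  obtain ⟨w, hw, hga⟩ := hga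
  obtain ⟨p, hp, hpa⟩ := exists_shift_pow hS ha haz (inv_mem hw)
  set g' := p * g with hg'
  have hg'N : g' ∈ Subgroup.normalizer ((P : Subgroup G) : Set G) :=
    mul_mem (Subgroup.le_normalizer hp) hg
  have hg'z : Commute g' z := hS.norm g' hg'N
  have hg'a : g' * a * g'⁻¹ = a := by
    obtain ⟨k, rfl⟩ := Subgroup.mem_zpowers_iff.1 hw
    calc g' * a * g'⁻¹ = p * (g * a * g⁻¹) * p⁻¹ := by rw [hg']; group
      _ = (p * a * p⁻¹) * (p * z ^ k * p⁻¹) := by rw [hga]; group
      _ = a := by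
          rw [hpa, ((hS.zc p hp).symm.zpow_right k).eq, mul_inv_cancel_right, inv_mul_cancel_right]
  have hgE : ∀ y ∈ EP P a, g' * y * g'⁻¹ = y := fun y hy => by
    have h := Subgroup.mem_centralizer_singleton_iff.1
      (EP_le hS ha haz (S := Subgroup.centralizer ({g'} : Set G))
        (Subgroup.mem_centralizer_singleton_iff.2 hg'z.eq.symm)
        (Subgroup.mem_centralizer_singleton_iff.2 (mul_inv_eq_iff_eq_mul.1 hg'a).symm) hy)
    exact mul_inv_eq_iff_eq_mul.2 h.symm
  have h3 : g' ^ 3 ∈ Subgroup.centralizer ((P : Subgroup G) : Set G) := by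
    refine Subgroup.mem_centralizer_iff.2 fun q hq0 => ?_
    have hq : q ∈ (P : Subgroup G) := hq0
    have hq' : g' * q * g'⁻¹ ∈ (P : Subgroup G) := (Subgroup.mem_normalizer_iff.1 hg'N q).1 hq
    set d := q⁻¹ * (g' * q * g'⁻¹) with hd
    have hdE : d ∈ EP P a := by
      refine ⟨(P : Subgroup G).mul_mem ((P : Subgroup G).inv_mem hq) hq', Subgroup.mem_centralizer_singleton_iff.2 ?_⟩
      obtain ⟨k, hk⟩ := Subgroup.mem_zpowers_iff.1 (hS.comm q hq a ha)
      have e1 : q * a * q⁻¹ = a * z ^ k := by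
        rw [← ((hS.zc a ha).zpow_left k).eq, hk, inv_mul_cancel_right]
      have e2 : (g' * q * g'⁻¹) * a * (g' * q * g'⁻¹)⁻¹ = a * z ^ k := by
        calc (g' * q * g'⁻¹) * a * (g' * q * g'⁻¹)⁻¹
            = g' * q * (g'⁻¹ * (g' * a * g'⁻¹) * g') * q⁻¹ * g'⁻¹ := by rw [hg'a]; group
          _ = g' * (q * a * q⁻¹) * g'⁻¹ := by group
          _ = (g' * a * g'⁻¹) * (g' * z ^ k * g'⁻¹) := by rw [e1]; group
          _ = a * z ^ k := by rw [hg'a, (hg'z.zpow_right k).eq, mul_inv_cancel_right]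
      have h : d * a * d⁻¹ = a := by
        calc d * a * d⁻¹ = q⁻¹ * ((g' * q * g'⁻¹) * a * (g' * q * g'⁻¹)⁻¹) * q := by
              rw [hd]; group
          _ = q⁻¹ * (q * a * q⁻¹) * q := by rw [e2, e1]
          _ = a := by group
      exact mul_inv_eq_iff_eq_mul.1 h
    have hs : g' * q * g'⁻¹ = q * d := by rw [hd, mul_inv_cancel_left]
    have hd1 := hgE d hdE
    have e3 : g' ^ 3 * q * (g' ^ 3)⁻¹ = q := by
      calc g' ^ 3 * q * (g' ^ 3)⁻¹ = g' * (g' * (g' * q * g'⁻¹) * g'⁻¹) * g'⁻¹ := by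
            simp [pow_succ, mul_assoc]
        _ = g' * (g' * (q * d) * g'⁻¹) * g'⁻¹ := by rw [hs]
        _ = g' * (g' * q * g'⁻¹ * (g' * d * g'⁻¹)) * g'⁻¹ := by group
        _ = g' * (q * d * d) * g'⁻¹ := by rw [hs, hd1]
        _ = (g' * q * g'⁻¹) * (g' * d * g'⁻¹) * (g' * d * g'⁻¹) := by group
        _ = q * d ^ 3 := by rw [hs, hd1]; simp [pow_succ, mul_assoc]
        _ = q := by rw [hS.cube d hdE.1, mul_one]
    exact (mul_inv_eq_iff_eq_mul.1 e3).symm
  haveI := pc_normal P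
  have hmem : g' ∈ pc P := by
    set K := (pc P).subgroupOf (Subgroup.normalizer ((P : Subgroup G) : Set G))
    have h1 : ((⟨g', hg'N⟩ : Subgroup.normalizer ((P : Subgroup G) : Set G)) :
        _ ⧸ K) ^ 3 = 1 := by
      rw [← QuotientGroup.mk_pow, QuotientGroup.eq_one_iff]
      exact Subgroup.mem_sup_right h3
    have h2 := (QuotientGroup.eq_one_iff (N := K) _).1 (orderOf_eq_one_iff.1
      (Nat.eq_one_of_dvd_coprimes ((Nat.prime_three.coprime_iff_not_dvd).2 (pc_coprime P))
        (orderOf_dvd_of_pow_eq_one h1) (K.index_eq_card ▸ orderOf_dvd_natCard _)))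
    exact h2
  have hpp : p ∈ pc P := Subgroup.mem_sup_left hp
  simpa [hg'] using mul_mem (inv_mem hpp) hmem

/-- An element of even inertial index makes the classes real. -/
theorem exists_real (he : 2 ∣ (pc P).relIndex (Subgroup.normalizer ((P : Subgroup G) : Set G)))
    {a : G} (ha : a ∈ (P : Subgroup G)) (haz : a ∉ Subgroup.zpowers z) :
    ∃ g : G, Commute g z ∧ g * a * g⁻¹ = a⁻¹ := by
  haveI := pc_normal P
  set N := Subgroup.normalizer ((P : Subgroup G) : Set G)
  rw [Subgroup.relIndex, Subgroup.index_eq_card] at he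
  obtain ⟨q, hq⟩ := exists_prime_orderOf_dvd_card' (G := N ⧸ (pc P).subgroupOf N) 2 he
  obtain ⟨t, rfl⟩ := QuotientGroup.mk_surjective q
  have ht2 : (t : G) * t ∈ pc P := by
    have h := pow_orderOf_eq_one ((t : N) : N ⧸ (pc P).subgroupOf N)
    rw [hq, pow_two, ← QuotientGroup.mk_mul, QuotientGroup.eq_one_iff] at h
    exact h
  have htpc : (t : G) ∉ pc P := fun h => by
    rw [(QuotientGroup.eq_one_iff t).2 h, orderOf_one] at hq
    omega
  have htz : Commute (t : G) z := hS.norm t t.2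
  set b := (t : G) * a * (t : G)⁻¹ with hb
  have hbP : b ∈ (P : Subgroup G) := (Subgroup.mem_normalizer_iff.1 t.2 a).1 ha
  obtain ⟨-, v, hv, hv'⟩ := pc_le_stab hS ha ht2
  have htb : (t : G) * b * (t : G)⁻¹ = a * v := by
    rw [← hv', hb]; group
  have hw : a * b ∈ Subgroup.zpowers z := by
    by_contra hw
    refine htpc (fix_mem hS (mul_mem ha hbP) hw t.2 ?_)
    obtain ⟨k, hk⟩ := Subgroup.mem_zpowers_iff.1 (hS.comm b hbP a ha)
    obtain ⟨j, rfl⟩ := Subgroup.mem_zpowers_iff.1 hv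
    refine ⟨z ^ k * z ^ j, mul_mem (Subgroup.zpow_mem_zpowers z k)
      (Subgroup.zpow_mem_zpowers z j), ?_⟩
    have hab : b * a = z ^ k * (a * b) := by rw [hk]; group
    have hzab : Commute (z ^ k) (a * b) := ((hS.zc _ (mul_mem ha hbP)).zpow_left k)
    calc (t : G) * (a * b) * (t : G)⁻¹ = ((t : G) * a * (t : G)⁻¹) * ((t : G) * b * (t : G)⁻¹) := by
          group
      _ = b * a * z ^ j := by rw [htb, ← hb, ← mul_assoc]
      _ = a * b * (z ^ k * z ^ j) := by rw [hab, hzab.eq, mul_assoc]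
  obtain ⟨j, hj⟩ := Subgroup.mem_zpowers_iff.1 hw
  have hbe : b = a⁻¹ * z ^ j := by rw [hj]; group
  have hai : a⁻¹ ∉ Subgroup.zpowers z := fun h => haz (by simpa using inv_mem h)
  obtain ⟨p, hp, hpa⟩ := exists_shift_pow hS (inv_mem ha) hai
    (inv_mem (Subgroup.zpow_mem_zpowers z j))
  refine ⟨p * t, (hS.zc p hp).symm.mul_left htz, ?_⟩
  calc p * (t : G) * a * (p * (t : G))⁻¹ = p * b * p⁻¹ := by rw [hb]; group
    _ = (p * a⁻¹ * p⁻¹) * (p * z ^ j * p⁻¹) := by rw [hbe]; group
    _ = a⁻¹ := by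
        rw [hpa, ((hS.zc p hp).symm.zpow_right j).eq, mul_inv_cancel_right, inv_mul_cancel_right]

omit hS in
/-- The elements outside the centre. -/
abbrev Outer (P : Sylow 3 G) (z : G) : Type u :=
  {x : G // x ∈ (P : Subgroup G) ∧ x ∉ Subgroup.zpowers z}

theorem card_outer : Nat.card (Outer P z) = 24 := by
  have h := Set.ncard_sdiff_add_ncard_of_subset
    (s := (Subgroup.zpowers z : Set G)) (t := ((P : Subgroup G) : Set G))
    (fun x hx => zpowers_le hS hx)
  rw [show (Subgroup.zpowers z : Set G).ncard = 3 from card_zpowers hS,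
    show ((P : Subgroup G) : Set G).ncard = 27 from hS.card] at h
  have e : Nat.card (Outer P z) =
      (((P : Subgroup G) : Set G) \ (Subgroup.zpowers z : Set G)).ncard := rfl
  omega

/-- The size of a class outside the centre. -/
theorem card_class (a : Outer P z) :
    Nat.card {x : Outer P z // IsConj (a : G) (x : G)} =
      (pc P).relIndex (Subgroup.normalizer ((P : Subgroup G) : Set G)) * 3 := by
  set N := Subgroup.normalizer ((P : Subgroup G) : Set G)
  haveI := pc_normal P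
  have e : Nat.card ((N ⧸ (pc P).subgroupOf N) × Subgroup.zpowers z) =
      (pc P).relIndex N * 3 := by
    rw [Nat.card_prod, card_zpowers hS, Subgroup.relIndex, Subgroup.index_eq_card]
  rw [← e]
  let f : (N ⧸ (pc P).subgroupOf N) × Subgroup.zpowers z → G := fun qw =>
    (qw.1.out : G) * (a : G) * (qw.1.out : G)⁻¹ * (qw.2 : G)
  have hval : ∀ (n : N) (w : G), w ∈ Subgroup.zpowers z →
      ∃ g : G, g * (a : G) * g⁻¹ = (n : G) * a * (n : G)⁻¹ * w := by
    intro n w hw
    obtain ⟨p, hp, hpa⟩ := exists_shift_pow hS a.2.1 a.2.2 hw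
    refine ⟨n * p, ?_⟩
    obtain ⟨k, rfl⟩ := Subgroup.mem_zpowers_iff.1 hw
    calc (n : G) * p * a * ((n : G) * p)⁻¹ = n * (p * a * p⁻¹) * (n : G)⁻¹ := by group
      _ = (n : G) * a * (n : G)⁻¹ * ((n : G) * z ^ k * (n : G)⁻¹) := by rw [hpa]; group
      _ = (n : G) * a * (n : G)⁻¹ * z ^ k := by
          rw [((hS.norm n n.2).zpow_right k).eq, mul_inv_cancel_right]
  have hfP : ∀ qw, f qw ∈ (P : Subgroup G) := fun qw =>
    mul_mem ((Subgroup.mem_normalizer_iff.1 qw.1.out.2 _).1 a.2.1) (zpowers_le hS qw.2.2)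
  have hfz : ∀ qw, f qw ∉ Subgroup.zpowers z := fun qw h => by
    obtain ⟨g, hg⟩ := hval qw.1.out qw.2 qw.2.2
    exact conj_notMem hS a.2.1 a.2.2 (g := g) (by rw [hg]; exact h)
  have hfc : ∀ qw, IsConj (a : G) (f qw) := fun qw => isConj_iff.2 (hval qw.1.out qw.2 qw.2.2)
  refine (Nat.card_eq_of_bijective (fun qw => (⟨⟨f qw, hfP qw, hfz qw⟩, hfc qw⟩ :
    {x : Outer P z // IsConj (a : G) (x : G)})) ⟨?_, ?_⟩).symm
  · rintro ⟨q, w⟩ ⟨q', w'⟩ h
    have h' : (q.out : G) * (a : G) * (q.out : G)⁻¹ * (w : G) =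
        (q'.out : G) * (a : G) * (q'.out : G)⁻¹ * (w' : G) :=
      congrArg (fun x => ((x.1 : Outer P z) : G)) h
    have hq : q = q' := by
      refine (q.out_eq'.symm.trans ?_).trans q'.out_eq'
      rw [QuotientGroup.eq, Subgroup.mem_subgroupOf]
      refine fix_mem hS a.2.1 a.2.2 ((q.out)⁻¹ * q'.out).2
        ⟨(w : G) * (w' : G)⁻¹, mul_mem w.2 (inv_mem w'.2), ?_⟩
      obtain ⟨k, hk⟩ := Subgroup.mem_zpowers_iff.1 (mul_mem w.2 (inv_mem w'.2))
      calc ((q.out⁻¹ * q'.out : N) : G) * a * ((q.out⁻¹ * q'.out : N) : G)⁻¹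
          = (q.out : G)⁻¹ * ((q'.out : G) * (a : G) * (q'.out : G)⁻¹ * (w' : G)) * (w' : G)⁻¹ *
              q.out := by push_cast; group
        _ = (a : G) * ((q.out : G)⁻¹ * ((w : G) * (w' : G)⁻¹) * q.out) := by rw [← h']; group
        _ = (a : G) * ((w : G) * (w' : G)⁻¹) := by
            rw [← hk, mul_assoc _ (z ^ k), ← ((hS.norm _ q.out.2).zpow_right k).eq,
              inv_mul_cancel_left]
    subst hq
    exact Prod.ext rfl (Subtype.ext (mul_left_cancel h'))
  · rintro ⟨⟨x, hx, hxz⟩, hc⟩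
    obtain ⟨g, hg⟩ := isConj_iff.1 hc
    obtain ⟨n, hn, hna⟩ := fusion hS a.2.1 a.2.2 (g := g) (by rw [hg]; exact hx)
    rw [hg] at hna
    replace hna : n * (a : G) * n⁻¹ = x := hna
    set q : N ⧸ (pc P).subgroupOf N := ((⟨n, hn⟩ : N) : N ⧸ (pc P).subgroupOf N) with hqdef
    have hk : (q.out : G)⁻¹ * n ∈ pc P := by
      have := q.out_eq'
      rw [hqdef, QuotientGroup.eq, Subgroup.mem_subgroupOf] at this
      exact this
    obtain ⟨-, w, hw, hwa⟩ := pc_le_stab hS a.2.1 hk
    refine ⟨(q, ⟨w, hw⟩), Subtype.ext (Subtype.ext ?_)⟩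
    show (q.out : G) * (a : G) * (q.out : G)⁻¹ * w = x
    obtain ⟨k, rfl⟩ := Subgroup.mem_zpowers_iff.1 hw
    calc (q.out : G) * (a : G) * (q.out : G)⁻¹ * z ^ k
        = (q.out : G) * (a : G) * (q.out : G)⁻¹ * ((q.out : G) * z ^ k * (q.out : G)⁻¹) := by
          rw [((hS.norm _ q.out.2).zpow_right k).eq, mul_inv_cancel_right]
      _ = (q.out : G) * ((a : G) * z ^ k) * (q.out : G)⁻¹ := by group
      _ = x := by rw [← hwa, ← hna]; group

/-- The classes outside the centre. -/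
theorem exists_reps {e : ℕ}
    (he : (pc P).relIndex (Subgroup.normalizer ((P : Subgroup G) : Set G)) = e) (h2 : 2 ∣ e) :
    ∃ (r : ℕ) (u : Fin r → G), r * e = 8 ∧ Reps P z u := by
  classical
  let s : Setoid (Outer P z) :=
    ⟨fun x y => IsConj (x : G) (y : G), ⟨fun x => IsConj.refl _, fun h => h.symm,
      fun h h' => h.trans h'⟩⟩
  haveI : Fintype (Outer P z) := Fintype.ofFinite _
  haveI : Fintype (Quotient s) := Fintype.ofFinite _
  let ε := Fintype.equivFin (Quotient s)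
  refine ⟨Fintype.card (Quotient s), fun a => ((ε.symm a).out : G), ?_,
    fun a => (ε.symm a).out.2.1, fun a => (ε.symm a).out.2.2, fun a b h => ?_, fun x hx hxz => ?_,
    fun a => exists_real hS (he ▸ h2) (ε.symm a).out.2.1 (ε.symm a).out.2.2⟩
  · have h := Fintype.card_congr (Equiv.sigmaFiberEquiv (fun x : Outer P z => Quotient.mk s x))
    have hf : ∀ c : Quotient s, Fintype.card {x : Outer P z // Quotient.mk s x = c} = e * 3 := by
      intro c
      rw [← he, ← card_class hS c.out, Nat.card_eq_fintype_card]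
      refine Fintype.card_congr (Equiv.subtypeEquivRight fun x => ?_)
      conv_lhs => rw [← c.out_eq]
      exact ⟨fun h => (Quotient.exact h).symm, fun h => Quotient.sound h.symm⟩
    rw [Fintype.card_sigma, Finset.sum_congr rfl fun c _ => hf c, Finset.sum_const,
      Finset.card_univ, ← Nat.card_eq_fintype_card (α := Outer P z), card_outer hS,
      smul_eq_mul, ← mul_assoc] at h
    show Fintype.card (Quotient s) * e = 8
    omega
  · exact ε.symm.injective ((Quotient.out_eq _).symm.trans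
      ((Quotient.sound h).trans (Quotient.out_eq _)))
  · refine ⟨ε (Quotient.mk s ⟨x, hx, hxz⟩), ?_⟩
    rw [Equiv.symm_apply_apply]
    exact (Quotient.exact (Quotient.out_eq (Quotient.mk s ⟨x, hx, hxz⟩))).symm

/-- With trivial inertial index there is a normal 3-complement. -/
theorem complement_of_one
    (he : (pc P).relIndex (Subgroup.normalizer ((P : Subgroup G) : Set G)) = 1) :
    Cfsg.HasNormalPComplement 3 G := by
  refine Transfer.Fusion.hasNormalPComplement_of_controls P fun x hx g hgx => ?_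
  by_cases hxz : x ∈ Subgroup.zpowers z
  · refine ⟨1, one_mem _, ?_⟩
    rcases eq_or_ne x 1 with rfl | hx1
    · simp
    · obtain ⟨k, rfl⟩ := Subgroup.mem_zpowers_iff.1 hxz
      rw [((isolated_pow hS hxz hx1 hgx).zpow_right k).eq, mul_inv_cancel_right]
      simp
  · obtain ⟨n, hn, hnx⟩ := fusion hS hx hxz hgx
    obtain ⟨-, w, hw, hwx⟩ := pc_le_stab hS hx (Subgroup.relIndex_eq_one.1 he hn)
    obtain ⟨p, hp, hpx⟩ := exists_shift_pow hS hx hxz hw
    exact ⟨p, hp, hpx.trans (hwx.symm.trans hnx)⟩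

/-- The setup in the centraliser of `z`. -/
theorem cent_le : (P : Subgroup G) ≤ Subgroup.centralizer ({z} : Set G) :=
  fun y hy => Subgroup.mem_centralizer_singleton_iff.2 (hS.zc y hy).eq.symm

/-- The Sylow subgroup of the centraliser of `z`. -/
def centSylow : Sylow 3 (Subgroup.centralizer ({z} : Set G)) := P.subtype (cent_le hS)

/-- The element `z` in its centraliser. -/
def centZ : Subgroup.centralizer ({z} : Set G) := ⟨z, cent_le hS hS.zmem⟩

theorem mem_centSylow {x : Subgroup.centralizer ({z} : Set G)} :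
    x ∈ (centSylow hS : Subgroup _) ↔ (x : G) ∈ (P : Subgroup G) := Iff.rfl

theorem mem_zpowers_cent {x : Subgroup.centralizer ({z} : Set G)} :
    x ∈ Subgroup.zpowers (centZ hS) ↔ (x : G) ∈ Subgroup.zpowers z := by
  rw [Subgroup.mem_zpowers_iff, Subgroup.mem_zpowers_iff]
  exact exists_congr fun k => Subtype.ext_iff.trans (by rw [Subgroup.coe_zpow]; rfl)

theorem centZ_commute (x : Subgroup.centralizer ({z} : Set G)) : Commute (centZ hS) x :=
  Subtype.ext (Subgroup.mem_centralizer_singleton_iff.1 x.2).symm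

theorem setup_cent : Setup (centSylow hS) (centZ hS) where
  card := by
    rw [show (centSylow hS : Subgroup _) =
      (P : Subgroup G).subgroupOf (Subgroup.centralizer ({z} : Set G)) from rfl,
      Nat.card_congr (Subgroup.subgroupOfEquivOfLe (cent_le hS)).toEquiv, hS.card]
  cube x hx := Subtype.ext (by rw [Subgroup.coe_pow]; exact hS.cube x hx)
  zmem := hS.zmem
  zne h := hS.zne (congrArg Subtype.val h)
  zc y _ := centZ_commute hS y
  center c hc h := (mem_zpowers_cent hS).2 (hS.center c hc fun y hy =>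
    congrArg Subtype.val (h ⟨y, cent_le hS hy⟩ hy).eq)
  comm a ha b hb := (mem_zpowers_cent hS).2 (hS.comm a ha b hb)
  norm g _ := (centZ_commute hS g).symm

/-- The classes in the centraliser of `z`. -/
theorem reps_cent {r : ℕ} {u : Fin r → G} (hu : Reps P z u) :
    Reps (centSylow hS) (centZ hS) (fun a => (⟨u a, cent_le hS (hu.mem a)⟩ :
      Subgroup.centralizer ({z} : Set G))) where
  mem a := hu.mem a
  out a h := hu.out a ((mem_zpowers_cent hS).1 h)
  inj a b h := by
    obtain ⟨c, hc⟩ := isConj_iff.1 h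
    exact hu.inj a b (isConj_iff.2 ⟨(c : G), congrArg Subtype.val hc⟩)
  cover x hx hxz := by
    have hxz' : (x : G) ∉ Subgroup.zpowers z := fun h => hxz ((mem_zpowers_cent hS).2 h)
    obtain ⟨a, ha⟩ := hu.cover x hx hxz'
    obtain ⟨g, hg⟩ := isConj_iff.1 ha
    obtain ⟨n, hn, hnx⟩ := fusion hS hx hxz' (g := g) (by
      show g * (x : G) * g⁻¹ ∈ (P : Subgroup G)
      rw [hg]; exact hu.mem a)
    exact ⟨a, isConj_iff.2 ⟨⟨n, Subgroup.mem_centralizer_singleton_iff.2 (hS.norm n hn).eq⟩,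
      Subtype.ext (hnx.trans hg)⟩⟩
  real a := by
    obtain ⟨g, hgz, hg⟩ := hu.real a
    exact ⟨⟨g, Subgroup.mem_centralizer_singleton_iff.2 hgz.eq⟩,
      (centZ_commute hS _).symm, Subtype.ext hg⟩

end Cfsg.Agent.Lib.BC77.ThreeExtra.Classes
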