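import Cfsg.Agent.Lib.BC77.ThreeExtra.Shape

/-!
# Coordinates of the principal block on the section of the centre

A member `χ` of the principal block has on `z y`, `y` regular in `C(z)`, the value
`∑ i, (s i + ω t i) ê i (y)` over the six signed members with scalar one; the vector `t` lies in
the span of the vectors of the faithful members.
-/

set_option autoImplicit false
set_option linter.style.haveILetI false

namespace Cfsg.Agent.Lib.BC77.ThreeExtra.Coords

open Cfsg.Agent.Lib.Blocks hiding lin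
open Cfsg.Agent.Lib.Blocks.Contrib Cfsg.Agent.Lib.Characters.Basic
open Cfsg.Agent.Lib.BrauerMap
open Cfsg.Agent.Lib.BC77.ThreeExtra.Group Cfsg.Agent.Lib.BC77.ThreeExtra.Classes
open Cfsg.Agent.Lib.BC77.ThreeExtra.Values Cfsg.Agent.Lib.BC77.ThreeExtra.Forms
open Cfsg.Agent.Lib.BC77.ThreeExtra.Centre
open scoped ComplexConjugate

universe u

local instance : Fact (Nat.Prime 3) := ⟨Nat.prime_three⟩

attribute [local instance] Classical.propDecidable

/-- The bilinear form. -/
def qb (c : Cfg) (p q : V6) : ℤ := 9 * ∑ i, p i * q i - ∑ a, lin (c.d a) p * lin (c.d a) q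

theorem qb_self (c : Cfg) (p : V6) : qb c p p = c.qf p := by
  simp only [qb, Cfg.qf, qsum, pow_two]

/-- The Hermitian form. -/
noncomputable def qc (c : Cfg) (p q : Fin 6 → ℂ) : ℂ :=
  9 * ∑ i, p i * conj (q i) -
    ∑ a, (∑ i, (c.d a i : ℂ) * p i) * conj (∑ i, (c.d a i : ℂ) * q i)

theorem qc_int (c : Cfg) (p q : V6) :
    qc c (fun i => (p i : ℂ)) (fun i => (q i : ℂ)) = (qb c p q : ℂ) := by
  simp only [qc, qb, lin, map_sum, map_mul, map_intCast]
  push_cast
  ring

theorem qc_mixed (c : Cfg) (s t q : V6) :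
    qc c (fun i => (s i : ℂ) + om * t i) (fun i => (q i : ℂ)) =
      (qb c s q : ℂ) + om * qb c t q := by
  simp only [qc, qb, lin, map_sum, map_mul, map_intCast, add_mul, mul_add, Finset.sum_add_distrib,
    mul_left_comm _ om, ← Finset.mul_sum, mul_assoc]
  push_cast
  ring

theorem nrm_cast (a b : ℤ) :
    ((a : ℂ) + om * b) * conj ((a : ℂ) + om * b) = (nrm a b : ℂ) := by
  simp only [map_add, map_mul, map_intCast, conj_om, nrm]
  push_cast
  linear_combination -(b : ℂ) ^ 2 * om_sq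

theorem qc_self (c : Cfg) (s t : V6) :
    qc c (fun i => (s i : ℂ) + om * t i) (fun i => (s i : ℂ) + om * t i) =
      (c.qfC s t : ℂ) := by
  simp only [qc, Cfg.qfC, qsumC, nrm_cast]
  push_cast
  congr 1
  refine Finset.sum_congr rfl fun a _ => ?_
  rw [show ∑ i, (c.d a i : ℂ) * ((s i : ℂ) + om * t i) =
    ((lin (c.d a) s : ℤ) : ℂ) + om * ((lin (c.d a) t : ℤ) : ℂ) from ?_, nrm_cast]
  simp only [lin, mul_add, Finset.sum_add_distrib, mul_left_comm _ om, ← Finset.mul_sum]
  push_cast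
  ring

variable {G : Type u} [Group G] [Finite G] {P : Sylow 3 G} {z : G} (hS : Setup P z)
  (M : Ideal Cfsg.AlgInt) {c : Cfg} {u : Fin c.r → G} (hu : Reps P z u)

local notation "C[" w "]" => Subgroup.centralizer ({w} : Set G)

variable (F : Shape.Frame (setup_cent hS) M c (reps_cent hS hu))

/-- The signed members with scalar one. -/
noncomputable def eh (i : Fin 6) (y : C[z]) : ℂ :=
  (F.eps i : ℂ) * (F.sg i : C[z] → ℂ) y

theorem sum_part {A : Type*} [AddCommMonoid A] (f : Cfsg.IrrCharacter C[z] → A) :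
    ∑ η ∈ part (centZ hS) M 1, f η = ∑ i, f (F.sg i) := by
  refine (Finset.sum_bij (fun i _ => F.sg i) (fun i _ => (F.mem_iff _).2 ⟨i, rfl⟩)
    (fun i _ j _ h => F.inj h) (fun η hη => ?_) (fun i _ => rfl)).symm
  obtain ⟨i, hi⟩ := (F.mem_iff η).1 hη
  exact ⟨i, Finset.mem_univ _, hi⟩

variable (hM : Cfsg.IsPModular 3 M)
include hM

/-- The regular pairing in coordinates. -/
theorem bilin [Fintype C[z]] (f g : C[z] → ℂ) (p q : Fin 6 → ℂ)
    (hf : ∀ y, ¬ 3 ∣ orderOf y → f y = ∑ i, p i * eh hS M hu F i y)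
    (hg : ∀ y, ¬ 3 ∣ orderOf y → g y = ∑ i, q i * eh hS M hu F i y) :
    ∑ y : C[z], (if 3 ∣ orderOf y then 0 else f y * conj (g y)) =
      (primeToCard 3 C[z] : ℂ) * qc c p q := by
  classical
  set P' : (Fin 6 → ℂ) → Cfsg.IrrCharacter C[z] → ℂ := fun p =>
    Function.extend F.sg (fun i => (F.eps i : ℂ) * p i) 0
  have hP : ∀ (p : Fin 6 → ℂ) i, P' p (F.sg i) = (F.eps i : ℂ) * p i := fun p i =>
    F.inj.extend_apply _ _ i
  have hexp : ∀ (f : C[z] → ℂ) (p : Fin 6 → ℂ),
      (∀ y, ¬ 3 ∣ orderOf y → f y = ∑ i, p i * eh hS M hu F i y) → ∀ y, ¬ 3 ∣ orderOf y →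
        f y = ∑ η ∈ part (centZ hS) M 1, P' p η * (η : C[z] → ℂ) y := by
    intro f p hf y hy
    rw [sum_part hS M hu F, hf y hy]
    exact Finset.sum_congr rfl fun i _ => by rw [hP, eh]; ring
  rw [Shape.bilin (setup_cent hS) (centZ_commute hS) (reps_cent hS hu) M hM f g (P' p) (P' q)
    (hexp f p hf) (hexp g q hg)]
  congr 1
  rw [qc]
  congr 1
  · rw [sum_part hS M hu F]
    congr 1
    refine Finset.sum_congr rfl fun i _ => ?_
    have hu2 : ((F.eps i : ℂ) * F.eps i) = 1 := by exact_mod_cast F.unit i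
    rw [hP, hP, map_mul, map_intCast]
    linear_combination (p i * conj (q i)) * hu2
  · refine Finset.sum_congr rfl fun a _ => ?_
    have e : ∀ p : Fin 6 → ℂ, ∑ η ∈ part (centZ hS) M 1,
        P' p η * (val (setup_cent hS) (reps_cent hS hu) η a : ℂ) =
          ∑ i, (c.d a i : ℂ) * p i := by
      intro p
      rw [sum_part hS M hu F]
      refine Finset.sum_congr rfl fun i _ => ?_
      have hu2 : ((F.eps i : ℂ) * F.eps i) = 1 := by exact_mod_cast F.unit i
      rw [hP, F.row a i, Int.cast_mul]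
      linear_combination (p i * (c.d a i : ℂ)) * hu2
    rw [e, e]

omit hM in
/-- The value on a section in terms of the centralizer. -/
theorem value [Fintype G] [Fintype C[z]] (hM : Cfsg.IsPModular 3 M) {χ : Cfsg.IrrCharacter G}
    (hχ : χ ∈ Cfsg.principalBlock M G) {y : C[z]} (hy : ¬ 3 ∣ orderOf y) :
    (χ : G → ℂ) (z * (y : G)) = ∑ θ ∈ bset (Cfsg.principalBlock M C[z]),
      (mult C[z] χ θ : ℂ) * lamz (centZ hS) θ * (θ : C[z] → ℂ) y := by
  classical
  haveI := hM.2.1
  have hg : Cfsg.IsPPart 3 (z * (y : G)) z := ⟨y, rfl,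
    (Subgroup.mem_centralizer_singleton_iff.1 y.2).symm, Section.order_z hS,
    by rwa [Subgroup.orderOf_coe]⟩
  have h := PrincipalSection.sum_extPrinc_apply hM hg χ
  rw [if_pos hχ] at h
  simp only [PrincipalSection.coe_coeff_extPrinc] at h
  have hco : ∀ k : G,
      (if hk : k ∈ Subgroup.centralizer ((Subgroup.zpowers z : Subgroup G) : Set G) then
        Cfsg.blockCoeff (Cfsg.principalBlock M
          ↥(Subgroup.centralizer ((Subgroup.zpowers z : Subgroup G) : Set G))) ⟨k, hk⟩ else 0) =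
      if hk : k ∈ C[z] then Cfsg.blockCoeff (Cfsg.principalBlock M C[z]) ⟨k, hk⟩ else 0 := by
    rw [PrincipalSection.centralizer_zpowers_eq]
    exact fun k => rfl
  simp only [hco] at h
  rw [← Finset.sum_filter_add_sum_filter_not Finset.univ (fun k : G => k ∈ C[z]),
    Finset.sum_eq_zero (s := Finset.univ.filter fun k : G => ¬ k ∈ C[z]) (fun k hk => by
      rw [dif_neg (Finset.mem_filter.1 hk).2, zero_mul]), add_zero,
    Finset.sum_subtype (Finset.univ.filter fun k : G => k ∈ C[z]) (p := fun k => k ∈ C[z])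
      (fun k => by simp)] at h
  set f : C[z] → ℂ := SectionPart.sect z C[z] (χ : G → ℂ)
  have hf : Cfsg.IsClassFunction C[z] f := SectionPart.isClassFunction_sect
    (fun v hv => (Subgroup.mem_centralizer_singleton_iff.1 hv).symm) (isClassFunction_irr χ)
  have hsum : Cfsg.blockPart (Cfsg.principalBlock M C[z]) f y = (χ : G → ℂ) (z * (y : G)) := by
    rw [BlockPart.blockPart_eq_sum _ hf, ← h]
    refine Finset.sum_congr rfl fun k _ => ?_
    rw [dif_pos k.2]
    show _ * (χ : G → ℂ) (z * ((y : G) * k)) = _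
    rw [mul_assoc z]
  rw [← hsum, BlockPart.blockPart_apply]
  refine Finset.sum_congr (by rfl) fun θ _ => ?_
  congr 1
  exact SectionMatrix.classInner_sect (x := centZ hS) (centZ_commute hS) χ θ

/-- The coordinates. -/
structure Coord (s t : Cfsg.IrrCharacter G → V6) (n : Cfsg.IrrCharacter G → Cfsg.IrrCharacter C[z] → ℤ)
    (D : Cfsg.IrrCharacter C[z] → V6) : Prop where
  value : ∀ χ ∈ Cfsg.principalBlock M G, ∀ y : C[z], ¬ 3 ∣ orderOf y →
    (χ : G → ℂ) (z * (y : G)) = ∑ i, ((s χ i : ℂ) + om * t χ i) * eh hS M hu F i y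
  t_eq : ∀ χ i, t χ i = ∑ θ ∈ part (centZ hS) M om, n χ θ * D θ i
  gram : ∀ θ ∈ part (centZ hS) M om, ∀ θ' ∈ part (centZ hS) M om,
    qb c (D θ) (D θ') = if θ = θ' then 9 else 0

/-- Coordinates exist. -/
theorem exists_coord : ∃ (s t : Cfsg.IrrCharacter G → V6)
    (n : Cfsg.IrrCharacter G → Cfsg.IrrCharacter C[z] → ℤ) (D : Cfsg.IrrCharacter C[z] → V6),
    Coord hS M hu F s t n D := by
  classical
  letI := Fintype.ofFinite G
  letI := Fintype.ofFinite C[z]
  have hD : ∀ θ : Cfsg.IrrCharacter C[z], ∃ D : V6, θ ∈ Cfsg.principalBlock M C[z] →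
      ∀ y, ¬ 3 ∣ orderOf y → (θ : C[z] → ℂ) y = ∑ i, (D i : ℂ) * eh hS M hu F i y := by
    intro θ
    by_cases hθ : θ ∈ Cfsg.principalBlock M C[z]
    · obtain ⟨n, hn⟩ := exists_expansion (setup_cent hS) (centZ_commute hS) M hM hθ
      refine ⟨fun i => F.eps i * n (F.sg i), fun _ y hy => ?_⟩
      rw [hn y hy, sum_part hS M hu F]
      refine Finset.sum_congr rfl fun i _ => ?_
      have hu2 : ((F.eps i : ℂ) * F.eps i) = 1 := by exact_mod_cast F.unit i
      rw [eh, Int.cast_mul]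
      linear_combination -((n (F.sg i) : ℂ) * (F.sg i : C[z] → ℂ) y) * hu2
    · exact ⟨0, fun h => absurd h hθ⟩
  choose D hD using hD
  obtain ⟨tw, htwi, htw, htwv⟩ := exists_twin (setup_cent hS) (centZ_commute hS) (reps_cent hS hu) M hM
  let m : Cfsg.IrrCharacter G → Cfsg.IrrCharacter C[z] → ℤ := fun χ θ => (mult C[z] χ θ : ℤ)
  refine ⟨fun χ i => ∑ θ ∈ part (centZ hS) M 1, m χ θ * D θ i -
      ∑ θ ∈ part (centZ hS) M om, m χ (tw θ) * D θ i,
    fun χ i => ∑ θ ∈ part (centZ hS) M om, (m χ θ - m χ (tw θ)) * D θ i,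
    fun χ θ => m χ θ - m χ (tw θ), D, ?_, fun χ i => rfl, fun θ hθ θ' hθ' => ?_⟩
  · intro χ hχ y hy
    rw [value hS M hM hχ hy]
    have hne2 : om ^ 2 ≠ 1 := fun h => om_ne_one (by
      have h3 := om_cube
      rwa [pow_succ, h, one_mul] at h3)
    have hne3 : om ^ 2 ≠ om := fun h => om_ne_conj (h.symm.trans om_sq)
    have hsplit : ∀ g : Cfsg.IrrCharacter C[z] → ℂ,
        ∑ θ ∈ bset (Cfsg.principalBlock M C[z]), g θ = ∑ θ ∈ part (centZ hS) M 1, g θ +
          ∑ θ ∈ part (centZ hS) M om, g θ + ∑ θ ∈ part (centZ hS) M (om ^ 2), g θ := by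
      intro g
      simp only [part, Finset.sum_filter, ← Finset.sum_add_distrib]
      refine Finset.sum_congr rfl fun θ _ => ?_
      rcases lam_cases (setup_cent hS) (centZ_commute hS) θ with e | e | e <;> rw [e] <;>
        simp [om_ne_one, hne2, hne3, om_ne_one.symm, hne2.symm, hne3.symm]
    have htw' : ∀ g : Cfsg.IrrCharacter C[z] → ℂ,
        ∑ θ ∈ part (centZ hS) M (om ^ 2), g θ = ∑ θ ∈ part (centZ hS) M om, g (tw θ) := by
      intro g
      rw [← htw]
      convert Finset.sum_image htwi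
    rw [hsplit, htw']
    set E := eh hS M hu F
    have h1 : ∀ θ ∈ part (centZ hS) M 1, (mult C[z] χ θ : ℂ) * lamz (centZ hS) θ * (θ : C[z] → ℂ) y =
        ∑ i, ((m χ θ : ℂ) * (D θ i : ℂ)) * E i y := by
      intro θ hθ
      rw [(mem_part.1 hθ).2, mul_one, hD θ (mem_part.1 hθ).1 y hy, Finset.mul_sum]
      exact Finset.sum_congr rfl fun i _ => by simp only [m, Int.cast_natCast]; ring
    have h2 : ∀ θ ∈ part (centZ hS) M om, (mult C[z] χ θ : ℂ) * lamz (centZ hS) θ * (θ : C[z] → ℂ) y +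
        (mult C[z] χ (tw θ) : ℂ) * lamz (centZ hS) (tw θ) * (tw θ : C[z] → ℂ) y =
        ∑ i, (-((m χ (tw θ) : ℂ) * (D θ i : ℂ)) +
          om * (((m χ θ - m χ (tw θ) : ℤ) : ℂ) * (D θ i : ℂ))) * E i y := by
      intro θ hθ
      have htm : tw θ ∈ part (centZ hS) M (om ^ 2) := by
        rw [← htw]; simp only [Finset.mem_image]; exact ⟨θ, hθ, rfl⟩
      rw [(mem_part.1 hθ).2, (mem_part.1 htm).2, htwv θ y hy, hD θ (mem_part.1 hθ).1 y hy,
        Finset.mul_sum, Finset.mul_sum, ← Finset.sum_add_distrib]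
      refine Finset.sum_congr rfl fun i _ => ?_
      simp only [m, Int.cast_sub, Int.cast_natCast, om_sq]
      ring
    rw [Finset.sum_congr rfl h1, add_assoc, ← Finset.sum_add_distrib, Finset.sum_congr rfl h2,
      Finset.sum_comm, Finset.sum_comm (s := part (centZ hS) M om), ← Finset.sum_add_distrib]
    refine Finset.sum_congr rfl fun i _ => ?_
    rw [← Finset.sum_mul, ← Finset.sum_mul, ← add_mul]
    congr 1
    push_cast
    rw [Finset.sum_add_distrib, Finset.mul_sum, Finset.sum_neg_distrib]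
    ring
  · have hb := bilin hS M hu F hM (θ : C[z] → ℂ) (θ' : C[z] → ℂ) (fun i => (D θ i : ℂ))
      (fun i => (D θ' i : ℂ)) (hD θ (mem_part.1 hθ).1) (hD θ' (mem_part.1 hθ').1)
    have e : ∑ y : C[z], (if 3 ∣ orderOf y then 0 else
        (θ : C[z] → ℂ) y * conj ((θ' : C[z] → ℂ) y)) =
        (primeToCard 3 C[z] : ℂ) * contribN 3 θ θ' := by
      rw [← regSum_eq_contribN, regSum_eq_sum]
      exact Finset.sum_congr rfl fun y _ => by rw [apply_inv (isCharacter_irr θ')]
    rw [e, qc_int] at hb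
    have h' := mul_left_cancel₀ (Nat.cast_ne_zero.2 (primeToCard_pos 3).ne') hb
    rw [contrib_faithful (setup_cent hS) (centZ_commute hS) (reps_cent hS hu) M hM om_ne_one hθ hθ'] at h'
    exact (Int.cast_injective (α := ℂ) h').symm

end Cfsg.Agent.Lib.BC77.ThreeExtra.Coords
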