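import Mathlib

/-!
# The forms on the rows of the section of the centre

A principal 3-block with six rows `d` at the sections outside the centre gives the form
`qf v = 9 |v|² - |d v|²` on integer vectors.  It is compared with sums of squares of root vectors
and with the square of one further orthogonal vector; `*C` are the Hermitian extensions to
`s + ω t`.
-/

set_option autoImplicit false

namespace Cfsg.Agent.Lib.BC77.ThreeExtra.Forms

/-- Integer vectors on six rows. -/
abbrev V6 : Type := Fin 6 → ℤ

/-- The norm of `a + ω b`. -/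
def nrm (a b : ℤ) : ℤ := a * a - a * b + b * b

theorem four_nrm (a b : ℤ) : 4 * nrm a b = (2 * a - b) ^ 2 + 3 * b ^ 2 := by
  simp only [nrm]; ring

/-- The linear form of a vector. -/
def lin (ρ v : V6) : ℤ := ∑ i, ρ i * v i

/-- Sum of squares of linear forms. -/
def qsum {ι : Type*} [Fintype ι] (ρ : ι → V6) (v : V6) : ℤ := ∑ k, lin (ρ k) v ^ 2

/-- Sum of norms of linear forms. -/
def qsumC {ι : Type*} [Fintype ι] (ρ : ι → V6) (s t : V6) : ℤ :=
  ∑ k, nrm (lin (ρ k) s) (lin (ρ k) t)

theorem lin_two_sub (ρ s t : V6) :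
    lin ρ (fun i => 2 * s i - t i) = 2 * lin ρ s - lin ρ t := by
  simp only [lin, Finset.mul_sum, ← Finset.sum_sub_distrib]
  exact Finset.sum_congr rfl fun i _ => by ring

theorem four_qsumC {ι : Type*} [Fintype ι] (ρ : ι → V6) (s t : V6) :
    4 * qsumC ρ s t = qsum ρ (fun i => 2 * s i - t i) + 3 * qsum ρ t := by
  simp only [qsumC, qsum, Finset.mul_sum, four_nrm, lin_two_sub, Finset.sum_add_distrib]

/-- Data of one inertial index. -/
structure Cfg where
  /-- the number of classes outside the centre -/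
  r : ℕ
  /-- the number of roots -/
  m : ℕ
  /-- the denominator -/
  D : ℤ
  /-- the rows of decomposition numbers -/
  d : Fin r → V6
  /-- root vectors -/
  root : Fin m → V6
  /-- the further orthogonal vector -/
  w : V6

namespace Cfg

variable (c : Cfg)

/-- The form `9 |v|² - |d v|²`. -/
def qf (v : V6) : ℤ := 9 * ∑ i, v i * v i - qsum c.d v

/-- Its Hermitian extension. -/
def qfC (s t : V6) : ℤ := 9 * ∑ i, nrm (s i) (t i) - qsumC c.d s t

/-- The root part. -/
def Rf (v : V6) : ℤ := qsum c.root v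

/-- Its Hermitian extension. -/
def RfC (s t : V6) : ℤ := qsumC c.root s t

/-- The further form. -/
def Wf (v : V6) : ℤ := lin c.w v

/-- The norm of the further form. -/
def WfC (s t : V6) : ℤ := nrm (c.Wf s) (c.Wf t)

theorem four_qfC (s t : V6) :
    4 * c.qfC s t = c.qf (fun i => 2 * s i - t i) + 3 * c.qf t := by
  have h1 := four_qsumC c.d s t
  have h2 : 4 * ∑ i, nrm (s i) (t i) =
      ∑ i, (2 * s i - t i) * (2 * s i - t i) + 3 * ∑ i, t i * t i := by
    rw [Finset.mul_sum, Finset.mul_sum, ← Finset.sum_add_distrib]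
    exact Finset.sum_congr rfl fun i _ => by rw [four_nrm]; ring
  simp only [qfC, qf]
  linarith

theorem four_RfC (s t : V6) :
    4 * c.RfC s t = c.Rf (fun i => 2 * s i - t i) + 3 * c.Rf t :=
  four_qsumC c.root s t

theorem four_WfC (s t : V6) :
    4 * c.WfC s t = c.Wf (fun i => 2 * s i - t i) ^ 2 + 3 * c.Wf t ^ 2 := by
  rw [WfC, four_nrm, Wf, Wf, Wf, lin_two_sub]

theorem Rf_nonneg (v : V6) : 0 ≤ c.Rf v := by
  unfold Rf qsum
  exact Finset.sum_nonneg fun _ _ => sq_nonneg _

theorem RfC_nonneg (s t : V6) : 0 ≤ c.RfC s t := by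
  have := c.four_RfC s t
  have := c.Rf_nonneg (fun i => 2 * s i - t i)
  have := c.Rf_nonneg t
  omega

end Cfg

/-- The statistics of a row: `x`, the root part, the further part, the square sum of the
values outside the centre and the square of their sum. -/
structure Stat where
  /-- the form -/
  x : ℤ
  /-- the root part -/
  R : ℤ
  /-- the further part -/
  W : ℤ
  /-- the sum of the squares -/
  c2 : ℤ
  /-- the square of the sum -/
  s2 : ℤ
  deriving DecidableEq

/-- The statistics of a real row. -/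
def Cfg.statR (c : Cfg) (s : V6) (cv : Fin c.r → ℤ) : Stat :=
  ⟨c.qf s, c.Rf s, c.Wf s ^ 2, ∑ a, cv a * cv a, (∑ a, cv a) ^ 2⟩

/-- The statistics of a row with a non-real part. -/
def Cfg.statC (c : Cfg) (s t : V6) (cv : Fin c.r → ℤ) : Stat :=
  ⟨c.qfC s t, c.RfC s t, c.WfC s t, ∑ a, cv a * cv a, (∑ a, cv a) ^ 2⟩

end Cfsg.Agent.Lib.BC77.ThreeExtra.Forms
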