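import Cfsg.Prelude.Def_Transfer
import Cfsg.Agent.Lib.Transfer.Fusion
import Mathlib

/-!
# Extraspecial Sylow subgroup of order 27 and exponent 3 with isolated centre

`P` is a Sylow 3-subgroup of order 27 and exponent 3 with centre `⟨z⟩`, and its normaliser
centralises `z`.  Then `z` is the only conjugate of `z` in `P`, the centraliser of an element
outside the centre has a normal 3-complement of index 9, and the normaliser controls fusion.
-/

set_option autoImplicit false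
set_option linter.style.haveILetI false

namespace Cfsg.Agent.Lib.BC77.ThreeExtra.Group

universe u

local instance : Fact (Nat.Prime 3) := ⟨Nat.prime_three⟩

variable {G : Type u} [Group G] [Finite G]

/-- The hypotheses on `P` and `z`. -/
structure Setup (P : Sylow 3 G) (z : G) : Prop where
  card : Nat.card (P : Subgroup G) = 27
  cube : ∀ x ∈ (P : Subgroup G), x ^ 3 = 1
  zmem : z ∈ (P : Subgroup G)
  zne : z ≠ 1
  zc : ∀ y ∈ (P : Subgroup G), Commute z y
  center : ∀ c ∈ (P : Subgroup G), (∀ y ∈ (P : Subgroup G), Commute c y) →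
    c ∈ Subgroup.zpowers z
  comm : ∀ a ∈ (P : Subgroup G), ∀ b ∈ (P : Subgroup G),
    a * b * a⁻¹ * b⁻¹ ∈ Subgroup.zpowers z
  norm : ∀ g ∈ Subgroup.normalizer ((P : Subgroup G) : Set G), Commute g z

/-- The setup exists. -/
theorem exists_setup (P : Sylow 3 G) (hE : Cfsg.IsExtraspecial 3 (P : Subgroup G))
    (h27 : Nat.card (P : Subgroup G) = 27) (hexp : ∀ x ∈ (P : Subgroup G), x ^ 3 = 1)
    (hNC : ∀ g ∈ Subgroup.normalizer ((P : Subgroup G) : Set G), ∀ z ∈ (P : Subgroup G),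
      (∀ y ∈ (P : Subgroup G), z * y = y * z) → g * z = z * g) : ∃ z, Setup P z := by
  obtain ⟨⟨-, -, hc⟩, h3⟩ := hE
  have hbot : Subgroup.center (P : Subgroup G) ≠ ⊥ := fun h => by
    rw [h, Subgroup.card_bot] at h3; omega
  obtain ⟨⟨z0, hz0⟩, hne⟩ := Subgroup.ne_bot_iff_exists_ne_one.1 hbot
  have hne' : z0 ≠ 1 := fun h => hne (Subtype.ext h)
  have hord : orderOf z0 = 3 := orderOf_eq_prime (Subtype.ext (hexp z0 z0.2)) hne'
  have hcen : Subgroup.center (P : Subgroup G) = Subgroup.zpowers z0 :=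
    (Subgroup.eq_of_le_of_card_ge (Subgroup.zpowers_le.2 hz0)
      (by rw [h3, Nat.card_zpowers, hord])).symm
  have hz : ∀ x : (P : Subgroup G), x ∈ Subgroup.center (P : Subgroup G) →
      (x : G) ∈ Subgroup.zpowers (z0 : G) := by
    intro x hx
    rw [hcen, Subgroup.mem_zpowers_iff] at hx
    obtain ⟨k, rfl⟩ := hx
    exact Subgroup.mem_zpowers_iff.2 ⟨k, (Subgroup.coe_zpow _ _ _).symm⟩
  have hzc : ∀ y ∈ (P : Subgroup G), Commute (z0 : G) y := fun y hy =>
    (congrArg Subtype.val (Subgroup.mem_center_iff.1 hz0 ⟨y, hy⟩)).symm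
  refine ⟨z0, h27, hexp, z0.2, fun h => hne' (Subtype.ext h), hzc, fun c hc hcy => ?_,
    fun a ha b hb => ?_, fun g hg => hNC g hg z0 z0.2 fun y hy => (hzc y hy).eq⟩
  · exact hz ⟨c, hc⟩ (Subgroup.mem_center_iff.2 fun y => Subtype.ext (hcy y y.2).eq.symm)
  · have h : (⟨a, ha⟩ : (P : Subgroup G)) * ⟨b, hb⟩ * (⟨a, ha⟩ : (P : Subgroup G))⁻¹ *
        (⟨b, hb⟩ : (P : Subgroup G))⁻¹ ∈ commutator (P : Subgroup G) := by
      rw [commutator_def]
      exact Subgroup.commutator_mem_commutator (Subgroup.mem_top _) (Subgroup.mem_top _)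
    rw [hc] at h
    exact hz _ h

variable {P : Sylow 3 G} {z : G} (hS : Setup P z)

include hS

theorem z3 : z ^ 3 = 1 := hS.cube z hS.zmem

theorem z_order : orderOf z = 3 := orderOf_eq_prime (z3 hS) hS.zne

theorem z_mem_centralizer : z ∈ Subgroup.centralizer ((P : Subgroup G) : Set G) :=
  Subgroup.mem_centralizer_iff.2 fun y hy => (hS.zc y hy).eq.symm

theorem zpowers_cases {x : G} (hx : x ∈ Subgroup.zpowers z) : x = 1 ∨ x = z ∨ x = z ^ 2 := by
  obtain ⟨k, rfl⟩ := Subgroup.mem_zpowers_iff.1 hx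
  have e : z ^ k = z ^ (k % 3).toNat := by
    rw [← zpow_natCast z, Int.toNat_of_nonneg (Int.emod_nonneg _ (by norm_num)),
      show (3 : ℤ) = (orderOf z : ℤ) by rw [z_order hS]; rfl, zpow_mod_orderOf]
  have hlt : (k % 3).toNat < 3 := by omega
  rw [e]
  generalize (k % 3).toNat = n at hlt ⊢
  interval_cases n <;> simp

theorem card_zpowers : Nat.card (Subgroup.zpowers z) = 3 := by
  rw [Nat.card_zpowers, z_order hS]

theorem zpowers_le : Subgroup.zpowers z ≤ (P : Subgroup G) := Subgroup.zpowers_le.2 hS.zmem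

theorem inv_eq_sq {x : G} (hx : x ∈ (P : Subgroup G)) : x⁻¹ = x ^ 2 :=
  inv_eq_of_mul_eq_one_right (by rw [← pow_succ', hS.cube x hx])

theorem card_sylow (S : Sylow 3 G) : Nat.card (S : Subgroup G) = 27 := by
  rw [← hS.card, Sylow.card_eq_multiplicity, Sylow.card_eq_multiplicity]

/-- `z` is not conjugate to its inverse. -/
theorem not_inv (g : G) : g * z * g⁻¹ ≠ z⁻¹ := by
  intro h
  obtain ⟨n, hn, hn'⟩ := P.conj_eq_normalizer_conj_of_mem_centralizer z g⁻¹
    (z_mem_centralizer hS) (by rw [inv_inv, h]; exact inv_mem (z_mem_centralizer hS))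
  rw [inv_inv, h, mul_assoc, (hS.norm n hn).eq.symm, inv_mul_cancel_left] at hn'
  have : z ^ 2 = 1 := by rw [pow_two]; nth_rewrite 1 [← hn']; exact inv_mul_cancel z
  exact hS.zne (by
    have h3 := z3 hS
    rwa [pow_succ, this, one_mul] at h3)

/-- An element of `P` outside the centre is moved by `z` under some element of `P`. -/
theorem exists_shift {a : G} (ha : a ∈ (P : Subgroup G)) (haz : a ∉ Subgroup.zpowers z) :
    ∃ p ∈ (P : Subgroup G), p * a * p⁻¹ = a * z := by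
  by_contra hcon
  refine haz (hS.center a ha fun y hy => ?_)
  have hk : y * a * y⁻¹ = (y * a * y⁻¹ * a⁻¹) * a := (inv_mul_cancel_right _ _).symm
  rcases zpowers_cases hS (hS.comm y hy a ha) with e | e | e <;> rw [e] at hk
  · rw [one_mul, mul_inv_eq_iff_eq_mul] at hk
    exact hk.symm
  · exact absurd ⟨y, hy, hk.trans (hS.zc a ha).eq⟩ hcon
  · refine absurd ⟨y * y, mul_mem hy hy, ?_⟩ hcon
    have hzy := hS.zc y hy
    have h4 : z ^ 2 * z ^ 2 = z := by
      rw [← pow_add, show 2 + 2 = 3 + 1 from rfl, pow_add, z3 hS, one_mul, pow_one]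
    calc y * y * a * (y * y)⁻¹ = y * (y * a * y⁻¹) * y⁻¹ := by group
      _ = y * (z ^ 2 * a) * y⁻¹ := by rw [hk]
      _ = (y * z ^ 2 * y⁻¹) * (y * a * y⁻¹) := by group
      _ = z ^ 2 * (z ^ 2 * a) := by
          rw [hk, (hzy.pow_left 2).symm.eq, mul_inv_cancel_right]
      _ = a * z := by rw [← mul_assoc, h4, (hS.zc a ha).eq]

/-- An element of `P` outside the centre is moved by any power of `z`. -/
theorem exists_shift_pow {a : G} (ha : a ∈ (P : Subgroup G)) (haz : a ∉ Subgroup.zpowers z)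
    {w : G} (hw : w ∈ Subgroup.zpowers z) : ∃ p ∈ (P : Subgroup G), p * a * p⁻¹ = a * w := by
  obtain ⟨p, hp, hpa⟩ := exists_shift hS ha haz
  rcases zpowers_cases hS hw with rfl | rfl | rfl
  · exact ⟨1, one_mem _, by simp⟩
  · exact ⟨p, hp, hpa⟩
  · refine ⟨p * p, mul_mem hp hp, ?_⟩
    calc p * p * a * (p * p)⁻¹ = p * (p * a * p⁻¹) * p⁻¹ := by group
      _ = p * (a * z) * p⁻¹ := by rw [hpa]
      _ = (p * a * p⁻¹) * (p * z * p⁻¹) := by group
      _ = a * z ^ 2 := by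
          rw [hpa, (hS.zc p hp).symm.eq, mul_inv_cancel_right, pow_two, mul_assoc]

/-- Every 3-element is conjugate into `P`. -/
theorem exists_conj_mem {x : G} (hx : ∃ k : ℕ, orderOf x = 3 ^ k) :
    ∃ g : G, g * x * g⁻¹ ∈ (P : Subgroup G) := by
  obtain ⟨k, hk⟩ := hx
  obtain ⟨R, hR⟩ := (IsPGroup.of_card (p := 3) (G := Subgroup.zpowers x) (n := k)
    (by rw [Nat.card_zpowers, hk])).exists_le_sylow
  obtain ⟨g, hg⟩ := MulAction.exists_smul_eq G R P
  refine ⟨g, ?_⟩
  rw [← hg, Sylow.coe_subgroup_smul]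
  exact ⟨x, hR (Subgroup.mem_zpowers x), rfl⟩

/-- The centre is isolated. -/
theorem isolated {g : G} (hg : g * z * g⁻¹ ∈ (P : Subgroup G)) : Commute g z := by
  by_cases hx : g * z * g⁻¹ ∈ Subgroup.zpowers z
  · rcases zpowers_cases hS hx with e | e | e
    · exact absurd (conj_eq_one_iff.1 e) hS.zne
    · exact (mul_inv_eq_iff_eq_mul.1 e : g * z = z * g)
    · exact absurd (e.trans (inv_eq_sq hS hS.zmem).symm) (not_inv hS g)
  exfalso
  set x := g * z * g⁻¹ with hxdef
  have hzx : Commute z x := hS.zc x hg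
  set C := Subgroup.centralizer ({x} : Set G)
  have hQ : ((g • P : Sylow 3 G) : Subgroup G) ≤ C := by
    intro y hy
    rw [Sylow.coe_subgroup_smul] at hy
    obtain ⟨w, hw, rfl⟩ := hy
    refine Subgroup.mem_centralizer_singleton_iff.2 ?_
    show g * w * g⁻¹ * x = x * (g * w * g⁻¹)
    rw [hxdef, show g * w * g⁻¹ * (g * z * g⁻¹) = g * (w * z) * g⁻¹ by group,
      ← (hS.zc w hw).eq]
    group
  have hzC : z ∈ C := Subgroup.mem_centralizer_singleton_iff.2 hzx.eq
  obtain ⟨R, hR⟩ := (IsPGroup.of_card (p := 3) (G := Subgroup.zpowers (⟨z, hzC⟩ : C)) (n := 1)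
    (by rw [Nat.card_zpowers, ← Subgroup.orderOf_coe, pow_one]; exact z_order hS)).exists_le_sylow
  obtain ⟨c, hc⟩ := MulAction.exists_smul_eq C R ((g • P).subtype hQ)
  have hcz : (c : G) * z * (c : G)⁻¹ ∈ ((g • P : Sylow 3 G) : Subgroup G) := by
    have h : c * ⟨z, hzC⟩ * c⁻¹ ∈ ((g • P).subtype hQ : Subgroup C) := by
      rw [← hc, Sylow.coe_subgroup_smul]
      exact ⟨_, hR (Subgroup.mem_zpowers _), rfl⟩
    exact h
  rw [Sylow.coe_subgroup_smul] at hcz
  obtain ⟨a, ha, hae⟩ := hcz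
  replace hae : g * a * g⁻¹ = (c : G) * z * (c : G)⁻¹ := hae
  -- `g' = c⁻¹ g` maps `a` to `z` and `z` to `x`
  set g' := (c : G)⁻¹ * g with hg'
  have hcx : Commute (c : G) x := Subgroup.mem_centralizer_singleton_iff.1 c.2
  have h1 : g' * a * g'⁻¹ = z := by
    calc g' * a * g'⁻¹ = (c : G)⁻¹ * (g * a * g⁻¹) * c := by rw [hg']; group
      _ = z := by rw [hae]; group
  have h2 : g' * z * g'⁻¹ = x := by
    calc g' * z * g'⁻¹ = (c : G)⁻¹ * x * c := by rw [hg', hxdef]; group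
      _ = x := by rw [mul_assoc, ← hcx.eq, inv_mul_cancel_left]
  have haz : a ∉ Subgroup.zpowers z := by
    intro ha'
    rcases zpowers_cases hS ha' with rfl | rfl | rfl
    · simp only [mul_one, mul_inv_cancel] at h1
      exact hS.zne h1.symm
    · exact hx (by rw [← h2, h1]; exact Subgroup.mem_zpowers _)
    · have e : x ^ 2 = z := by rw [← h2, conj_pow]; exact h1
      refine hx ?_
      have : x = z ^ 2 := by
        rw [← e, ← pow_mul, show 2 * 2 = 3 + 1 from rfl, pow_add, hS.cube x hg, one_mul, pow_one]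
      rw [this]
      exact pow_mem (Subgroup.mem_zpowers z) 2
  obtain ⟨q, hq, hqa⟩ := exists_shift hS ha haz
  obtain ⟨p, hp, hpx⟩ := exists_shift hS hg hx
  set Q := g' * q * g'⁻¹ with hQdef
  have hQz : Q * z * Q⁻¹ = z * x := by
    calc Q * z * Q⁻¹ = g' * (q * a * q⁻¹) * g'⁻¹ := by rw [hQdef, ← h1]; group
      _ = (g' * a * g'⁻¹) * (g' * z * g'⁻¹) := by rw [hqa]; group
      _ = z * x := by rw [h1, h2]
  have hQx : Q * x * Q⁻¹ = x := by
    calc Q * x * Q⁻¹ = g' * (q * z * q⁻¹) * g'⁻¹ := by rw [hQdef, ← h2]; group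
      _ = x := by rw [(hS.zc q hq).symm.eq, mul_inv_cancel_right, h2]
  have hpz : p * z * p⁻¹ = z := by rw [(hS.zc p hp).symm.eq, mul_inv_cancel_right]
  have hQi : Q⁻¹ * z * Q = z * x⁻¹ := by
    have e : Q * (z * x⁻¹) * Q⁻¹ = z := by
      calc Q * (z * x⁻¹) * Q⁻¹ = (Q * z * Q⁻¹) * (Q * x * Q⁻¹)⁻¹ := by group
        _ = z := by rw [hQz, hQx]; group
    calc Q⁻¹ * z * Q = Q⁻¹ * (Q * (z * x⁻¹) * Q⁻¹) * Q := by rw [e]
      _ = z * x⁻¹ := by group
  have hQi' : Q⁻¹ * x * Q = x := by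
    calc Q⁻¹ * x * Q = Q⁻¹ * (Q * x * Q⁻¹) * Q := by rw [hQx]
      _ = x := by group
  set w := p * Q⁻¹ * p with hwdef
  have hwz : w * z * w⁻¹ = x⁻¹ := by
    calc w * z * w⁻¹ = p * (Q⁻¹ * (p * z * p⁻¹) * Q) * p⁻¹ := by rw [hwdef]; group
      _ = p * (z * x⁻¹) * p⁻¹ := by rw [hpz, hQi]
      _ = (p * z * p⁻¹) * (p * x * p⁻¹)⁻¹ := by group
      _ = x⁻¹ := by rw [hpz, hpx]; group
  have hwx : w * x * w⁻¹ = z := by
    calc w * x * w⁻¹ = p * (Q⁻¹ * (p * x * p⁻¹) * Q) * p⁻¹ := by rw [hwdef]; group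
      _ = p * ((Q⁻¹ * x * Q) * (Q⁻¹ * z * Q)) * p⁻¹ := by rw [hpx]; group
      _ = p * z * p⁻¹ := by
          rw [hQi', hQi, ← mul_assoc x z, hzx.symm.eq, mul_assoc z x, mul_inv_cancel, mul_one]
      _ = z := hpz
  refine not_inv hS (w * w) ?_
  calc w * w * z * (w * w)⁻¹ = w * (w * z * w⁻¹) * w⁻¹ := by group
    _ = (w * x * w⁻¹)⁻¹ := by rw [hwz]; group
    _ = z⁻¹ := by rw [hwx]

/-- The centre is isolated, for every power. -/
theorem isolated_pow {g w : G} (hw : w ∈ Subgroup.zpowers z) (hw1 : w ≠ 1)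
    (hg : g * w * g⁻¹ ∈ (P : Subgroup G)) : Commute g z := by
  rcases zpowers_cases hS hw with rfl | rfl | rfl
  · exact absurd rfl hw1
  · exact isolated hS hg
  · refine isolated hS ?_
    have h := pow_mem hg 2
    rwa [conj_pow, ← pow_mul, show 2 * 2 = 3 + 1 from rfl, pow_add, z3 hS, one_mul, pow_one] at h

/-- No element outside the centre is conjugate into the centre. -/
theorem conj_notMem {g a : G} (ha : a ∈ (P : Subgroup G)) (haz : a ∉ Subgroup.zpowers z) :
    g * a * g⁻¹ ∉ Subgroup.zpowers z := by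
  intro h
  have ha1 : a ≠ 1 := fun e => haz (e ▸ one_mem _)
  have hc : Commute g⁻¹ z := isolated_pow hS h (fun e => ha1 (conj_eq_one_iff.1 e))
    (by rw [show g⁻¹ * (g * a * g⁻¹) * g⁻¹⁻¹ = a by group]; exact ha)
  refine haz ?_
  rcases zpowers_cases hS h with e | e | e
  · exact absurd (conj_eq_one_iff.1 e) ha1
  · rw [show a = g⁻¹ * z * g⁻¹⁻¹ by rw [← e]; group, hc.eq, mul_inv_cancel_right]
    exact Subgroup.mem_zpowers z
  · rw [show a = g⁻¹ * z ^ 2 * g⁻¹⁻¹ by rw [← e]; group, (hc.pow_right 2).eq, mul_inv_cancel_right]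
    exact pow_mem (Subgroup.mem_zpowers z) 2

omit hS in
/-- The centraliser in `P` of `a`. -/
def EP (P : Sylow 3 G) (a : G) : Subgroup G :=
  (P : Subgroup G) ⊓ Subgroup.centralizer ({a} : Set G)

theorem card_EP {a : G} (ha : a ∈ (P : Subgroup G)) (haz : a ∉ Subgroup.zpowers z) :
    Nat.card (EP P a) = 9 := by
  have h27 : Nat.card (EP P a) ∣ 3 ^ 3 := by
    have := Subgroup.card_dvd_of_le (inf_le_left : EP P a ≤ (P : Subgroup G))
    rwa [hS.card] at this
  have hle : Subgroup.zpowers z ≤ EP P a := Subgroup.zpowers_le.2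
    ⟨hS.zmem, Subgroup.mem_centralizer_singleton_iff.2 (hS.zc a ha).eq⟩
  have ha' : a ∈ EP P a := ⟨ha, Subgroup.mem_centralizer_singleton_iff.2 rfl⟩
  have hlow : 3 < Nat.card (EP P a) := by
    by_contra hc
    have := Subgroup.eq_of_le_of_card_ge hle (by rw [card_zpowers hS]; omega)
    exact haz (this ▸ ha')
  have hne : Nat.card (EP P a) ≠ 27 := by
    intro hc
    have hle' : EP P a ≤ (P : Subgroup G) := inf_le_left
    have h := Subgroup.eq_of_le_of_card_ge hle' (by rw [hS.card, hc])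
    refine haz (hS.center a ha fun y hy => ?_)
    have : y ∈ EP P a := by rw [h]; exact hy
    exact (Subgroup.mem_centralizer_singleton_iff.1 this.2).symm
  obtain ⟨i, hi, h⟩ := (Nat.dvd_prime_pow Nat.prime_three).1 h27
  interval_cases i <;> omega

/-- A subgroup with `a` and `z` contains the centraliser of `a` in `P`. -/
theorem EP_le {a : G} (ha : a ∈ (P : Subgroup G)) (haz : a ∉ Subgroup.zpowers z)
    {S : Subgroup G} (hzS : z ∈ S) (haS : a ∈ S) : EP P a ≤ S := by
  have hle : EP P a ⊓ S ≤ EP P a := inf_le_left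
  have hz' : Subgroup.zpowers z ≤ EP P a ⊓ S := Subgroup.zpowers_le.2
    ⟨⟨hS.zmem, Subgroup.mem_centralizer_singleton_iff.2 (hS.zc a ha).eq⟩, hzS⟩
  have hdvd : Nat.card (EP P a ⊓ S : Subgroup G) ∣ 3 ^ 2 := by
    have := Subgroup.card_dvd_of_le hle
    rwa [card_EP hS ha haz] at this
  have hlow : 3 < Nat.card (EP P a ⊓ S : Subgroup G) := by
    by_contra hc
    have := Subgroup.eq_of_le_of_card_ge hz' (by rw [card_zpowers hS]; omega)
    exact haz (this ▸ ⟨⟨ha, Subgroup.mem_centralizer_singleton_iff.2 rfl⟩, haS⟩)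
  have h9 : Nat.card (EP P a ⊓ S : Subgroup G) = 9 := by
    obtain ⟨i, hi, h⟩ := (Nat.dvd_prime_pow Nat.prime_three).1 hdvd
    interval_cases i <;> omega
  exact (Subgroup.eq_of_le_of_card_ge hle (by rw [card_EP hS ha haz, h9])).symm.trans_le inf_le_right

/-- The Sylow subgroup of the centraliser of an element outside the centre. -/
theorem exists_sylow_cent {a : G} (ha : a ∈ (P : Subgroup G)) (haz : a ∉ Subgroup.zpowers z) :
    ∃ Q : Sylow 3 (Subgroup.centralizer ({a} : Set G)),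
      (Q : Subgroup (Subgroup.centralizer ({a} : Set G))) =
        (EP P a).subgroupOf (Subgroup.centralizer ({a} : Set G)) := by
  set C := Subgroup.centralizer ({a} : Set G)
  have hcard : Nat.card ((EP P a).subgroupOf C) = 9 := by
    have hle' : EP P a ≤ C := inf_le_right
    rw [Nat.card_congr (Subgroup.subgroupOfEquivOfLe hle').toEquiv]
    exact card_EP hS ha haz
  obtain ⟨R, hR⟩ := (IsPGroup.of_card (p := 3) (n := 2) (G := (EP P a).subgroupOf C)
    (by rw [hcard]; rfl)).exists_le_sylow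
  refine ⟨R, (Subgroup.eq_of_le_of_card_ge hR ?_).symm⟩
  rw [hcard]
  have hmap : IsPGroup 3 ((R : Subgroup C).map C.subtype) := R.2.map C.subtype
  obtain ⟨S, hS'⟩ := hmap.exists_le_sylow
  have hRS : Nat.card (R : Subgroup C) ∣ 27 := by
    rw [← Subgroup.card_map_of_injective (f := C.subtype) C.subtype_injective,
      ← card_sylow hS S]
    exact Subgroup.card_dvd_of_le hS'
  by_contra hlt
  have h27 : Nat.card (R : Subgroup C) = 27 := by
    obtain ⟨i, hi, h⟩ := (Nat.dvd_prime_pow Nat.prime_three).1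
      (show Nat.card (R : Subgroup C) ∣ 3 ^ 3 from hRS)
    interval_cases i <;> omega
  have hSR : (R : Subgroup C).map C.subtype = S := Subgroup.eq_of_le_of_card_ge hS' (by
    rw [Subgroup.card_map_of_injective (f := C.subtype) C.subtype_injective, h27, ← hS.card]
    rw [card_sylow hS S, hS.card])
  obtain ⟨g, hg⟩ := MulAction.exists_smul_eq G P S
  have hcen : ∀ y ∈ (S : Subgroup G), Commute a y := fun y hy => by
    rw [← hSR] at hy
    obtain ⟨r, -, rfl⟩ := hy
    exact (Subgroup.mem_centralizer_singleton_iff.1 r.2).symm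
  refine conj_notMem hS ha haz (g := g⁻¹) ?_
  have haS : a ∈ (S : Subgroup G) := by
    rw [← hSR]
    exact ⟨⟨a, Subgroup.mem_centralizer_singleton_iff.2 rfl⟩,
      hR (Subgroup.mem_subgroupOf.2 ⟨ha, Subgroup.mem_centralizer_singleton_iff.2 rfl⟩), rfl⟩
  rw [← hg, Sylow.coe_subgroup_smul] at haS hcen
  obtain ⟨b, hb, hba⟩ := haS
  replace hba : g * b * g⁻¹ = a := hba
  rw [show g⁻¹ * a * g⁻¹⁻¹ = b by rw [← hba]; group]
  refine hS.center b hb fun y hy => ?_
  have h := hcen (g * y * g⁻¹) ⟨y, hy, rfl⟩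
  rw [← hba] at h
  have e : g * (b * y) * g⁻¹ = g * (y * b) * g⁻¹ := by
    rw [show g * (b * y) * g⁻¹ = g * b * g⁻¹ * (g * y * g⁻¹) by group, h.eq]; group
  exact mul_left_cancel (mul_right_cancel e)

/-- The centraliser of an element outside the centre has a normal complement of index nine. -/
theorem complement {a : G} (ha : a ∈ (P : Subgroup G)) (haz : a ∉ Subgroup.zpowers z) :
    ∃ K : Subgroup (Subgroup.centralizer ({a} : Set G)), K.Normal ∧ ¬ 3 ∣ Nat.card K ∧
      K.index = 9 := by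
  set C := Subgroup.centralizer ({a} : Set G)
  obtain ⟨Q, hQ⟩ := exists_sylow_cent hS ha haz
  have hN : Subgroup.normalizer ((Q : Subgroup C) : Set C) ≤
      Subgroup.centralizer ((Q : Subgroup C) : Set C) := by
    intro c hc y hy
    have hzC : z ∈ C := Subgroup.mem_centralizer_singleton_iff.2 (hS.zc a ha).eq
    have hzQ : (⟨z, hzC⟩ : C) ∈ (Q : Subgroup C) := by
      rw [hQ]; exact Subgroup.mem_subgroupOf.2 ⟨hS.zmem, hzC⟩
    have h1 := (Subgroup.mem_normalizer_iff.1 hc _).1 hzQ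
    rw [hQ, Subgroup.mem_subgroupOf] at h1
    have hcz : Commute (c : G) z := isolated hS h1.1
    rw [SetLike.mem_coe, hQ, Subgroup.mem_subgroupOf] at hy
    exact Subtype.ext (Subgroup.mem_centralizer_singleton_iff.1
      (EP_le hS ha haz (S := Subgroup.centralizer ({(c : G)} : Set G))
        (Subgroup.mem_centralizer_singleton_iff.2 hcz.eq.symm)
        (Subgroup.mem_centralizer_singleton_iff.2
          (Subgroup.mem_centralizer_singleton_iff.1 c.2).symm) hy))
  refine ⟨(MonoidHom.transferSylow Q hN).ker, inferInstance,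
    MonoidHom.not_dvd_card_ker_transferSylow Q hN, ?_⟩
  have hle' : EP P a ≤ C := inf_le_right
  rw [(MonoidHom.ker_transferSylow_isComplement' Q hN).symm.index_eq_card, hQ,
    Nat.card_congr (Subgroup.subgroupOfEquivOfLe hle').toEquiv]
  exact card_EP hS ha haz

/-- The normaliser controls fusion outside the centre. -/
theorem fusion {a g : G} (ha : a ∈ (P : Subgroup G)) (haz : a ∉ Subgroup.zpowers z)
    (hb : g * a * g⁻¹ ∈ (P : Subgroup G)) :
    ∃ n ∈ Subgroup.normalizer ((P : Subgroup G) : Set G), n * a * n⁻¹ = g * a * g⁻¹ := by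
  have hbz : g * a * g⁻¹ ∉ Subgroup.zpowers z := conj_notMem hS ha haz
  set b := g * a * g⁻¹ with hbdef
  set C := Subgroup.centralizer ({b} : Set G)
  obtain ⟨Q, hQ⟩ := exists_sylow_cent hS hb hbz
  have hgzC : g * z * g⁻¹ ∈ C := Subgroup.mem_centralizer_singleton_iff.2 (by
    rw [hbdef, show g * z * g⁻¹ * (g * a * g⁻¹) = g * (z * a) * g⁻¹ by group,
      (hS.zc a ha).eq]
    group)
  obtain ⟨R, hR⟩ := (IsPGroup.of_card (p := 3)
    (G := Subgroup.zpowers (⟨g * z * g⁻¹, hgzC⟩ : C)) (n := 1)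
    (by
      rw [Nat.card_zpowers, ← Subgroup.orderOf_coe, pow_one]
      exact ((MulAut.conj g).orderOf_eq z).trans (z_order hS))).exists_le_sylow
  obtain ⟨c, hc⟩ := MulAction.exists_smul_eq C R Q
  have hcz : c * ⟨g * z * g⁻¹, hgzC⟩ * c⁻¹ ∈ (Q : Subgroup C) := by
    rw [← hc, Sylow.coe_subgroup_smul]
    exact ⟨_, hR (Subgroup.mem_zpowers _), rfl⟩
  rw [hQ, Subgroup.mem_subgroupOf] at hcz
  set g' := (c : G) * g with hg'
  have hg'z : Commute g' z := isolated hS (by
    rw [show g' * z * g'⁻¹ = (c : G) * (g * z * g⁻¹) * (c : G)⁻¹ by rw [hg']; group]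
    exact hcz.1)
  have hcb : Commute (c : G) b := Subgroup.mem_centralizer_singleton_iff.1 c.2
  have hg'a : g' * a * g'⁻¹ = b := by
    calc g' * a * g'⁻¹ = (c : G) * b * (c : G)⁻¹ := by rw [hg', hbdef]; group
      _ = b := by rw [hcb.eq, mul_inv_cancel_right]
  let M0 : Subgroup G :=
    { carrier := {m | Commute m z ∧ ∃ w ∈ Subgroup.zpowers z, m * b * m⁻¹ = b * w}
      one_mem' := ⟨Commute.one_left z, 1, one_mem _, by simp⟩
      mul_mem' := by
        rintro m m' ⟨hm, w, hw, e⟩ ⟨hm', w', hw', e'⟩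
        refine ⟨hm.mul_left hm', w * w', mul_mem hw hw', ?_⟩
        obtain ⟨k, rfl⟩ := Subgroup.mem_zpowers_iff.1 hw'
        calc m * m' * b * (m * m')⁻¹ = m * (m' * b * m'⁻¹) * m⁻¹ := by group
          _ = (m * b * m⁻¹) * (m * z ^ k * m⁻¹) := by rw [e']; group
          _ = b * (w * z ^ k) := by
              rw [e, (hm.zpow_right k).eq, mul_inv_cancel_right, mul_assoc]
      inv_mem' := by
        rintro m ⟨hm, w, hw, e⟩
        refine ⟨hm.inv_left, w⁻¹, inv_mem hw, ?_⟩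
        obtain ⟨k, rfl⟩ := Subgroup.mem_zpowers_iff.1 hw
        have e' : m * (b * (z ^ k)⁻¹) * m⁻¹ = b := by
          calc m * (b * (z ^ k)⁻¹) * m⁻¹ = (m * b * m⁻¹) * (m * z ^ k * m⁻¹)⁻¹ := by group
            _ = b := by rw [e, (hm.zpow_right k).eq, mul_inv_cancel_right]; group
        calc m⁻¹ * b * m⁻¹⁻¹ = m⁻¹ * (m * (b * (z ^ k)⁻¹) * m⁻¹) * m := by
              rw [e', inv_inv]
          _ = b * (z ^ k)⁻¹ := by group }
  have hP : (P : Subgroup G) ≤ M0 := fun p hp => ⟨(hS.zc p hp).symm, _,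
    hS.comm p hp b hb, by
      obtain ⟨k, hk⟩ := Subgroup.mem_zpowers_iff.1 (hS.comm p hp b hb)
      rw [← hk, ← ((hS.zc b hb).zpow_left k).eq, hk, inv_mul_cancel_right]⟩
  have hP' : ((g' • P : Sylow 3 G) : Subgroup G) ≤ M0 := by
    intro y hy
    rw [Sylow.coe_subgroup_smul] at hy
    obtain ⟨p, hp, rfl⟩ := hy
    show Commute (g' * p * g'⁻¹) z ∧ ∃ w ∈ Subgroup.zpowers z,
      g' * p * g'⁻¹ * b * (g' * p * g'⁻¹)⁻¹ = b * w
    obtain ⟨k, hk⟩ := Subgroup.mem_zpowers_iff.1 (hS.comm p hp a ha)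
    refine ⟨(hg'z.mul_left (hS.zc p hp).symm).mul_left hg'z.inv_left, z ^ k,
      Subgroup.zpow_mem_zpowers z k, ?_⟩
    have hk' : p * a * p⁻¹ = a * z ^ k := by
      rw [← ((hS.zc a ha).zpow_left k).eq, hk, inv_mul_cancel_right]
    calc g' * p * g'⁻¹ * b * (g' * p * g'⁻¹)⁻¹ = g' * (p * a * p⁻¹) * g'⁻¹ := by
          rw [← hg'a]; group
      _ = (g' * a * g'⁻¹) * (g' * z ^ k * g'⁻¹) := by rw [hk']; group
      _ = b * z ^ k := by rw [hg'a, (hg'z.zpow_right k).eq, mul_inv_cancel_right]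
  obtain ⟨m, hm⟩ := MulAction.exists_smul_eq M0 ((g' • P).subtype hP') (P.subtype hP)
  rw [Sylow.smul_subtype] at hm
  have hm' : (m : G) • g' • P = P := Sylow.subtype_injective hm
  rw [← mul_smul] at hm'
  have hn : (m : G) * g' ∈ Subgroup.normalizer ((P : Subgroup G) : Set G) :=
    Sylow.smul_eq_iff_mem_normalizer.1 hm'
  obtain ⟨hmz, w, hw, hmb⟩ := m.2
  obtain ⟨p, hp, hpb⟩ := exists_shift_pow hS hb hbz (inv_mem hw)
  refine ⟨p * ((m : G) * g'), mul_mem (Subgroup.le_normalizer hp) hn, ?_⟩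
  obtain ⟨k, rfl⟩ := Subgroup.mem_zpowers_iff.1 hw
  calc p * ((m : G) * g') * a * (p * ((m : G) * g'))⁻¹
      = p * ((m : G) * (g' * a * g'⁻¹) * (m : G)⁻¹) * p⁻¹ := by group
    _ = (p * b * p⁻¹) * (p * z ^ k * p⁻¹) := by rw [hg'a, hmb]; group
    _ = b := by
        rw [hpb, ((hS.zc p hp).symm.zpow_right k).eq, mul_inv_cancel_right, inv_mul_cancel_right]

end Cfsg.Agent.Lib.BC77.ThreeExtra.Group
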