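import Cfsg.Agent.Lib.BC77.ThreeExtra.Rows

/-!
# The totals determine the block

From the totals of the statistics over the rows the number of rows and the number of rows of
height zero follow.
-/

set_option autoImplicit false
set_option maxHeartbeats 1000000

namespace Cfsg.Agent.Lib.BC77.ThreeExtra.Solve

open Cfsg.Agent.Lib.BC77.ThreeExtra.Forms Cfsg.Agent.Lib.BC77.ThreeExtra.Types
  Cfsg.Agent.Lib.BC77.ThreeExtra.Rows

/-- The totals over all rows. -/
structure Totals {ι : Type*} [Fintype ι] (c : Cfg) (s t : ι → V6) (cv : ι → Fin c.r → ℤ)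
    (TR TW : ℤ) (l : ℕ) : Prop where
  good : ∀ i, Good c (s i) (t i) (cv i)
  sum_R : ∑ i, c.RfC (s i) (t i) = TR
  sum_W : ∑ i, c.WfC (s i) (t i) = TW
  sum_sq : ∑ i, ∑ a, cv i a * cv i a = 9 * (c.r : ℤ)
  sum_tot : ∑ i, (∑ a, cv i a) ^ 2 = 9 * (c.r : ℤ)
  card_part : (Finset.univ.filter fun i => t i ≠ 0).card = 2 * l

theorem exists_counts {ι κ : Type*} [Fintype ι] [DecidableEq κ] (key : ι → κ) (T : Finset κ)
    (hT : ∀ i, key i ∈ T) :
    ∃ N : κ → ℕ, ∀ f : κ → ℤ, ∑ i, f (key i) = ∑ u ∈ T, (N u : ℤ) * f u := by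
  refine ⟨fun u => (Finset.univ.filter fun i => key i = u).card, fun f => ?_⟩
  rw [← Finset.sum_fiberwise_of_maps_to (fun i _ => hT i)]
  refine Finset.sum_congr rfl fun u _ => ?_
  rw [Finset.sum_congr rfl fun i hi => by rw [(Finset.mem_filter.mp hi).2], Finset.sum_const,
    nsmul_eq_mul]

variable {ι : Type*} [Fintype ι]

/-- Non-reality together with the statistics. -/
def key (c : Cfg) (s t : ι → V6) (cv : ι → Fin c.r → ℤ) (i : ι) : Bool × ℤ × ℤ × ℤ × ℤ :=
  (decide (t i ≠ 0), stat c (s i) (t i) (cv i))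

theorem count_eq {κ : Type*} {f : ι → κ} {T : Finset κ} {N : κ → ℕ}
    (hN : ∀ g : κ → ℤ, ∑ i, g (f i) = ∑ u ∈ T, (N u : ℤ) * g u) (P : κ → Prop)
    [DecidablePred P] :
    ((Finset.univ.filter fun i => P (f i)).card : ℤ) =
      ∑ u ∈ T, (N u : ℤ) * if P u then 1 else 0 := by
  rw [← hN fun u => if P u then (1 : ℤ) else 0, Finset.sum_boole]

/-- Index eight. -/
theorem solve8 {s t : ι → V6} {cv : ι → Fin cfg8.r → ℤ} (h : Totals cfg8 s t cv 60 135 5)
    (hev : Even (Finset.univ.filter fun i => t i ≠ 0 ∧ cfg8.WfC (s i) (t i) = 19).card) :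
    Fintype.card ι = 16 ∧
      (Finset.univ.filter fun i => ¬ (3 : ℤ) ∣ ∑ a, cv i a * cv i a).card = 6 := by
  classical
  let T : Finset (Bool × ℤ × ℤ × ℤ × ℤ) := {(false, 0, 25, 1, 1), (false, 0, 25, 4, 4),
    (false, 4, 4, 1, 1), (false, 4, 9, 0, 0), (false, 6, 1, 1, 1), (true, 4, 9, 0, 0),
    (true, 4, 19, 1, 1)}
  obtain ⟨k, hk⟩ := hev
  have hT : ∀ i, key cfg8 s t cv i ∈ T := fun i => by
    rcases row8 (h.good i) with ⟨h0, hu⟩ | ⟨h0, hu⟩ <;>
      simp only [List.mem_cons, List.not_mem_nil, or_false] at hu <;>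
      unfold key
    · rcases hu with e | e | e | e | e <;> rw [e] <;> simp [T, h0]
    · rcases hu with e | e <;> rw [e] <;> simp [T, h0]
  obtain ⟨N, hN⟩ := exists_counts (key cfg8 s t cv) T hT
  have e1 := hN fun u => u.2.1
  have e2 := hN fun u => u.2.2.1
  have e3 := hN fun u => u.2.2.2.1
  have e4 := hN fun u => u.2.2.2.2
  have c1 := count_eq hN fun u => u.1 = true
  have c2 := count_eq hN fun u => u.1 = true ∧ u.2.2.1 = 19
  have c3 := count_eq hN fun u => ¬ (3 : ℤ) ∣ u.2.2.2.1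
  have c4 := count_eq hN fun _ => True
  simp only [key, stat, decide_eq_true_eq, Finset.filter_true, Finset.card_univ] at e1 e2 e3 e4 c1 c2 c3 c4
  rw [h.sum_R] at e1
  rw [h.sum_W] at e2
  rw [h.sum_sq] at e3
  rw [h.sum_tot] at e4
  rw [h.card_part] at c1
  rw [hk] at c2
  generalize Fintype.card ι = K at c4 ⊢
  simp [T, Finset.sum_insert, show (cfg8.r : ℤ) = 1 from rfl] at e1 e2 e3 e4 c1 c2 c3 c4
  have hk5 : k ≤ 5 := by omega
  refine ⟨by interval_cases k <;> omega, ?_⟩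
  have e6 := Nat.cast_inj.mp (c3.trans (by interval_cases k <;> omega : _ = ((6 : ℕ) : ℤ)))
  exact e6

/-- Index four. -/
theorem solve4 {s t : ι → V6} {cv : ι → Fin cfg4.r → ℤ} (h : Totals cfg4 s t cv 36 108 4) :
    Fintype.card ι = 14 ∧
      (Finset.univ.filter fun i => ¬ (3 : ℤ) ∣ ∑ a, cv i a * cv i a).card = 6 := by
  classical
  let T : Finset (Bool × ℤ × ℤ × ℤ × ℤ) := {(false, 0, 16, 2, 4), (false, 0, 16, 5, 1),
    (false, 3, 1, 2, 4), (false, 3, 9, 0, 0), (false, 4, 4, 2, 4), (true, 3, 9, 0, 0),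
    (true, 3, 13, 2, 4)}
  have hT : ∀ i, key cfg4 s t cv i ∈ T := fun i => by
    rcases row4 (h.good i) with ⟨h0, hu⟩ | ⟨h0, hu⟩ <;>
      simp only [List.mem_cons, List.not_mem_nil, or_false] at hu <;>
      unfold key
    · rcases hu with e | e | e | e | e <;> rw [e] <;> simp [T, h0]
    · rcases hu with e | e <;> rw [e] <;> simp [T, h0]
  obtain ⟨N, hN⟩ := exists_counts (key cfg4 s t cv) T hT
  have e1 := hN fun u => u.2.1
  have e2 := hN fun u => u.2.2.1
  have e3 := hN fun u => u.2.2.2.1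
  have e4 := hN fun u => u.2.2.2.2
  have c1 := count_eq hN fun u => u.1 = true
  have c3 := count_eq hN fun u => ¬ (3 : ℤ) ∣ u.2.2.2.1
  have c4 := count_eq hN fun _ => True
  simp only [key, stat, decide_eq_true_eq, Finset.filter_true, Finset.card_univ] at e1 e2 e3 e4 c1 c3 c4
  rw [h.sum_R] at e1
  rw [h.sum_W] at e2
  rw [h.sum_sq] at e3
  rw [h.sum_tot] at e4
  rw [h.card_part] at c1
  generalize Fintype.card ι = K at c4 ⊢
  simp [T, Finset.sum_insert, show (cfg4.r : ℤ) = 2 from rfl] at e1 e2 e3 e4 c1 c3 c4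
  refine ⟨by omega, ?_⟩
  have e6 := Nat.cast_inj.mp (c3.trans (by omega : _ = ((6 : ℕ) : ℤ)))
  exact e6

/-- Index two. -/
theorem solve2 {s t : ι → V6} {cv : ι → Fin cfg2.r → ℤ} (h : Totals cfg2 s t cv 6 54 2) :
    Fintype.card ι = 10 ∧
      (Finset.univ.filter fun i => ¬ (3 : ℤ) ∣ ∑ a, cv i a * cv i a).card = 6 := by
  classical
  let T : Finset (Bool × ℤ × ℤ × ℤ × ℤ) := {(false, 0, 4, 4, 16), (false, 0, 4, 7, 1),
    (false, 1, 1, 4, 16), (false, 1, 9, 0, 0), (true, 1, 9, 0, 0)}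
  have hT : ∀ i, key cfg2 s t cv i ∈ T := fun i => by
    rcases row2 (h.good i) with ⟨h0, hu⟩ | ⟨h0, hu⟩ <;>
      simp only [List.mem_cons, List.not_mem_nil, or_false] at hu <;>
      unfold key
    · rcases hu with e | e | e | e <;> rw [e] <;> simp [T, h0]
    · rw [hu]; simp [T, h0]
  obtain ⟨N, hN⟩ := exists_counts (key cfg2 s t cv) T hT
  have e1 := hN fun u => u.2.1
  have e2 := hN fun u => u.2.2.1
  have e3 := hN fun u => u.2.2.2.1
  have e4 := hN fun u => u.2.2.2.2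
  have c1 := count_eq hN fun u => u.1 = true
  have c3 := count_eq hN fun u => ¬ (3 : ℤ) ∣ u.2.2.2.1
  have c4 := count_eq hN fun _ => True
  simp only [key, stat, decide_eq_true_eq, Finset.filter_true, Finset.card_univ] at e1 e2 e3 e4 c1 c3 c4
  rw [h.sum_R] at e1
  rw [h.sum_W] at e2
  rw [h.sum_sq] at e3
  rw [h.sum_tot] at e4
  rw [h.card_part] at c1
  generalize Fintype.card ι = K at c4 ⊢
  simp [T, Finset.sum_insert, show (cfg2.r : ℤ) = 4 from rfl] at e1 e2 e3 e4 c1 c3 c4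
  refine ⟨by omega, ?_⟩
  have e6 := Nat.cast_inj.mp (c3.trans (by omega : _ = ((6 : ℕ) : ℤ)))
  exact e6

end Cfsg.Agent.Lib.BC77.ThreeExtra.Solve
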