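import Cfsg.Agent.Lib.BC77.ThreeExtra.Pairs
import Cfsg.Agent.Lib.BC77.ThreeExtra.Solve
import Cfsg.Agent.Lib.PrincipalCore.Basic
import Cfsg.Agent.Lib.Blocks.ContribRank

/-!
# The invariants for inertial index eight, four and two

The members of the principal block have the statistics listed in `Rows`; their totals are fixed
by the orthogonality relations and determine the invariants.
-/

set_option autoImplicit false
set_option linter.style.haveILetI false

namespace Cfsg.Agent.Lib.BC77.ThreeExtra.Main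

open Cfsg.Agent.Lib.Blocks hiding lin
open Cfsg.Agent.Lib.Blocks.Contrib Cfsg.Agent.Lib.Characters.Basic
open Cfsg.Agent.Lib.H80.ClassMult
open Cfsg.Agent.Lib.BC77.ThreeExtra.Group Cfsg.Agent.Lib.BC77.ThreeExtra.Classes
open Cfsg.Agent.Lib.BC77.ThreeExtra.Values Cfsg.Agent.Lib.BC77.ThreeExtra.Forms
open Cfsg.Agent.Lib.BC77.ThreeExtra.Centre Cfsg.Agent.Lib.BC77.ThreeExtra.Coords
open Cfsg.Agent.Lib.BC77.ThreeExtra.Rows Cfsg.Agent.Lib.BC77.ThreeExtra.Types
open scoped ComplexConjugate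

universe u

local instance : Fact (Nat.Prime 3) := ⟨Nat.prime_three⟩

attribute [local instance] Classical.propDecidable

/-- The facts about a table. -/
structure Consts (c : Cfg) : Prop where
  hid : ∀ v, c.D * c.qf v = 9 * c.Rf v + c.Wf v ^ 2
  dpos : 0 < c.D
  root_orth : ∀ a k, Forms.lin (c.d a) (c.root k) = 0
  w_orth : ∀ a, Forms.lin (c.d a) c.w = 0
  rdvd : ¬ (3 : ℤ) ∣ (c.r : ℤ)

theorem consts8 : Consts cfg8 := ⟨id8, by decide, by decide, by decide, by decide⟩

theorem consts4 : Consts cfg4 := ⟨id4, by decide, by decide, by decide, by decide⟩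

theorem consts2 : Consts cfg2 := ⟨id2, by decide, by decide, by decide, by decide⟩

theorem Consts.pos {c : Cfg} (h : Consts c) (v : V6) : 0 ≤ c.qf v := by
  have h1 := h.hid v
  have h2 := c.Rf_nonneg v
  have h3 := sq_nonneg (c.Wf v)
  have h4 := h.dpos
  nlinarith

theorem Consts.hidC {c : Cfg} (h : Consts c) (s t : V6) :
    c.D * c.qfC s t = 9 * c.RfC s t + c.WfC s t := by
  have e1 := c.four_qfC s t
  have e2 := c.four_RfC s t
  have e3 := c.four_WfC s t
  have h1 := h.hid (fun i => 2 * s i - t i)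
  have h2 := h.hid t
  nlinarith [congrArg (c.D * ·) e1]

theorem lin_comm (p q : V6) : Forms.lin p q = Forms.lin q p :=
  Finset.sum_congr rfl fun i _ => mul_comm _ _

theorem qb_comm (c : Cfg) (p q : V6) : qb c p q = qb c q p := by
  simp only [qb, mul_comm]

theorem qb_orth (c : Cfg) {p : V6} (v : V6) (h : ∀ a, Forms.lin (c.d a) p = 0) :
    qb c v p = 9 * Forms.lin p v := by
  simp only [qb, h, mul_zero, Finset.sum_const_zero, sub_zero]
  simp only [Forms.lin, mul_comm (v _)]

theorem lin_sum {ι : Type*} (S : Finset ι) (n : ι → ℤ) (D : ι → V6) (ρ : V6) :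
    Forms.lin ρ (fun i => ∑ j ∈ S, n j * D j i) = ∑ j ∈ S, n j * Forms.lin ρ (D j) := by
  simp only [Forms.lin, Finset.mul_sum]
  rw [Finset.sum_comm]
  exact Finset.sum_congr rfl fun j _ => Finset.sum_congr rfl fun i _ => by ring

theorem qb_sum_left {ι : Type*} (c : Cfg) (S : Finset ι) (n : ι → ℤ) (D : ι → V6) (q : V6) :
    qb c (fun i => ∑ j ∈ S, n j * D j i) q = ∑ j ∈ S, n j * qb c (D j) q := by
  simp only [qb, lin_sum, Finset.sum_mul, Finset.mul_sum, mul_sub, Finset.sum_sub_distrib]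
  congr 1
  · rw [Finset.sum_comm]
    exact Finset.sum_congr rfl fun j _ => Finset.sum_congr rfl fun i _ => by ring
  · rw [Finset.sum_comm]
    exact Finset.sum_congr rfl fun j _ => Finset.sum_congr rfl fun a _ => by ring

variable {G : Type u} [Group G] [Finite G] {P : Sylow 3 G} {z : G} (hS : Setup P z)
  (M : Ideal Cfsg.AlgInt) {c : Cfg} {u : Fin c.r → G} (hu : Reps P z u)

local notation "C[" w "]" => Subgroup.centralizer ({w} : Set G)

/-- The values outside the centre. -/
noncomputable def cv (χ : Cfsg.IrrCharacter G) (a : Fin c.r) : ℤ :=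
  (Section.exists_int hS hu a χ).choose

theorem cv_spec (χ : Cfsg.IrrCharacter G) (a : Fin c.r) :
    (χ : G → ℂ) (u a) = cv hS hu χ a ∧
      (cv hS hu χ a - (Cfsg.charDegree (χ : G → ℂ) : ℤ)) % 3 = 0 :=
  (Section.exists_int hS hu a χ).choose_spec

variable (F : Shape.Frame (setup_cent hS) M c (reps_cent hS hu)) (hM : Cfsg.IsPModular 3 M)
variable {s t : Cfsg.IrrCharacter G → V6}
  {n : Cfsg.IrrCharacter G → Cfsg.IrrCharacter (Subgroup.centralizer ({z} : Set G)) → ℤ}
  {D : Cfsg.IrrCharacter (Subgroup.centralizer ({z} : Set G)) → V6}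
  (hc : Coord hS M hu F s t n D)

include hM hc

/-- The mean square on the section of the centre. -/
theorem norm_sum [Fintype C[z]] {χ : Cfsg.IrrCharacter G} (hχ : χ ∈ Cfsg.principalBlock M G) :
    ∑ y : C[z], (if 3 ∣ orderOf y then 0 else
      (χ : G → ℂ) (z * (y : G)) * conj ((χ : G → ℂ) (z * (y : G)))) =
      (primeToCard 3 C[z] : ℂ) * (c.qfC (s χ) (t χ) : ℂ) := by
  rw [← qc_self]
  exact Coords.bilin hS M hu F hM (fun y => (χ : G → ℂ) (z * (y : G)))
    (fun y => (χ : G → ℂ) (z * (y : G))) _ _ (hc.value χ hχ) (hc.value χ hχ)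

omit hM hc in
/-- Inversion exchanges the two central sections. -/
theorem secSum_inv [Fintype G] (hS : Setup P z) {f : G → ℂ} (hf : ∀ g, f g⁻¹ = f g) :
    Section.secSum (z ^ 2) f = Section.secSum z f := by
  classical
  have hz : z ^ 2 = z⁻¹ := (inv_eq_sq hS hS.zmem).symm
  have key : ∀ g y : G, Cfsg.IsPPart 3 g y → Cfsg.IsPPart 3 g⁻¹ y⁻¹ := by
    rintro g y ⟨v, hv, hcm, hy, hv'⟩
    exact ⟨v⁻¹, by rw [← hv, hcm.eq, mul_inv_rev], hcm.inv_inv, by rwa [orderOf_inv],
      by rwa [orderOf_inv]⟩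
  have hconj : ∀ a b : G, IsConj a b → IsConj a⁻¹ b⁻¹ := by
    intro a b h
    obtain ⟨g, hg⟩ := isConj_iff.1 h
    exact isConj_iff.2 ⟨g, by rw [← hg]; group⟩
  rw [Section.secSum, Section.secSum]
  refine Finset.sum_nbij' (fun g => g⁻¹) (fun g => g⁻¹) ?_ ?_ (fun g _ => inv_inv g)
    (fun g _ => inv_inv g) (fun g _ => (hf g).symm)
  · intro g hg
    simp only [Finset.mem_coe, Finset.mem_filter, Finset.mem_univ, true_and] at hg ⊢
    obtain ⟨y, hy, hzy⟩ := hg
    exact ⟨y⁻¹, key g y hy, by simpa [hz] using hconj _ _ hzy⟩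
  · intro g hg
    simp only [Finset.mem_coe, Finset.mem_filter, Finset.mem_univ, true_and] at hg ⊢
    obtain ⟨y, hy, hzy⟩ := hg
    exact ⟨y⁻¹, key g y hy, by rw [hz]; exact hconj _ _ hzy⟩

/-- The three kinds of sections share the order of a Sylow subgroup. -/
theorem identity {χ : Cfsg.IrrCharacter G} (hχ : χ ∈ Cfsg.principalBlock M G) :
    contribN 3 χ χ + 2 * c.qfC (s χ) (t χ) + 3 * ∑ a, cv hS hu χ a * cv hS hu χ a = 27 := by
  classical
  haveI := hM.2.1
  letI := Fintype.ofFinite G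
  letI := Fintype.ofFinite C[z]
  set f : G → ℂ := fun g => (χ : G → ℂ) g * conj ((χ : G → ℂ) g) with hfdef
  have hf : Cfsg.IsClassFunction G f := fun g h => by
    simp only [hfdef, isClassFunction_irr χ g h]
  have hinv : ∀ g, f g⁻¹ = f g := fun g => by
    simp only [hfdef, apply_inv (isCharacter_irr χ), Complex.conj_conj, mul_comm]
  have hreg : ∑ g : G, (if 3 ∣ orderOf g then 0 else f g) =
      (primeToCard 3 G : ℂ) * contribN 3 χ χ := by
    rw [← regSum_eq_contribN, regSum_eq_sum]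
    exact Finset.sum_congr rfl fun g _ => by
      split_ifs
      · rfl
      · simp only [hfdef, apply_inv (isCharacter_irr χ)]
  have hz1 : 27 * Section.secSum z f = (Nat.card G : ℂ) * (c.qfC (s χ) (t χ) : ℂ) := by
    have h := Section.secSum_eq (Section.order_z hS) (H := C[z]) rfl hf
    have hC := card_eq (setup_cent hS)
    rw [norm_sum hS M hu F hM hc hχ, hC] at h
    refine mul_left_cancel₀ (Nat.cast_ne_zero.2 (primeToCard_pos (G := C[z]) 3).ne' :
      (primeToCard 3 C[z] : ℂ) ≠ 0) ?_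
    linear_combination h
  have hu' : ∀ a : Fin c.r, 9 * Section.secSum (u a) f =
      (Nat.card G : ℂ) * ((cv hS hu χ a * cv hS hu χ a : ℤ) : ℂ) := by
    intro a
    rw [Section.secSum_u hS hu a hf fun g hg => by
      simp only [hfdef, Section.section_const hS hu M hM a hg χ hχ]]
    simp only [hfdef, (cv_spec hS hu χ a).1, map_intCast, Int.cast_mul]
  have horth : ∑ g : G, f g = (Nat.card G : ℂ) := by
    have h := classInner_irr χ χ
    rw [if_pos rfl, Cfsg.classInner, inv_mul_eq_iff_eq_mul₀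
      (Nat.cast_ne_zero.2 Nat.card_pos.ne'), mul_one] at h
    exact h
  have htot := Section.total hS hu f
  rw [horth, hreg, secSum_inv hS hinv] at htot
  have hsum : 9 * ∑ a, Section.secSum (u a) f = (Nat.card G : ℂ) *
      ∑ a, ((cv hS hu χ a * cv hS hu χ a : ℤ) : ℂ) := by
    rw [Finset.mul_sum, Finset.mul_sum]
    exact Finset.sum_congr rfl fun a _ => hu' a
  rw [card_eq hS] at htot hz1 hsum
  have hh : (27 * (primeToCard 3 G : ℂ)) ≠ 0 :=
    mul_ne_zero (by norm_num) (Nat.cast_ne_zero.2 (primeToCard_pos 3).ne')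
  refine Int.cast_injective (α := ℂ) (mul_left_cancel₀ hh ?_)
  push_cast at hsum ⊢
  linear_combination -(27 : ℂ) * htot - 2 * hz1 - 3 * hsum

omit hc in
/-- The column sums outside the centre. -/
theorem col_cv (a b : Fin c.r) :
    ∑ χ ∈ bset (Cfsg.principalBlock M G), cv hS hu χ a * cv hS hu χ b =
      if a = b then 9 else 0 := by
  haveI := hM.2.1
  have h := Section.col hS hu M hM b (g := u a) (y := u a)
    (isPPart_self Nat.prime_three (Section.order_u hS hu a))
  have hcj : IsConj (u a) (u b) ↔ a = b := ⟨hu.inj a b, fun e => e ▸ IsConj.refl _⟩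
  simp only [hcj, finsum_mem_bset, (cv_spec hS hu _ _).1, map_intCast] at h
  refine Int.cast_injective (α := ℂ) ?_
  push_cast
  exact h.trans (by split_ifs <;> simp)

/-- Not all values on the singular elements vanish. -/
theorem ne_zero {χ : Cfsg.IrrCharacter G} (hχ : χ ∈ Cfsg.principalBlock M G) (hr : 0 < c.r) :
    c.qfC (s χ) (t χ) ≠ 0 ∨ ∑ a, cv hS hu χ a * cv hS hu χ a ≠ 0 := by
  classical
  haveI := hM.2.1
  by_contra hcon
  push Not at hcon
  obtain ⟨hx, hsum⟩ := hcon
  have hc0 : ∀ a, cv hS hu χ a = 0 := fun a => mul_self_eq_zero.1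
    ((Finset.sum_eq_zero_iff_of_nonneg fun b _ => mul_self_nonneg _).1 hsum a (Finset.mem_univ a))
  have hne : χ ≠ oneChar G := fun e => by
    have h := (cv_spec hS hu χ ⟨0, hr⟩).1
    rw [hc0, e, oneChar_apply] at h
    norm_num at h
  letI := Fintype.ofFinite G
  letI := Fintype.ofFinite C[z]
  have hzero : ∀ y : C[z], ¬ 3 ∣ orderOf y → (χ : G → ℂ) (z * (y : G)) = 0 := by
    intro y hy
    have h := norm_sum hS M hu F hM hc hχ
    rw [hx, Int.cast_zero, mul_zero] at h
    have h' := congrArg Complex.re h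
    rw [Complex.re_sum, Complex.zero_re] at h'
    have h1 := (Finset.sum_eq_zero_iff_of_nonneg fun w _ => by
      split_ifs
      · simp
      · rw [Complex.mul_conj]; exact Complex.normSq_nonneg _).1 h' y (Finset.mem_univ y)
    rw [if_neg hy, Complex.mul_conj, Complex.ofReal_re] at h1
    exact Complex.normSq_eq_zero.1 h1
  have hf : Cfsg.IsClassFunction G (χ : G → ℂ) := isClassFunction_irr χ
  have hsec : Section.secSum z (χ : G → ℂ) = 0 := by
    have h := Section.secSum_eq (Section.order_z hS) (H := C[z]) rfl hf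
    rw [Finset.sum_eq_zero fun y _ => by
      by_cases hy : 3 ∣ orderOf y
      · exact if_pos hy
      · rw [if_neg hy]; exact hzero y hy, mul_zero] at h
    exact (mul_eq_zero.1 h).resolve_left (Nat.cast_ne_zero.2 Nat.card_pos.ne')
  have hsec2 : Section.secSum (z ^ 2) (χ : G → ℂ) = 0 := by
    have hH : C[z] = C[z ^ 2] := by
      ext g
      simp only [Subgroup.mem_centralizer_singleton_iff]
      constructor
      · intro h; exact ((show Commute g z from h).pow_right 2).eq
      · intro h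
        have := ((show Commute g (z ^ 2) from h).pow_right 2).eq
        rwa [← pow_mul, show 2 * 2 = 3 + 1 from rfl, pow_succ, z3 hS, one_mul] at this
    have h := Section.secSum_eq (Section.order_z2 hS) (H := C[z]) hH hf
    rw [Finset.sum_eq_zero fun y _ => by
      by_cases hy : 3 ∣ orderOf y
      · exact if_pos hy
      · rw [if_neg hy, ← inv_eq_sq hS hS.zmem,
          show z⁻¹ * (y : G) = (z * ((y⁻¹ : C[z]) : G))⁻¹ by
            rw [Subgroup.coe_inv, mul_inv_rev, inv_inv]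
            exact ((show Commute (y : G) z from
              Subgroup.mem_centralizer_singleton_iff.1 y.2).inv_right).eq.symm,
          apply_inv (isCharacter_irr χ), hzero _ (by rwa [orderOf_inv]), map_zero], mul_zero] at h
    exact (mul_eq_zero.1 h).resolve_left (Nat.cast_ne_zero.2 Nat.card_pos.ne')
  have hsecu : ∀ a, Section.secSum (u a) (χ : G → ℂ) = 0 := fun a => by
    have h := Section.secSum_u hS hu a hf
      (fun g hg => Section.section_const hS hu M hM a hg χ hχ)
    rw [(cv_spec hS hu χ a).1, hc0, Int.cast_zero, mul_zero] at h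
    exact (mul_eq_zero.1 h).resolve_left (by norm_num)
  have htot := Section.total hS hu (χ : G → ℂ)
  rw [hsec, hsec2, Finset.sum_eq_zero fun a _ => hsecu a, add_zero, add_zero, add_zero] at htot
  have hsum0 : ∑ g : G, (χ : G → ℂ) g = 0 := by
    have h := classInner_irr χ (oneChar G)
    rw [if_neg hne, Cfsg.classInner, mul_eq_zero] at h
    have h' := h.resolve_left (inv_ne_zero (Nat.cast_ne_zero.2 Nat.card_pos.ne'))
    simpa [oneChar_apply] using h'
  have hN : contribN 3 χ (oneChar G) = 0 := by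
    have h := regSum_eq_contribN 3 χ (oneChar G)
    rw [regSum_eq_sum] at h
    have e : ∑ g : G, (if 3 ∣ orderOf g then 0 else (χ : G → ℂ) g * (oneChar G : G → ℂ) g⁻¹) =
        ∑ g : G, (if 3 ∣ orderOf g then 0 else (χ : G → ℂ) g) :=
      Finset.sum_congr rfl fun g _ => by simp [oneChar_apply]
    rw [e, ← htot, hsum0] at h
    exact_mod_cast (mul_eq_zero.1 h.symm).resolve_left (Nat.cast_ne_zero.2 (primeToCard_pos 3).ne')
  have h1 : oneChar G ∈ Cfsg.principalBlock M G := PrincipalCore.Basic.oneChar_mem hM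
  have h0 : vdeg 3 (oneChar G) = minVdeg 3 (Cfsg.principalBlock M G) := by
    have hv : vdeg 3 (oneChar G) = 0 := by
      rw [vdeg, show Cfsg.charDegree (oneChar G : G → ℂ) = 1 by
        simp [Cfsg.charDegree, oneChar_apply]]
      simp
    have := minVdeg_le (p := 3) h1
    omega
  exact contribN_ne_zero hM isPBlock_principalBlock h1 h0 hχ (contribN_comm 3 χ (oneChar G) ▸ hN)

/-- The congruence between the section of the centre and the others. -/
theorem congr_three {χ : Cfsg.IrrCharacter G} (hχ : χ ∈ Cfsg.principalBlock M G) :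
    (c.qfC (s χ) (t χ) + ∑ a, cv hS hu χ a * cv hS hu χ a) % 3 = 0 := by
  classical
  set deg : Fin 6 → ℤ := fun i =>
    F.eps i * (Cfsg.charDegree (F.sg i : C[z] → ℂ) : ℤ) with hdeg
  have hv := hc.value χ hχ 1 (by simp)
  rw [OneMemClass.coe_one, mul_one] at hv
  have hE : ∀ i, eh hS M hu F i 1 = (deg i : ℂ) := fun i => by
    rw [eh, (deg_spec (F.sg i)).2, hdeg]; push_cast; rfl
  simp only [hE] at hv
  obtain ⟨a0, b0, n0, hn0, hz0, hmod⟩ := exists_values (isCharacter_irr χ) (z3 hS)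
  have hd0 : Cfsg.charDegree (χ : G → ℂ) = n0 := by
    have h := (deg_spec χ).2
    rw [hn0] at h
    exact_mod_cast h.symm
  obtain ⟨hA, hB⟩ := int_combination (a := ∑ i, s χ i * deg i - a0)
    (b := ∑ i, t χ i * deg i - b0) (by
      rw [hz0] at hv
      simp only [add_mul, mul_assoc, Finset.sum_add_distrib, ← Finset.mul_sum] at hv
      push_cast
      linear_combination -hv)
  have hS3 : ∀ (a : Fin c.r) (v : V6), (3 : ℤ) ∣ Forms.lin (c.d a) v - ∑ i, v i * deg i := by
    intro a v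
    rw [Forms.lin, ← Finset.sum_sub_distrib]
    refine Finset.dvd_sum fun i _ => ?_
    obtain ⟨k, hk⟩ := Int.dvd_of_emod_eq_zero
      (val_spec (setup_cent hS) (reps_cent hS hu) (F.sg i) a).2
    rw [F.row a i] at hk
    refine ⟨F.eps i * v i * k, ?_⟩
    simp only [hdeg]
    linear_combination (F.eps i * v i) * hk - v i * c.d a i * F.unit i
  have key : c.qfC (s χ) (t χ) + ∑ a, cv hS hu χ a * cv hS hu χ a =
      3 * (3 * ∑ i, nrm (s χ i) (t χ i)) + ∑ a, (cv hS hu χ a * cv hS hu χ a -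
        nrm (Forms.lin (c.d a) (s χ)) (Forms.lin (c.d a) (t χ))) := by
    simp only [Cfg.qfC, qsumC, Finset.sum_sub_distrib]
    ring
  rw [key]
  refine Int.emod_eq_zero_of_dvd (dvd_add (dvd_mul_right _ _) (Finset.dvd_sum fun a _ => ?_))
  obtain ⟨k1, hk1⟩ := hS3 a (s χ)
  obtain ⟨k2, hk2⟩ := hS3 a (t χ)
  obtain ⟨k3, hk3⟩ := Int.dvd_of_emod_eq_zero (cv_spec hS hu χ a).2
  obtain ⟨k4, hk4⟩ := Int.dvd_of_emod_eq_zero hmod
  rw [hd0] at hk3
  generalize Forms.lin (c.d a) (s χ) = S, Forms.lin (c.d a) (t χ) = T, cv hS hu χ a = e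
    at hk1 hk2 hk3 ⊢
  refine ⟨(k3 - k4 - k1 - k2) * (e + S + T) + S * T, ?_⟩
  have he : e - (S + T) = 3 * (k3 - k4 - k1 - k2) := by
    linear_combination hk3 - hk4 - hk1 - hk2 - hA - hB
  rw [nrm]
  linear_combination (e + S + T) * he

/-- The pairing of the non-real part with the vector of a faithful member. -/
theorem qb_t {χ : Cfsg.IrrCharacter G} {θ : Cfsg.IrrCharacter C[z]}
    (hθ : θ ∈ part (centZ hS) M om) : qb c (t χ) (D θ) = 9 * n χ θ := by
  rw [show t χ = fun i => ∑ θ ∈ part (centZ hS) M om, n χ θ * D θ i from funext (hc.t_eq χ),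
    qb_sum_left, Finset.sum_congr rfl fun j hj => by rw [hc.gram j hj θ hθ]]
  simp only [mul_ite, mul_zero]
  rw [Finset.sum_ite_eq', if_pos hθ, mul_comm]

/-- The coefficients of the non-real parts are orthogonal. -/
theorem sum_n {θ θ' : Cfsg.IrrCharacter C[z]} (hθ : θ ∈ part (centZ hS) M om)
    (hθ' : θ' ∈ part (centZ hS) M om) :
    ∑ χ ∈ bset (Cfsg.principalBlock M G), n χ θ * n χ θ' = if θ = θ' then 2 else 0 := by
  have h := (Pairs.sums hS M hu F hM hc (D θ) (D θ')).2.1
  rw [Finset.sum_congr rfl fun χ _ => by rw [qb_t hS M hu F hM hc hθ, qb_t hS M hu F hM hc hθ'],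
    hc.gram θ hθ θ' hθ'] at h
  have e : ∑ χ ∈ bset (Cfsg.principalBlock M G), 9 * n χ θ * (9 * n χ θ') =
      81 * ∑ χ ∈ bset (Cfsg.principalBlock M G), n χ θ * n χ θ' := by
    rw [Finset.mul_sum]
    exact Finset.sum_congr rfl fun χ _ => by ring
  rw [e] at h
  split_ifs at h ⊢ <;> omega

/-- The real part of an orthogonal vector against the coefficients. -/
theorem sum_mixed {p : V6} (hp : ∀ a, Forms.lin (c.d a) p = 0) {θ : Cfsg.IrrCharacter C[z]}
    (hθ : θ ∈ part (centZ hS) M om) :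
    ∑ χ ∈ bset (Cfsg.principalBlock M G), Forms.lin p (s χ) * n χ θ = Forms.lin p (D θ) := by
  have h := (Pairs.sums hS M hu F hM hc p (D θ)).1
  rw [Finset.sum_congr rfl fun χ _ => by rw [qb_orth c _ hp, qb_t hS M hu F hM hc hθ],
    qb_comm c p, qb_orth c _ hp] at h
  have e : ∑ χ ∈ bset (Cfsg.principalBlock M G), 9 * Forms.lin p (s χ) * (9 * n χ θ) =
      81 * ∑ χ ∈ bset (Cfsg.principalBlock M G), Forms.lin p (s χ) * n χ θ := by
    rw [Finset.mul_sum]
    exact Finset.sum_congr rfl fun χ _ => by ring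
  rw [e] at h
  omega

/-- The norms along an orthogonal vector. -/
theorem sum_norm {p : V6} (hp : ∀ a, Forms.lin (c.d a) p = 0) :
    ∑ χ ∈ bset (Cfsg.principalBlock M G), nrm (Forms.lin p (s χ)) (Forms.lin p (t χ)) =
      3 * Forms.lin p p := by
  obtain ⟨h1, h2, h3⟩ := Pairs.sums hS M hu F hM hc p p
  simp only [qb_orth c _ hp] at h1 h2 h3
  have e : 81 * ∑ χ ∈ bset (Cfsg.principalBlock M G),
      nrm (Forms.lin p (s χ)) (Forms.lin p (t χ)) =
      ∑ χ ∈ bset (Cfsg.principalBlock M G), 9 * Forms.lin p (s χ) * (9 * Forms.lin p (s χ)) -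
        ∑ χ ∈ bset (Cfsg.principalBlock M G), 9 * Forms.lin p (s χ) * (9 * Forms.lin p (t χ)) +
        ∑ χ ∈ bset (Cfsg.principalBlock M G), 9 * Forms.lin p (t χ) * (9 * Forms.lin p (t χ)) := by
    rw [Finset.mul_sum, ← Finset.sum_sub_distrib, ← Finset.sum_add_distrib]
    exact Finset.sum_congr rfl fun χ _ => by rw [nrm]; ring
  omega

variable (hK : Consts c)
include hK

/-- At most one coefficient of the non-real part is non-zero, and then it is a sign. -/
theorem sum_n_sq_le {χ : Cfsg.IrrCharacter G} (hχ : χ ∈ Cfsg.principalBlock M G) :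
    ∑ θ ∈ part (centZ hS) M om, n χ θ * n χ θ ≤ 1 ∧
      c.qf (t χ) = 9 * ∑ θ ∈ part (centZ hS) M om, n χ θ * n χ θ := by
  haveI := hM.2.1
  have hq : c.qf (t χ) = 9 * ∑ θ ∈ part (centZ hS) M om, n χ θ * n χ θ := by
    rw [← qb_self]
    nth_rewrite 1 [show t χ = fun i => ∑ θ ∈ part (centZ hS) M om, n χ θ * D θ i from
      funext (hc.t_eq χ)]
    rw [qb_sum_left, Finset.mul_sum]
    refine Finset.sum_congr rfl fun θ hθ => ?_
    rw [qb_comm c, qb_t hS M hu F hM hc hθ]
    ring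
  refine ⟨?_, hq⟩
  have h1 := identity hS M hu F hM hc hχ
  have h2 := contribN_self_pos hM isPBlock_principalBlock hχ (p := 3)
  have h3 : 0 ≤ ∑ a, cv hS hu χ a * cv hS hu χ a :=
    Finset.sum_nonneg fun a _ => mul_self_nonneg _
  have h4 := c.four_qfC (s χ) (t χ)
  have h5 := hK.pos (fun i => 2 * s χ i - t χ i)
  omega

omit hK in
/-- The non-real part vanishes exactly when all coefficients do. -/
theorem t_ne_zero_iff (hsq : ∀ χ ∈ Cfsg.principalBlock M G,
      ∑ θ ∈ part (centZ hS) M om, n χ θ * n χ θ ≤ 1 ∧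
        c.qf (t χ) = 9 * ∑ θ ∈ part (centZ hS) M om, n χ θ * n χ θ)
    {χ : Cfsg.IrrCharacter G} (hχ : χ ∈ Cfsg.principalBlock M G) :
    (t χ ≠ 0 ↔ ∑ θ ∈ part (centZ hS) M om, n χ θ * n χ θ = 1) ∧
      (t χ = 0 → ∑ θ ∈ part (centZ hS) M om, n χ θ * n χ θ = 0) := by
  obtain ⟨h1, h2⟩ := hsq χ hχ
  have h0 : 0 ≤ ∑ θ ∈ part (centZ hS) M om, n χ θ * n χ θ :=
    Finset.sum_nonneg fun _ _ => mul_self_nonneg _
  have hz : t χ = 0 → ∑ θ ∈ part (centZ hS) M om, n χ θ * n χ θ = 0 := fun e => by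
    have : c.qf (0 : V6) = 0 := by simp [Cfg.qf, qsum, Forms.lin]
    rw [e, this] at h2
    omega
  refine ⟨⟨fun hne => ?_, fun h e => by have := hz e; omega⟩, hz⟩
  by_contra hne1
  refine hne (funext fun i => ?_)
  rw [hc.t_eq, Finset.sum_eq_zero fun θ hθ => by
    rw [mul_self_eq_zero.1 ((Finset.sum_eq_zero_iff_of_nonneg fun _ _ => mul_self_nonneg _).1
      (by omega : ∑ θ ∈ part (centZ hS) M om, n χ θ * n χ θ = 0) θ hθ), zero_mul]]
  rfl

/-- What is known of one member. -/
theorem good {χ : Cfsg.IrrCharacter G} (hχ : χ ∈ Cfsg.principalBlock M G) (hr : 0 < c.r) :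
    Good c (s χ) (t χ) (cv hS hu χ) where
  part := by
    by_cases h : t χ = 0
    · exact Or.inl h
    · refine Or.inr ?_
      have hsq := sum_n_sq_le hS M hu F hM hc hK hχ
      rw [hsq.2, ((t_ne_zero_iff hS M hu F hM hc
        (fun χ hχ => sum_n_sq_le hS M hu F hM hc hK hχ) hχ).1.1 h), mul_one]
  mutual_congr a b := by
    have h1 := (cv_spec hS hu χ a).2
    have h2 := (cv_spec hS hu χ b).2
    omega
  congr := congr_three hS M hu F hM hc hχ
  bound := by
    haveI := hM.2.1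
    have h1 := identity hS M hu F hM hc hχ
    have h2 := contribN_self_pos hM isPBlock_principalBlock hχ (p := 3)
    omega
  ne_zero := ne_zero hS M hu F hM hc hχ hr

/-- The totals over the members of the block. -/
theorem totals [Fintype (Cfsg.principalBlock M G)] {TR TW : ℤ} {l : ℕ} (hr : 0 < c.r)
    (hTR : 3 * ∑ k, Forms.lin (c.root k) (c.root k) = TR) (hTW : 3 * Forms.lin c.w c.w = TW)
    (hl : (part (centZ hS) M om).card = l) :
    Solve.Totals c (fun χ : Cfsg.principalBlock M G => s χ.1) (fun χ => t χ.1)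
      (fun χ => cv hS hu χ.1) TR TW l where
  good χ := good hS M hu F hM hc hK χ.2 hr
  sum_R := by
    rw [← Finset.sum_subtype (bset (Cfsg.principalBlock M G)) (fun _ => mem_bset)
      (fun χ => c.RfC (s χ) (t χ))]
    simp only [Cfg.RfC, qsumC]
    rw [Finset.sum_comm, ← hTR, Finset.mul_sum]
    exact Finset.sum_congr rfl fun k _ => sum_norm hS M hu F hM hc fun a => hK.root_orth a k
  sum_W := by
    rw [← Finset.sum_subtype (bset (Cfsg.principalBlock M G)) (fun _ => mem_bset)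
      (fun χ => c.WfC (s χ) (t χ))]
    simp only [Cfg.WfC, Cfg.Wf]
    rw [← hTW]
    exact sum_norm hS M hu F hM hc hK.w_orth
  sum_sq := by
    rw [← Finset.sum_subtype (bset (Cfsg.principalBlock M G)) (fun _ => mem_bset)
      (fun χ => ∑ a, cv hS hu χ a * cv hS hu χ a), Finset.sum_comm,
      Finset.sum_congr rfl fun a _ => (col_cv hS M hu hM a a).trans (if_pos rfl)]
    simp [mul_comm]
  sum_tot := by
    rw [← Finset.sum_subtype (bset (Cfsg.principalBlock M G)) (fun _ => mem_bset)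
      (fun χ => (∑ a, cv hS hu χ a) ^ 2)]
    simp only [pow_two, Finset.sum_mul_sum]
    rw [Finset.sum_comm, Finset.sum_congr rfl fun a _ => Finset.sum_comm]
    simp only [col_cv hS M hu hM, Finset.sum_ite_eq, Finset.mem_univ, if_true]
    simp [mul_comm]
  card_part := by
    classical
    refine Nat.cast_injective (R := ℤ) ?_
    have hsq := fun χ hχ => sum_n_sq_le hS M hu F hM hc hK (χ := χ) hχ
    have e : ∀ χ : Cfsg.principalBlock M G,
        (if t χ.1 ≠ 0 then (1 : ℤ) else 0) =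
          ∑ θ ∈ part (centZ hS) M om, n χ.1 θ * n χ.1 θ := fun χ => by
      obtain ⟨h1, h2⟩ := t_ne_zero_iff hS M hu F hM hc hsq χ.2
      by_cases h : t χ.1 = 0
      · rw [if_neg (not_not.2 h), h2 h]
      · rw [if_pos h, h1.1 h]
    rw [Finset.natCast_card_filter, Finset.sum_congr rfl fun χ _ => e χ,
      ← Finset.sum_subtype (bset (Cfsg.principalBlock M G)) (fun _ => mem_bset)
      (fun χ => ∑ θ ∈ part (centZ hS) M om, n χ θ * n χ θ), Finset.sum_comm,
      Finset.sum_congr rfl fun θ hθ => (sum_n hS M hu F hM hc hθ hθ).trans (if_pos rfl)]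
    simp [hl, mul_comm]

/-- The members with a given norm along `w` in the non-real part come in pairs. -/
theorem even_fibre [Fintype (Cfsg.principalBlock M G)] (V : ℤ) :
    Even (Finset.univ.filter fun χ : Cfsg.principalBlock M G =>
      t χ.1 ≠ 0 ∧ c.WfC (s χ.1) (t χ.1) = V).card := by
  classical
  have hsq := fun χ hχ => sum_n_sq_le hS M hu F hM hc hK (χ := χ) hχ
  set S := bset (Cfsg.principalBlock M G)
  rw [← Int.even_coe_nat, Finset.natCast_card_filter,
    ← Finset.sum_subtype S (fun _ => mem_bset)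
    (fun χ => if t χ ≠ 0 ∧ c.WfC (s χ) (t χ) = V then (1 : ℤ) else 0)]
  rw [Finset.sum_congr rfl fun χ hχ => show (if t χ ≠ 0 ∧ c.WfC (s χ) (t χ) = V then (1 : ℤ) else 0) =
      ∑ θ ∈ part (centZ hS) M om, n χ θ * n χ θ * (if c.WfC (s χ) (t χ) = V then 1 else 0) by
    obtain ⟨h1, h2⟩ := t_ne_zero_iff hS M hu F hM hc hsq (mem_bset.1 hχ)
    rw [← Finset.sum_mul]
    by_cases h : t χ = 0
    · rw [h2 h, zero_mul, if_neg fun e => e.1 h]
    · rw [h1.1 h, one_mul]
      simp [h], Finset.sum_comm]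
  refine Finset.even_sum _ fun θ hθ => ?_
  have hn2 := (sum_n hS M hu F hM hc hθ hθ).trans (if_pos rfl)
  have hle : ∀ χ ∈ S, n χ θ * n χ θ ≤ 1 := fun χ hχ => le_trans
    (Finset.single_le_sum (f := fun θ => n χ θ * n χ θ) (fun _ _ => mul_self_nonneg _) hθ)
    (hsq χ (mem_bset.1 hχ)).1
  set S' := S.filter fun χ => n χ θ ≠ 0 with hS'
  have hone : ∀ χ ∈ S', n χ θ * n χ θ = 1 := fun χ hχ => by
    rw [hS', Finset.mem_filter] at hχ
    have := hle χ hχ.1
    have : n χ θ * n χ θ ≠ 0 := mul_self_ne_zero.2 hχ.2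
    have := mul_self_nonneg (n χ θ)
    omega
  have hcard : S'.card = 2 := by
    have h : ∑ χ ∈ S', n χ θ * n χ θ = 2 := by
      rw [hS', Finset.sum_filter_of_ne (fun χ _ (h : n χ θ * n χ θ ≠ 0) =>
        left_ne_zero_of_mul h), hn2]
    rw [Finset.sum_congr rfl hone, Finset.sum_const, nsmul_eq_mul, mul_one] at h
    exact_mod_cast h
  obtain ⟨χ₁, χ₂, hne, heq⟩ := Finset.card_eq_two.1 hcard
  have hm := sum_mixed hS M hu F hM hc hK.w_orth hθ
  rw [← Finset.sum_subset (Finset.filter_subset (fun χ => n χ θ ≠ 0) S) (fun χ hχ hn => by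
    have : n χ θ = 0 := by_contra fun e => hn (Finset.mem_filter.2 ⟨hχ, e⟩)
    rw [this, mul_zero]), ← hS', heq, Finset.sum_pair hne] at hm
  rw [← Finset.sum_subset (Finset.filter_subset (fun χ => n χ θ ≠ 0) S) (fun χ hχ hn => by
    have : n χ θ = 0 := by_contra fun e => hn (Finset.mem_filter.2 ⟨hχ, e⟩)
    rw [this, mul_zero, zero_mul]), ← hS', heq, Finset.sum_pair hne]
  have hmem1 : χ₁ ∈ S' := by rw [heq]; simp
  have hmem2 : χ₂ ∈ S' := by rw [heq]; simp
  have hW : ∀ χ ∈ S', Forms.lin c.w (t χ) = n χ θ * Forms.lin c.w (D θ) := by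
    intro χ hχ
    rw [show t χ = fun i => ∑ θ ∈ part (centZ hS) M om, n χ θ * D θ i from funext (hc.t_eq χ),
      lin_sum]
    refine Finset.sum_eq_single_of_mem θ hθ fun θ' hθ' hne' => ?_
    have hle' := (hsq χ (mem_bset.1 (Finset.mem_filter.1 hχ).1)).1
    rw [← Finset.add_sum_erase _ _ hθ, hone χ hχ] at hle'
    have h0 : n χ θ' * n χ θ' ≤ 0 := le_trans
      (Finset.single_le_sum (f := fun θ => n χ θ * n χ θ) (fun _ _ => mul_self_nonneg _)
        (Finset.mem_erase.2 ⟨hne', hθ'⟩)) (by linarith)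
    rw [mul_self_eq_zero.1 (le_antisymm h0 (mul_self_nonneg _)), zero_mul]
  have hWC : c.WfC (s χ₁) (t χ₁) = c.WfC (s χ₂) (t χ₂) := by
    have e1 : c.WfC (s χ₁) (t χ₁) = nrm (Forms.lin c.w (s χ₁)) (Forms.lin c.w (t χ₁)) := rfl
    have e2 : c.WfC (s χ₂) (t χ₂) = nrm (Forms.lin c.w (s χ₂)) (Forms.lin c.w (t χ₂)) := rfl
    rw [e1, e2, hW χ₁ hmem1, hW χ₂ hmem2]
    have h1 := hone χ₁ hmem1
    have h2 := hone χ₂ hmem2
    generalize Forms.lin c.w (s χ₁) = A, Forms.lin c.w (s χ₂) = A', Forms.lin c.w (D θ) = W,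
      n χ₁ θ = a, n χ₂ θ = b at hm h1 h2 ⊢
    simp only [nrm]
    linear_combination (A * a - A' * b) * hm + (W * W - A * A) * h1 - (W * W - A' * A') * h2
  rw [hone χ₁ hmem1, hone χ₂ hmem2, hWC]
  exact ⟨_, rfl⟩

/-- The heights. -/
theorem height_iff {χ : Cfsg.IrrCharacter G} :
    (¬ (3 : ℤ) ∣ ∑ a, cv hS hu χ a * cv hS hu χ a) ↔
      Cfsg.blockHeight 3 (Cfsg.principalBlock M G) (χ : G → ℂ) = 0 := by
  rw [PrincipalCore.Basic.blockHeight_eq hM]
  set d : ℕ := Cfsg.charDegree (χ : G → ℂ)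
  have h1 : (3 : ℤ) ∣ ∑ a, cv hS hu χ a * cv hS hu χ a - (c.r : ℤ) * ((d : ℤ) * d) := by
    rw [show (c.r : ℤ) * ((d : ℤ) * d) = ∑ _a : Fin c.r, (d : ℤ) * d by simp,
      ← Finset.sum_sub_distrib]
    refine Finset.dvd_sum fun a _ => ?_
    obtain ⟨k, hk⟩ := Int.dvd_of_emod_eq_zero (cv_spec hS hu χ a).2
    exact ⟨k * (cv hS hu χ a + d), by linear_combination (cv hS hu χ a + d) * hk⟩
  have h2 : d.factorization 3 = 0 ↔ ¬ 3 ∣ d := by
    rw [Nat.factorization_eq_zero_iff]
    constructor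
    · rintro (h | h | h)
      · exact absurd Nat.prime_three h
      · exact h
      · exact absurd h (deg_spec χ).1.ne'
    · exact fun h => Or.inr (Or.inl h)
  rw [h2, not_iff_not, ← Int.natCast_dvd_natCast]
  constructor
  · intro h
    have hd : (3 : ℤ) ∣ (c.r : ℤ) * ((d : ℤ) * d) := by simpa using dvd_sub h h1
    rcases Int.prime_three.dvd_or_dvd hd with e | e
    · exact absurd e hK.rdvd
    · exact (Int.prime_three.dvd_or_dvd e).elim id id
  · intro h
    have hd : (3 : ℤ) ∣ (c.r : ℤ) * ((d : ℤ) * d) :=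
      Dvd.dvd.mul_left (Dvd.dvd.mul_left (by exact_mod_cast h) _) _
    simpa using dvd_add h1 hd

/-- The rank from the totals. -/
theorem rank_eq [Fintype (Cfsg.principalBlock M G)] {TR TW : ℤ} {l : ℕ}
    (h : Solve.Totals c (fun χ : Cfsg.principalBlock M G => s χ.1) (fun χ => t χ.1)
      (fun χ => cv hS hu χ.1) TR TW l) :
    c.D * (27 * (Cfsg.blockRank 3 (Cfsg.principalBlock M G) : ℤ)) + 2 * (9 * TR + TW) +
      27 * (c.r : ℤ) * c.D = c.D * 27 * (Fintype.card (Cfsg.principalBlock M G) : ℤ) := by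
  haveI := hM.2.1
  have htr := sum_contribN_self hM (isPBlock_principalBlock (M := M) (G := G)) (p := 3)
  rw [Finset.sum_subtype (bset (Cfsg.principalBlock M G)) (fun _ => mem_bset)
      (fun χ => contribN 3 χ χ), sylow_exp hS] at htr
  push_cast at htr
  have hid : ∑ χ : Cfsg.principalBlock M G, c.D * (contribN 3 χ.1 χ.1 +
      2 * c.qfC (s χ.1) (t χ.1) + 3 * ∑ a, cv hS hu χ.1 a * cv hS hu χ.1 a) =
      ∑ _χ : Cfsg.principalBlock M G, c.D * 27 :=
    Finset.sum_congr rfl fun χ _ => by rw [identity hS M hu F hM hc χ.2]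
  have hex : ∀ χ : Cfsg.principalBlock M G, c.D * (contribN 3 χ.1 χ.1 +
      2 * c.qfC (s χ.1) (t χ.1) + 3 * ∑ a, cv hS hu χ.1 a * cv hS hu χ.1 a) =
      c.D * contribN 3 χ.1 χ.1 + 2 * (9 * c.RfC (s χ.1) (t χ.1) + c.WfC (s χ.1) (t χ.1)) +
        c.D * 3 * ∑ a, cv hS hu χ.1 a * cv hS hu χ.1 a := fun χ => by
    rw [← hK.hidC]; ring
  simp only [hex, Finset.sum_add_distrib, ← Finset.mul_sum, Finset.sum_const, Finset.card_univ,
    nsmul_eq_mul, h.sum_R, h.sum_W, h.sum_sq] at hid
  linear_combination hid - c.D * htr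

end Cfsg.Agent.Lib.BC77.ThreeExtra.Main
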