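import Cfsg.Agent.S0894
import Cfsg.Agent.Lib.BC77.ThreeExtra.Cases

/-!
# Inertial index one

With a normal 3-complement the principal block consists of the characters of the Sylow subgroup.
-/

set_option autoImplicit false
set_option linter.style.haveILetI false

namespace Cfsg.Agent.Lib.BC77.ThreeExtra.One

open Cfsg.Agent.Lib.Blocks Cfsg.Agent.Lib.Characters.Basic Cfsg.Agent.Lib.BrauerMap
open Cfsg.Agent.Lib.H80.ClassMult
open Cfsg.Agent.Lib.BC77.ThreeExtra.Group Cfsg.Agent.Lib.BC77.ThreeExtra.Classes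

universe u

local instance : Fact (Nat.Prime 3) := ⟨Nat.prime_three⟩

attribute [local instance] Classical.propDecidable

theorem deg_eq_one {H : Type u} [Group H] [Finite H] (χ : Cfsg.IrrCharacter H) :
    Cfsg.charDegree (χ : H → ℂ) = 1 ↔ (χ : H → ℂ) 1 = 1 := by
  rw [(deg_spec χ).2, Nat.cast_eq_one]

/-- The characters of an extraspecial group of order 27. -/
theorem extraspecial_counts {Q : Type u} [Group Q] [Finite Q] (hQ : Cfsg.IsExtraspecial 3 Q)
    (h27 : Nat.card Q = 27) :
    Nat.card (Cfsg.IrrCharacter Q) = 11 ∧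
      Nat.card {χ : Cfsg.IrrCharacter Q // (Cfsg.charDegree (χ : Q → ℂ)).factorization 3 = 0} = 9 := by
  classical
  haveI := Fintype.ofFinite (Cfsg.IrrCharacter Q)
  obtain ⟨hd, h2⟩ := Cfsg.Agent.S0894.result 3 1 hQ (by rw [h27]; norm_num)
  simp only [pow_one, Nat.cast_ofNat] at hd h2
  rw [show (3 : ℕ) - 1 = 2 from rfl, Nat.card_eq_fintype_card, Fintype.card_subtype] at h2
  have hs : ∑ χ : Cfsg.IrrCharacter Q, (χ : Q → ℂ) 1 * (χ : Q → ℂ) 1 = 27 := by
    have h := PrincipalSection.sum_sq_trivialOn (⊥ : Subgroup Q)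
    rw [Subgroup.index_bot, h27, finsum_mem_eq_finite_toFinset_sum _ (Set.toFinite _)] at h
    refine Eq.trans ?_ (h.trans (by norm_num))
    refine Finset.sum_congr (Finset.ext fun χ => iff_of_true (Finset.mem_univ _) ?_) fun _ _ => rfl
    rw [Set.Finite.mem_toFinset]
    exact fun n hn => by rw [Subgroup.mem_bot.1 hn]
  rw [← Finset.sum_filter_add_sum_filter_not Finset.univ
      (fun χ : Cfsg.IrrCharacter Q => (χ : Q → ℂ) 1 = 3),
    Finset.sum_congr rfl fun χ hχ => by rw [(Finset.mem_filter.1 hχ).2],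
    Finset.sum_congr (s₁ := Finset.univ.filter fun χ : Cfsg.IrrCharacter Q => ¬ (χ : Q → ℂ) 1 = 3)
      rfl fun χ hχ => by rw [(hd χ).resolve_right (Finset.mem_filter.1 hχ).2, mul_one],
    Finset.sum_const, Finset.sum_const, h2] at hs
  simp only [nsmul_eq_mul, mul_one, Nat.cast_ofNat] at hs
  have h9 : (Finset.univ.filter fun χ : Cfsg.IrrCharacter Q => ¬ (χ : Q → ℂ) 1 = 3).card = 9 := by
    refine Nat.cast_injective (R := ℂ) ?_
    push_cast
    linear_combination hs
  refine ⟨?_, ?_⟩
  · rw [Nat.card_eq_fintype_card, ← Finset.card_univ,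
      ← Finset.card_filter_add_card_filter_not (fun χ : Cfsg.IrrCharacter Q => (χ : Q → ℂ) 1 = 3),
      h2, h9]
  · rw [Nat.card_eq_fintype_card, Fintype.card_subtype, ← h9]
    congr 1
    refine Finset.filter_congr fun χ _ => ?_
    have hc := (deg_spec χ).2
    rcases hd χ with h | h
    · have h1 : Cfsg.charDegree (χ : Q → ℂ) = 1 := (deg_eq_one χ).2 h
      rw [h1, h]; norm_num
    · have h1 : Cfsg.charDegree (χ : Q → ℂ) = 3 := by
        rw [h] at hc; exact_mod_cast hc.symm
      rw [h1, h, Nat.prime_three.factorization_self]; norm_num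

variable {G : Type u} [Group G] [Finite G] {P : Sylow 3 G} {z : G}

/-- Inertial index one. -/
theorem index1 (hS : Setup P z) (hE : Cfsg.IsExtraspecial 3 (P : Subgroup G))
    (h27 : Nat.card (P : Subgroup G) = 27) {M : Ideal Cfsg.AlgInt} (hM : Cfsg.IsPModular 3 M)
    (he : (pc P).relIndex (Subgroup.normalizer ((P : Subgroup G) : Set G)) = 1) :
    Cases.Invariants M G 11 9 1 := by
  classical
  haveI := hM.2.1
  obtain ⟨Q, N, hN, hc⟩ := complement_of_one hS he
  haveI := hN
  have hidx : N.index = 3 ^ 3 := by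
    rw [hc.symm.index_eq_card, Q.card_eq_multiplicity, Centre.sylow_exp hS]
  have hN3 : ¬ 3 ∣ Nat.card N := fun h => by
    have hmul := N.card_mul_index
    have hfac := congrArg (fun m : ℕ => m.factorization 3) hmul
    simp only [Nat.factorization_mul Nat.card_pos.ne' (show N.index ≠ 0 by rw [hidx]; norm_num),
      Finsupp.add_apply, Centre.sylow_exp hS] at hfac
    rw [hidx, Nat.prime_three.factorization_pow, Finsupp.single_eq_same] at hfac
    exact (Nat.prime_three.factorization_pos_of_dvd Nat.card_pos.ne' h).ne' (by omega)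
  let e : G ⧸ N ≃* (P : Subgroup G) := (hc.symm.QuotientMulEquiv).trans (Q.equiv P)
  let f : G →* (P : Subgroup G) := e.toMonoidHom.comp (QuotientGroup.mk' N)
  have hf : Function.Surjective f := e.surjective.comp (QuotientGroup.mk'_surjective N)
  have hker : ∀ g, f g = 1 ↔ g ∈ N := fun g => by
    rw [show f g = e (g : G ⧸ N) from rfl, MulEquiv.map_eq_one_iff, QuotientGroup.eq_one_iff]
  have hB := PrincipalSection.principalBlock_eq_trivialOn hM N hN3 ⟨3, hidx⟩
  let φ : Cfsg.IrrCharacter (P : Subgroup G) → Cfsg.IrrCharacter G := Inflation.infl f hf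
  have hinj : Function.Injective φ := fun a b h => Subtype.ext (funext fun x => by
    obtain ⟨g, rfl⟩ := hf x
    have h' := congrArg (fun θ : Cfsg.IrrCharacter G => (θ : G → ℂ) g) h
    simpa only [φ, Inflation.infl_apply] using h')
  have hrange : ∀ θ, θ ∈ Cfsg.principalBlock M G ↔ θ ∈ Set.range φ := by
    intro θ
    rw [hB]
    refine ⟨fun hθ => ?_, ?_⟩
    · obtain ⟨a, ha⟩ := Inflation.exists_infl f hf θ (fun g hg => hθ g ((hker g).1 hg))
      exact ⟨a, ha⟩
    · rintro ⟨a, rfl⟩ n hn
      simp only [φ, Inflation.infl_apply, (hker n).2 hn, map_one]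
  let E : Cfsg.IrrCharacter (P : Subgroup G) ≃ Cfsg.principalBlock M G :=
    (Equiv.ofInjective φ hinj).trans (Equiv.setCongr (Set.ext fun θ => (hrange θ).symm))
  have hdeg : ∀ a, Cfsg.charDegree (φ a : G → ℂ) = Cfsg.charDegree (a : ↥(P : Subgroup G) → ℂ) := by
    intro a
    refine Nat.cast_injective (R := ℂ) ?_
    rw [← (deg_spec (φ a)).2, ← (deg_spec a).2]
    simp only [φ, Inflation.infl_apply, map_one]
  obtain ⟨hk, hk0⟩ := extraspecial_counts hE h27
  refine ⟨(Nat.card_congr E).symm.trans hk, ?_, ?_⟩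
  · rw [← hk0]
    refine Nat.card_congr ((Equiv.subtypeSubtypeEquivSubtypeInter (fun θ => θ ∈ Cfsg.principalBlock M G)
      fun θ : Cfsg.IrrCharacter G =>
        Cfsg.blockHeight 3 (Cfsg.principalBlock M G) (θ : G → ℂ) = 0).symm.trans
      (E.subtypeEquiv fun a => ?_).symm)
    rw [PrincipalCore.Basic.blockHeight_eq hM, show ((E a : Cfsg.IrrCharacter G)) = φ a from rfl,
      hdeg]
  · have h1 : oneChar G ∈ Cfsg.principalBlock M G := PrincipalCore.Basic.oneChar_mem hM
    set v := Cfsg.pRegularPart 3 (oneChar G : G → ℂ)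
    have hreg : ∀ g : G, Cfsg.IsPRegular 3 g → g ∈ N := fun g hg => by
      rw [← QuotientGroup.eq_one_iff, ← orderOf_eq_one_iff]
      refine Nat.eq_one_of_dvd_coprimes (Nat.Coprime.pow_left 3
        ((Nat.prime_three.coprime_iff_not_dvd).2 hg)) (show _ ∣ 3 ^ 3 from ?_)
        (orderOf_map_dvd (QuotientGroup.mk' N) g)
      rw [← hidx, Subgroup.index_eq_card]
      exact orderOf_dvd_natCard _
    have hspan : Submodule.span ℂ ((fun χ : Cfsg.IrrCharacter G =>
        Cfsg.pRegularPart 3 (χ : G → ℂ)) '' Cfsg.principalBlock M G) = Submodule.span ℂ {v} := by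
      refine le_antisymm (Submodule.span_le.2 ?_) (Submodule.span_mono ?_)
      · rintro _ ⟨χ, hχ, rfl⟩
        refine Submodule.mem_span_singleton.2 ⟨(χ : G → ℂ) 1, funext fun g => ?_⟩
        simp only [v, Pi.smul_apply, smul_eq_mul, Cfsg.pRegularPart]
        split_ifs with h
        · rw [oneChar_apply, mul_one]
          rw [hB] at hχ
          exact (hχ g (hreg g h)).symm
        · rw [mul_zero]
      · rintro _ rfl
        exact ⟨oneChar G, h1, rfl⟩
    rw [Cfsg.blockRank, hspan]
    refine finrank_span_singleton fun hv => one_ne_zero (α := ℂ) ?_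
    have h := congrFun hv 1
    simpa [v, Cfsg.pRegularPart, Cfsg.IsPRegular, oneChar_apply] using h

end Cfsg.Agent.Lib.BC77.ThreeExtra.One
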