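import Cfsg.Agent.Lib.BC77.ThreeExtra.Coords

/-!
# The relations between the coordinates

Pairing the values on the section of the centre with integer vectors, the orthogonality relations
of the principal block give the integer sums over its members.
-/

set_option autoImplicit false
set_option linter.style.haveILetI false

namespace Cfsg.Agent.Lib.BC77.ThreeExtra.Pairs

open Cfsg.Agent.Lib.Blocks hiding lin
open Cfsg.Agent.Lib.Blocks.Contrib Cfsg.Agent.Lib.Characters.Basic
open Cfsg.Agent.Lib.BrauerMap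
open Cfsg.Agent.Lib.BC77.ThreeExtra.Group Cfsg.Agent.Lib.BC77.ThreeExtra.Classes
open Cfsg.Agent.Lib.BC77.ThreeExtra.Values Cfsg.Agent.Lib.BC77.ThreeExtra.Forms
open Cfsg.Agent.Lib.BC77.ThreeExtra.Centre Cfsg.Agent.Lib.BC77.ThreeExtra.Coords
open scoped ComplexConjugate

universe u

local instance : Fact (Nat.Prime 3) := ⟨Nat.prime_three⟩

attribute [local instance] Classical.propDecidable

variable {G : Type u} [Group G] [Finite G] {P : Sylow 3 G} {z : G} (hS : Setup P z)
  (M : Ideal Cfsg.AlgInt) {c : Cfg} {u : Fin c.r → G} (hu : Reps P z u)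

local notation "C[" w "]" => Subgroup.centralizer ({w} : Set G)

variable (F : Shape.Frame (setup_cent hS) M c (reps_cent hS hu)) (hM : Cfsg.IsPModular 3 M)
variable {s t : Cfsg.IrrCharacter G → V6}
  {n : Cfsg.IrrCharacter G → Cfsg.IrrCharacter (Subgroup.centralizer ({z} : Set G)) → ℤ}
  {D : Cfsg.IrrCharacter (Subgroup.centralizer ({z} : Set G)) → V6}
  (hc : Coord hS M hu F s t n D)

/-- The function of an integer vector. -/
noncomputable def fn (p : V6) (y : C[z]) : ℂ := ∑ i, (p i : ℂ) * eh hS M hu F i y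

include hM

/-- The regular product of a member of the centralizer with a vector. -/
theorem sum_theta [Fintype C[z]] (θ : Cfsg.IrrCharacter C[z]) (p : V6) :
    ∑ y : C[z], (if 3 ∣ orderOf y then 0 else (θ : C[z] → ℂ) y * conj (fn hS M hu F p y)) =
      (primeToCard 3 C[z] : ℂ) * ((∑ i, p i * F.eps i * contribN 3 θ (F.sg i) : ℤ) : ℂ) := by
  push_cast
  simp only [Finset.mul_sum, mul_left_comm (primeToCard 3 C[z] : ℂ), ← regSum_eq_contribN,
    regSum_eq_sum]
  rw [Finset.sum_comm]
  refine Finset.sum_congr rfl fun y _ => ?_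
  split_ifs with hy
  · simp
  · simp only [fn, eh, map_sum, map_mul, map_intCast, apply_inv (isCharacter_irr _),
      Finset.mul_sum]
    exact Finset.sum_congr rfl fun i _ => by ring

/-- The Gram sums in the centralizer. -/
theorem sum_block_gram (p q : V6) :
    ∑ θ ∈ bset (Cfsg.principalBlock M C[z]), (∑ i, p i * F.eps i * contribN 3 θ (F.sg i)) *
      (∑ j, q j * F.eps j * contribN 3 θ (F.sg j)) = 27 * qb c p q := by
  classical
  haveI := hM.2.1
  have hsg : ∀ i, F.sg i ∈ part (centZ hS) M 1 := fun i => (F.mem_iff _).2 ⟨i, rfl⟩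
  have e : ∀ i j, ∑ θ ∈ bset (Cfsg.principalBlock M C[z]),
      contribN 3 θ (F.sg i) * contribN 3 θ (F.sg j) =
        27 * ((if i = j then 9 else 0) - F.eps i * F.eps j * ∑ a, c.d a i * c.d a j) := by
    intro i j
    rw [Finset.sum_congr rfl fun θ _ => by rw [contribN_comm 3 θ (F.sg i)],
      sum_bset_mul hM isPBlock_principalBlock (mem_part.1 (hsg i)).1 (F.sg j),
      sylow_exp (setup_cent hS), contrib_eq (setup_cent hS) (centZ_commute hS) (reps_cent hS hu) M
        hM (mem_part.1 (hsg i)).1 (mem_part.1 (hsg j)).1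
        ((mem_part.1 (hsg i)).2.trans (mem_part.1 (hsg j)).2.symm)]
    congr 1
    rw [Finset.mul_sum]
    congr 1
    · simp only [F.inj.eq_iff]
    · exact Finset.sum_congr rfl fun a _ => by rw [F.row a i, F.row a j]; ring
  calc ∑ θ ∈ bset (Cfsg.principalBlock M C[z]), (∑ i, p i * F.eps i * contribN 3 θ (F.sg i)) *
      (∑ j, q j * F.eps j * contribN 3 θ (F.sg j))
      = ∑ i, ∑ j, p i * F.eps i * (q j * F.eps j) *
          ∑ θ ∈ bset (Cfsg.principalBlock M C[z]),
            contribN 3 θ (F.sg i) * contribN 3 θ (F.sg j) := by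
        rw [Finset.sum_congr rfl fun θ _ => Finset.sum_mul_sum _ _ _ _]
        simp only [Finset.mul_sum]
        rw [Finset.sum_comm]
        refine Finset.sum_congr rfl fun i _ => ?_
        rw [Finset.sum_comm]
        exact Finset.sum_congr rfl fun j _ => Finset.sum_congr rfl fun θ _ => by ring
    _ = ∑ i, ∑ j, 27 * ((if i = j then 9 * (p i * q j) else 0) -
          ∑ a, (c.d a i * p i) * (c.d a j * q j)) := by
        refine Finset.sum_congr rfl fun i _ => Finset.sum_congr rfl fun j _ => ?_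
        rw [e i j]
        have hu1 := F.unit i
        have hu2 := F.unit j
        have hsum : ∑ a, (c.d a i * p i) * (c.d a j * q j) =
            p i * q j * ∑ a, c.d a i * c.d a j := by
          rw [Finset.mul_sum]
          exact Finset.sum_congr rfl fun a _ => by ring
        rw [hsum]
        split_ifs with h
        · subst h
          linear_combination (27 * 9 * p i * q i -
            27 * p i * q i * (∑ a, c.d a i * c.d a i) * (F.eps i * F.eps i + 1)) * hu1
        · linear_combination (-27 * p i * q j * (∑ a, c.d a i * c.d a j) * (F.eps j * F.eps j)) *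
            hu1 - (27 * p i * q j * ∑ a, c.d a i * c.d a j) * hu2
    _ = 27 * qb c p q := by
        simp only [← Finset.mul_sum, Finset.sum_sub_distrib]
        congr 1
        rw [qb]
        congr 1
        · rw [Finset.mul_sum]
          exact Finset.sum_congr rfl fun i _ => by rw [Finset.sum_ite_eq, if_pos (Finset.mem_univ _)]
        · rw [Finset.sum_congr rfl fun i _ => Finset.sum_comm, Finset.sum_comm]
          exact Finset.sum_congr rfl fun a _ => by rw [Forms.lin, Forms.lin, Finset.sum_mul_sum]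

include hc

/-- The regular product of the values on the section with a vector. -/
theorem sum_value [Fintype C[z]] {χ : Cfsg.IrrCharacter G} (hχ : χ ∈ Cfsg.principalBlock M G)
    (p : V6) :
    ∑ y : C[z], (if 3 ∣ orderOf y then 0 else
      (χ : G → ℂ) (z * (y : G)) * conj (fn hS M hu F p y)) =
      (primeToCard 3 C[z] : ℂ) * ((qb c (s χ) p : ℂ) + om * qb c (t χ) p) := by
  rw [← qc_mixed]
  exact Coords.bilin hS M hu F hM (fun y => (χ : G → ℂ) (z * (y : G))) (fn hS M hu F p) _ _
    (hc.value χ hχ) (fun y _ => rfl)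

/-- The Hermitian relation. -/
theorem herm (p q : V6) :
    ∑ χ ∈ bset (Cfsg.principalBlock M G), ((qb c (s χ) p : ℂ) + om * qb c (t χ) p) *
      conj ((qb c (s χ) q : ℂ) + om * qb c (t χ) q) = ((27 * qb c p q : ℤ) : ℂ) := by
  classical
  haveI := hM.2.1
  letI := Fintype.ofFinite C[z]
  set h' : ℂ := (primeToCard 3 C[z] : ℂ) with hh'
  have hne : h' * conj h' ≠ 0 := by
    rw [hh', map_natCast]
    exact mul_ne_zero (Nat.cast_ne_zero.2 (primeToCard_pos 3).ne')
      (Nat.cast_ne_zero.2 (primeToCard_pos 3).ne')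
  refine mul_left_cancel₀ hne ?_
  rw [← sum_block_gram hS M hu F hM p q]
  push_cast
  simp only [Finset.mul_sum (a := h' * conj h')]
  rw [Finset.sum_congr rfl fun χ hχ => show h' * conj h' *
      (((qb c (s χ) p : ℂ) + om * qb c (t χ) p) * conj ((qb c (s χ) q : ℂ) + om * qb c (t χ) q)) =
      (h' * ((qb c (s χ) p : ℂ) + om * qb c (t χ) p)) *
        conj (h' * ((qb c (s χ) q : ℂ) + om * qb c (t χ) q)) by rw [map_mul]; ring]
  rw [Finset.sum_congr rfl fun χ hχ => by
    rw [← sum_value hS M hu F hM hc (mem_bset.1 hχ) p, ← sum_value hS M hu F hM hc (mem_bset.1 hχ) q,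
      map_sum, Finset.sum_mul_sum]]
  have hR : ∀ θ ∈ bset (Cfsg.principalBlock M C[z]),
      h' * conj h' * ((∑ i, (p i : ℂ) * (F.eps i : ℂ) * (contribN 3 θ (F.sg i) : ℂ)) *
        (∑ j, (q j : ℂ) * (F.eps j : ℂ) * (contribN 3 θ (F.sg j) : ℂ))) =
      ∑ y : C[z], ∑ y' : C[z],
        (if 3 ∣ orderOf y then 0 else (θ : C[z] → ℂ) y * conj (fn hS M hu F p y)) *
          conj (if 3 ∣ orderOf y' then 0 else (θ : C[z] → ℂ) y' * conj (fn hS M hu F q y')) := by
    intro θ _
    rw [← Finset.sum_mul_sum, ← map_sum, sum_theta hS M hu F hM, sum_theta hS M hu F hM, map_mul,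
      map_intCast, ← hh']
    push_cast
    ring
  rw [Finset.sum_congr rfl hR, Finset.sum_comm, Finset.sum_comm (s := bset (Cfsg.principalBlock M C[z]))]
  refine Finset.sum_congr rfl fun y _ => ?_
  rw [Finset.sum_comm, Finset.sum_comm (s := bset (Cfsg.principalBlock M C[z]))]
  refine Finset.sum_congr rfl fun y' _ => ?_
  by_cases hy : 3 ∣ orderOf y
  · simp [hy]
  by_cases hy' : 3 ∣ orderOf y'
  · simp [hy']
  simp only [if_neg hy, if_neg hy', map_mul, Complex.conj_conj]
  have hg : ∀ w : C[z], ¬ 3 ∣ orderOf w → Cfsg.IsPPart 3 ((centZ hS * w : C[z]) : G) z :=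
    fun w hw => ⟨w, rfl, (Subgroup.mem_centralizer_singleton_iff.1 w.2).symm, Section.order_z hS,
      by rwa [Subgroup.orderOf_coe]⟩
  have h := PrincipalSection.sum_principal_section hM (centZ hS * y) (centZ hS * y') (hg y hy) (hg y' hy')
  rw [finsum_mem_bset, finsum_mem_bset] at h
  calc ∑ χ ∈ bset (Cfsg.principalBlock M G), (χ : G → ℂ) (z * (y : G)) *
        conj (fn hS M hu F p y) * (conj ((χ : G → ℂ) (z * (y' : G))) * fn hS M hu F q y')
      = conj (fn hS M hu F p y) * fn hS M hu F q y' *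
          ∑ χ ∈ bset (Cfsg.principalBlock M G), (χ : G → ℂ) ((centZ hS * y : C[z]) : G) *
            (χ : G → ℂ) ((centZ hS * y' : C[z]) : G)⁻¹ := by
        rw [Finset.mul_sum]
        refine Finset.sum_congr rfl fun χ _ => ?_
        rw [apply_inv (isCharacter_irr χ),
          show ((centZ hS * y : C[z]) : G) = z * (y : G) from rfl,
          show ((centZ hS * y' : C[z]) : G) = z * (y' : G) from rfl]
        ring
    _ = _ := by
        rw [h, Finset.mul_sum]
        refine Finset.sum_congr rfl fun θ _ => ?_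
        have hl : lamz (centZ hS) θ * conj (lamz (centZ hS) θ) = 1 := by
          rw [conj_lam (setup_cent hS) (centZ_commute hS), ← pow_succ',
            lam_cube (setup_cent hS) (centZ_commute hS)]
        rw [apply_inv (isCharacter_irr θ), apply_z (centZ_commute hS), apply_z (centZ_commute hS),
          map_mul]
        linear_combination (conj (fn hS M hu F p y) * fn hS M hu F q y' *
          ((θ : C[z] → ℂ) y * conj ((θ : C[z] → ℂ) y'))) * hl

/-- The symmetric relation. -/
theorem symm (p q : V6) :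
    ∑ χ ∈ bset (Cfsg.principalBlock M G), ((qb c (s χ) p : ℂ) + om * qb c (t χ) p) *
      ((qb c (s χ) q : ℂ) + om * qb c (t χ) q) = 0 := by
  classical
  haveI := hM.2.1
  letI := Fintype.ofFinite C[z]
  set h' : ℂ := (primeToCard 3 C[z] : ℂ) with hh'
  have hne : h' * h' ≠ 0 := mul_ne_zero (Nat.cast_ne_zero.2 (primeToCard_pos 3).ne')
    (Nat.cast_ne_zero.2 (primeToCard_pos 3).ne')
  refine (mul_eq_zero (a := h' * h')).1 ?_ |>.resolve_left hne
  rw [Finset.mul_sum, Finset.sum_congr rfl fun χ hχ => show h' * h' *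
      (((qb c (s χ) p : ℂ) + om * qb c (t χ) p) * ((qb c (s χ) q : ℂ) + om * qb c (t χ) q)) =
      (∑ y : C[z], (if 3 ∣ orderOf y then 0 else
        (χ : G → ℂ) (z * (y : G)) * conj (fn hS M hu F p y))) *
      (∑ y : C[z], (if 3 ∣ orderOf y then 0 else
        (χ : G → ℂ) (z * (y : G)) * conj (fn hS M hu F q y))) by
    rw [sum_value hS M hu F hM hc (mem_bset.1 hχ) p, sum_value hS M hu F hM hc (mem_bset.1 hχ) q,
      ← hh']
    ring]
  simp only [Finset.sum_mul_sum]
  rw [Finset.sum_comm]
  refine Finset.sum_eq_zero fun y _ => ?_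
  rw [Finset.sum_comm]
  refine Finset.sum_eq_zero fun y' _ => ?_
  by_cases hy : 3 ∣ orderOf y
  · simp [hy]
  by_cases hy' : 3 ∣ orderOf y'
  · simp [hy']
  simp only [if_neg hy, if_neg hy']
  have hg : Cfsg.IsPPart 3 (z * (y : G)) z := ⟨y, rfl,
    (Subgroup.mem_centralizer_singleton_iff.1 y.2).symm, Section.order_z hS,
    by rwa [Subgroup.orderOf_coe]⟩
  have hg' : Cfsg.IsPPart 3 (z * (y' : G))⁻¹ z⁻¹ := by
    refine ⟨(y' : G)⁻¹, ?_, (show Commute z (y' : G) from (Subgroup.mem_centralizer_singleton_iff.1 y'.2).symm).inv_inv, ?_, ?_⟩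
    · rw [(show Commute (y' : G) z from Subgroup.mem_centralizer_singleton_iff.1 y'.2).symm.eq,
        mul_inv_rev]
    · rw [orderOf_inv]; exact Section.order_z hS
    · rwa [orderOf_inv, Subgroup.orderOf_coe]
  have hnc : ¬ IsConj z z⁻¹ := fun h => by
    obtain ⟨g, hg⟩ := isConj_iff.1 h
    exact not_inv hS g hg
  have h := sum_block_eq_zero hM hg hg' hnc (isPBlock_principalBlock (M := M))
  rw [finsum_mem_bset] at h
  calc ∑ χ ∈ bset (Cfsg.principalBlock M G), (χ : G → ℂ) (z * (y : G)) *
        conj (fn hS M hu F p y) * ((χ : G → ℂ) (z * (y' : G)) * conj (fn hS M hu F q y'))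
      = conj (fn hS M hu F p y) * conj (fn hS M hu F q y') *
          ∑ χ ∈ bset (Cfsg.principalBlock M G), (χ : G → ℂ) (z * (y : G)) *
            (χ : G → ℂ) (z * (y' : G))⁻¹⁻¹ := by
        rw [Finset.mul_sum]
        refine Finset.sum_congr rfl fun χ _ => ?_
        rw [inv_inv]
        ring
    _ = 0 := by rw [h, mul_zero]

/-- The integer relations. -/
theorem sums (p q : V6) :
    ∑ χ ∈ bset (Cfsg.principalBlock M G), qb c (s χ) p * qb c (t χ) q = 9 * qb c p q ∧
      ∑ χ ∈ bset (Cfsg.principalBlock M G), qb c (t χ) p * qb c (t χ) q = 18 * qb c p q ∧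
      ∑ χ ∈ bset (Cfsg.principalBlock M G), qb c (s χ) p * qb c (s χ) q = 18 * qb c p q := by
  have h1 := herm hS M hu F hM hc p q
  have h2 := symm hS M hu F hM hc p q
  simp only [map_add, map_mul, map_intCast, conj_om] at h1
  set S := bset (Cfsg.principalBlock M G)
  set A := fun χ => qb c (s χ) p
  set B := fun χ => qb c (t χ) p
  set A' := fun χ => qb c (s χ) q
  set B' := fun χ => qb c (t χ) q
  have e1 : ∀ χ, ((A χ : ℂ) + om * B χ) * ((A' χ : ℂ) + (-1 - om) * B' χ) =
      ((A χ * A' χ + B χ * B' χ - A χ * B' χ : ℤ) : ℂ) +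
        ((B χ * A' χ - A χ * B' χ : ℤ) : ℂ) * om := fun χ => by
    push_cast
    linear_combination -((B χ : ℂ) * B' χ) * om_sq
  have e2 : ∀ χ, ((A χ : ℂ) + om * B χ) * ((A' χ : ℂ) + om * B' χ) =
      ((A χ * A' χ - B χ * B' χ : ℤ) : ℂ) +
        ((A χ * B' χ + B χ * A' χ - B χ * B' χ : ℤ) : ℂ) * om := fun χ => by
    push_cast
    linear_combination ((B χ : ℂ) * B' χ) * om_sq
  rw [Finset.sum_congr rfl fun χ _ => e1 χ, Finset.sum_add_distrib, ← Finset.sum_mul,
    ← Int.cast_sum, ← Int.cast_sum] at h1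
  rw [Finset.sum_congr rfl fun χ _ => e2 χ, Finset.sum_add_distrib, ← Finset.sum_mul,
    ← Int.cast_sum, ← Int.cast_sum] at h2
  obtain ⟨f1, f2⟩ := int_combination
    (a := ∑ χ ∈ S, (A χ * A' χ + B χ * B' χ - A χ * B' χ) - 27 * qb c p q)
    (b := ∑ χ ∈ S, (B χ * A' χ - A χ * B' χ)) (by push_cast at h1 ⊢; linear_combination h1)
  obtain ⟨f3, f4⟩ := int_combination h2
  simp only [Finset.sum_add_distrib, Finset.sum_sub_distrib] at f1 f2 f3 f4
  show ∑ χ ∈ S, A χ * B' χ = _ ∧ ∑ χ ∈ S, B χ * B' χ = _ ∧ ∑ χ ∈ S, A χ * A' χ = _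
  exact ⟨by omega, by omega, by omega⟩

end Cfsg.Agent.Lib.BC77.ThreeExtra.Pairs
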