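import Cfsg.Agent.Lib.BC77.ThreeExtra.Types

/-!
# The possible statistics of a row

`Good` collects what is known of one row; `row8`, `row4`, `row2` list its statistics.
-/

set_option autoImplicit false
set_option maxHeartbeats 1000000

namespace Cfsg.Agent.Lib.BC77.ThreeExtra.Rows

open Cfsg.Agent.Lib.BC77.ThreeExtra.Forms Cfsg.Agent.Lib.BC77.ThreeExtra.Types

/-- What is known of one row. -/
structure Good (c : Cfg) (s t : V6) (cv : Fin c.r → ℤ) : Prop where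
  part : t = 0 ∨ c.qf t = 9
  mutual_congr : ∀ a b, (cv a - cv b) % 3 = 0
  congr : (c.qfC s t + ∑ a, cv a * cv a) % 3 = 0
  bound : 2 * c.qfC s t + 3 * ∑ a, cv a * cv a ≤ 26
  ne_zero : c.qfC s t ≠ 0 ∨ ∑ a, cv a * cv a ≠ 0

/-- The root part and further part of the non-real part. -/
theorem nonreal8 {t : V6} (h : cfg8.qf t = 9) : cfg8.Rf t = 4 ∧ cfg8.Wf t ^ 2 = 9 := by
  have h1 := id8 t
  have h2 := sq_nonneg (cfg8.Wf t)
  have h3 : cfg8.Rf t ≤ 5 := by linarith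
  rcases small8 t (by linarith) with ⟨e, hw⟩ | e | e
  · exfalso
    have hl : cfg8.Wf t ≤ 6 := by nlinarith
    have hg : -6 ≤ cfg8.Wf t := by nlinarith
    generalize cfg8.Wf t = W at h1 hw hl hg
    interval_cases W <;> omega
  · exact ⟨e, by linarith⟩
  · linarith

theorem nonreal4 {t : V6} (h : cfg4.qf t = 9) : cfg4.Rf t = 3 ∧ cfg4.Wf t ^ 2 = 9 := by
  have h1 := id4 t
  have h2 := sq_nonneg (cfg4.Wf t)
  have h3 : cfg4.Rf t ≤ 4 := by linarith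
  rcases small4 t (by linarith) with ⟨e, hw⟩ | e | ⟨e, hw⟩
  · exfalso
    have hl : cfg4.Wf t ≤ 6 := by nlinarith
    have hg : -6 ≤ cfg4.Wf t := by nlinarith
    generalize cfg4.Wf t = W at h1 hw hl hg
    interval_cases W <;> omega
  · exact ⟨e, by linarith⟩
  · exfalso
    have hl : cfg4.Wf t ≤ 6 := by nlinarith
    have hg : -6 ≤ cfg4.Wf t := by nlinarith
    generalize cfg4.Wf t = W at h1 hw hl hg
    interval_cases W <;> omega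

theorem nonreal2 {t : V6} (h : cfg2.qf t = 9) : cfg2.Rf t = 1 ∧ cfg2.Wf t ^ 2 = 9 := by
  have h1 := id2 t
  have h2 := sq_nonneg (cfg2.Wf t)
  obtain ⟨δ, hd, hp⟩ := small2 t
  have h3 : δ ^ 2 ≤ 2 := by linarith
  have hl : δ ≤ 1 := by nlinarith
  have hg : -1 ≤ δ := by nlinarith
  have hWl : cfg2.Wf t ≤ 4 := by nlinarith
  have hWg : -4 ≤ cfg2.Wf t := by nlinarith
  generalize cfg2.Wf t = W at h1 hp hWl hWg ⊢
  rw [hd] at h1 ⊢
  interval_cases δ <;> interval_cases W <;> omega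

theorem qfC_zero (c : Cfg) (s : V6) :
    c.qfC s 0 = c.qf s ∧ c.RfC s 0 = c.Rf s ∧ c.WfC s 0 = c.Wf s ^ 2 := by
  have h0 : ∀ ρ : V6, lin ρ 0 = 0 := fun ρ => by simp [lin]
  refine ⟨?_, ?_, ?_⟩
  · simp only [Cfg.qfC, Cfg.qf, qsumC, qsum, h0, nrm, Pi.zero_apply, mul_zero, sub_zero,
      add_zero, pow_two]
  · simp only [Cfg.RfC, Cfg.Rf, qsumC, qsum, h0, nrm, mul_zero, sub_zero, add_zero, pow_two]
  · simp only [Cfg.WfC, Cfg.Wf, h0, nrm, mul_zero, sub_zero, add_zero, pow_two]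

theorem sq_le_of_sum {n : ℕ} {cv : Fin n → ℤ} {B : ℤ} (h : ∑ a, cv a * cv a ≤ B) (a : Fin n) :
    cv a * cv a ≤ B :=
  le_trans (Finset.single_le_sum (f := fun a => cv a * cv a) (fun b _ => mul_self_nonneg _)
    (Finset.mem_univ a)) h

theorem abs_le_two' {a : ℤ} (h : a * a ≤ 8) : a ∈ Finset.Icc (-2 : ℤ) 2 :=
  Finset.mem_Icc.mpr ⟨by nlinarith, by nlinarith⟩

/-- The values outside the centre, two classes. -/
theorem values4 : ∀ a ∈ Finset.Icc (-2 : ℤ) 2, ∀ b ∈ Finset.Icc (-2 : ℤ) 2, (a - b) % 3 = 0 →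
    a = 0 ∧ b = 0 ∨ a * a + b * b = 2 ∧ (a + b) ^ 2 = 4 ∨
      a * a + b * b = 5 ∧ (a + b) ^ 2 = 1 ∨ a * a + b * b = 8 := by
  decide

/-- The values outside the centre, four classes. -/
theorem values2 : ∀ a ∈ Finset.Icc (-2 : ℤ) 2, ∀ b ∈ Finset.Icc (-2 : ℤ) 2,
    ∀ c ∈ Finset.Icc (-2 : ℤ) 2, ∀ d ∈ Finset.Icc (-2 : ℤ) 2,
    (a - b) % 3 = 0 → (a - c) % 3 = 0 → (a - d) % 3 = 0 → a * a + b * b + c * c + d * d ≤ 8 →
    a * a + b * b + c * c + d * d = 0 ∧ (a + b + c + d) ^ 2 = 0 ∨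
      a * a + b * b + c * c + d * d = 4 ∧ (a + b + c + d) ^ 2 = 16 ∨
      a * a + b * b + c * c + d * d = 7 ∧ (a + b + c + d) ^ 2 = 1 := by
  decide

/-- The forms of a row, index eight. -/
theorem forms8 {s t : V6} (ht : t = 0 ∨ cfg8.qf t = 9) (h : cfg8.qfC s t ≤ 13) :
    t = 0 ∧ (cfg8.qfC s t, cfg8.RfC s t, cfg8.WfC s t) ∈
        [((0 : ℤ), (0 : ℤ), (0 : ℤ)), (5, 0, 25), (8, 4, 4), (9, 4, 9), (11, 6, 1)] ∨
      t ≠ 0 ∧ (cfg8.qfC s t, cfg8.RfC s t, cfg8.WfC s t) ∈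
        [((9 : ℤ), (4 : ℤ), (9 : ℤ)), (11, 4, 19)] := by
  rcases eq_or_ne t 0 with rfl | ht0
  · obtain ⟨e1, e2, e3⟩ := qfC_zero cfg8 s
    refine Or.inl ⟨rfl, ?_⟩
    rw [e1] at h
    rw [e1, e2, e3]
    have h1 := id8 s
    have h2 := sq_nonneg (cfg8.Wf s)
    have h0 := cfg8.Rf_nonneg s
    have hR : cfg8.Rf s ≤ 7 := by linarith
    have hWl : cfg8.Wf s ≤ 8 := by nlinarith
    have hWg : -8 ≤ cfg8.Wf s := by nlinarith
    have hs := small8 s hR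
    generalize cfg8.Wf s = W, cfg8.Rf s = R, cfg8.qf s = x at h h1 hs hWl hWg ⊢
    simp only [List.mem_cons, List.not_mem_nil, or_false, Prod.mk.injEq]
    rcases hs with ⟨rfl, hw⟩ | rfl | rfl <;> interval_cases W <;> omega
  · refine Or.inr ⟨ht0, ?_⟩
    obtain ⟨hR, hW⟩ := nonreal8 (ht.resolve_left ht0)
    set n : V6 := fun i => 2 * s i - t i with hn
    have e1 : 4 * cfg8.qfC s t = cfg8.qf n + 3 * 9 := by
      rw [cfg8.four_qfC, ← hn, ht.resolve_left ht0]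
    have e2 : 4 * cfg8.RfC s t = cfg8.Rf n + 3 * 4 := by rw [cfg8.four_RfC, ← hn, hR]
    have e3 : 4 * cfg8.WfC s t = cfg8.Wf n ^ 2 + 3 * 9 := by rw [cfg8.four_WfC, ← hn, hW]
    have hne : cfg8.Rf n ≠ 0 := by
      intro h0
      have h4 : cfg8.Rf t = 4 * cfg8.Rf s := by
        have hz : ∀ k, lin (cfg8.root k) n = 0 := fun k => by
          unfold Cfg.Rf qsum at h0
          exact pow_eq_zero_iff two_ne_zero |>.mp
            ((Finset.sum_eq_zero_iff_of_nonneg fun _ _ => sq_nonneg _).mp h0 k (Finset.mem_univ k))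
        unfold Cfg.Rf qsum
        rw [Finset.mul_sum]
        refine Finset.sum_congr rfl fun k _ => ?_
        have := hz k
        rw [hn, lin_two_sub] at this
        rw [show lin (cfg8.root k) t = 2 * lin (cfg8.root k) s by linarith]
        ring
      have := small8 s (by omega)
      omega
    have hlt : cfg8.Wf t ≤ 3 := by nlinarith
    have hgt : -3 ≤ cfg8.Wf t := by nlinarith
    have hpar : cfg8.Wf n = 2 * cfg8.Wf s - cfg8.Wf t := by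
      simp only [hn, Cfg.Wf, lin_two_sub]
    have hodd : cfg8.Wf t % 2 = 1 := by
      generalize cfg8.Wf t = V at hW hlt hgt
      interval_cases V <;> omega
    have h1 := id8 n
    have h0 := cfg8.Rf_nonneg n
    have h2 := sq_nonneg (cfg8.Wf n)
    have hWl : cfg8.Wf n ≤ 11 := by nlinarith
    have hWg : -11 ≤ cfg8.Wf n := by nlinarith
    generalize cfg8.qfC s t = X, cfg8.RfC s t = RC, cfg8.WfC s t = WC at h e1 e2 e3 ⊢
    generalize cfg8.qf n = x, cfg8.Rf n = R, cfg8.Wf n = W, cfg8.Wf t = V, cfg8.Wf s = U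
      at h1 e1 e2 e3 hne hpar hodd h0 hWl hWg ⊢
    simp only [List.mem_cons, List.not_mem_nil, or_false, Prod.mk.injEq]
    interval_cases W <;> omega

/-- The forms of a row, index four. -/
theorem forms4 {s t : V6} (ht : t = 0 ∨ cfg4.qf t = 9) (h : cfg4.qfC s t ≤ 13) :
    t = 0 ∧ (cfg4.qfC s t, cfg4.RfC s t, cfg4.WfC s t) ∈
        [((0 : ℤ), (0 : ℤ), (0 : ℤ)), (4, 0, 16), (7, 3, 1), (9, 3, 9), (10, 4, 4), (13, 3, 25)] ∨
      t ≠ 0 ∧ (cfg4.qfC s t, cfg4.RfC s t, cfg4.WfC s t) ∈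
        [((9 : ℤ), (3 : ℤ), (9 : ℤ)), (10, 3, 13), (13, 5, 7)] := by
  rcases eq_or_ne t 0 with rfl | ht0
  · obtain ⟨e1, e2, e3⟩ := qfC_zero cfg4 s
    refine Or.inl ⟨rfl, ?_⟩
    rw [e1] at h
    rw [e1, e2, e3]
    have h1 := id4 s
    have h2 := sq_nonneg (cfg4.Wf s)
    have h0 := cfg4.Rf_nonneg s
    have hR : cfg4.Rf s ≤ 5 := by linarith
    have hWl : cfg4.Wf s ≤ 7 := by nlinarith
    have hWg : -7 ≤ cfg4.Wf s := by nlinarith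
    have hs := small4 s hR
    generalize cfg4.Wf s = W, cfg4.Rf s = R, cfg4.qf s = x at h h1 hs hWl hWg ⊢
    simp only [List.mem_cons, List.not_mem_nil, or_false, Prod.mk.injEq]
    rcases hs with ⟨rfl, hw⟩ | rfl | ⟨rfl, hw⟩ <;> interval_cases W <;> omega
  · refine Or.inr ⟨ht0, ?_⟩
    obtain ⟨hR, hW⟩ := nonreal4 (ht.resolve_left ht0)
    set n : V6 := fun i => 2 * s i - t i with hn
    have e1 : 4 * cfg4.qfC s t = cfg4.qf n + 3 * 9 := by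
      rw [cfg4.four_qfC, ← hn, ht.resolve_left ht0]
    have e2 : 4 * cfg4.RfC s t = cfg4.Rf n + 3 * 3 := by rw [cfg4.four_RfC, ← hn, hR]
    have e3 : 4 * cfg4.WfC s t = cfg4.Wf n ^ 2 + 3 * 9 := by rw [cfg4.four_WfC, ← hn, hW]
    have hlt : cfg4.Wf t ≤ 3 := by nlinarith
    have hgt : -3 ≤ cfg4.Wf t := by nlinarith
    have hpar : cfg4.Wf n = 2 * cfg4.Wf s - cfg4.Wf t := by
      simp only [hn, Cfg.Wf, lin_two_sub]
    have hodd : cfg4.Wf t % 2 = 1 := by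
      generalize cfg4.Wf t = V at hW hlt hgt
      interval_cases V <;> omega
    have h1 := id4 n
    have h0 := cfg4.Rf_nonneg n
    have h2 := sq_nonneg (cfg4.Wf n)
    have hWl : cfg4.Wf n ≤ 10 := by nlinarith
    have hWg : -10 ≤ cfg4.Wf n := by nlinarith
    generalize cfg4.qfC s t = X, cfg4.RfC s t = RC, cfg4.WfC s t = WC at h e1 e2 e3 ⊢
    generalize cfg4.qf n = x, cfg4.Rf n = R, cfg4.Wf n = W, cfg4.Wf t = V, cfg4.Wf s = U
      at h1 e1 e2 e3 hpar hodd h0 hWl hWg ⊢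
    simp only [List.mem_cons, List.not_mem_nil, or_false, Prod.mk.injEq]
    interval_cases W <;> omega

/-- The forms of a row, index two. -/
theorem forms2 {s t : V6} (ht : t = 0 ∨ cfg2.qf t = 9) (h : cfg2.qfC s t ≤ 13) :
    t = 0 ∧ (cfg2.qfC s t, cfg2.RfC s t, cfg2.WfC s t) ∈
        [((0 : ℤ), (0 : ℤ), (0 : ℤ)), (2, 0, 4), (5, 1, 1), (8, 0, 16), (9, 1, 9)] ∨
      t ≠ 0 ∧ (cfg2.qfC s t, cfg2.RfC s t, cfg2.WfC s t) ∈
        [((8 : ℤ), (1 : ℤ), (7 : ℤ)), (9, 1, 9), (11, 1, 13)] := by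
  rcases eq_or_ne t 0 with rfl | ht0
  · obtain ⟨e1, e2, e3⟩ := qfC_zero cfg2 s
    refine Or.inl ⟨rfl, ?_⟩
    rw [e1] at h
    rw [e1, e2, e3]
    have h1 := id2 s
    have h2 := sq_nonneg (cfg2.Wf s)
    obtain ⟨δ, hd, hp⟩ := small2 s
    rw [hd] at h1 ⊢
    have hl : δ ≤ 1 := by nlinarith
    have hg : -1 ≤ δ := by nlinarith
    have hWl : cfg2.Wf s ≤ 5 := by nlinarith
    have hWg : -5 ≤ cfg2.Wf s := by nlinarith
    generalize cfg2.Wf s = W, cfg2.qf s = x at h h1 hp hWl hWg ⊢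
    simp only [List.mem_cons, List.not_mem_nil, or_false, Prod.mk.injEq]
    interval_cases δ <;> interval_cases W <;> omega
  · refine Or.inr ⟨ht0, ?_⟩
    obtain ⟨hR, hW⟩ := nonreal2 (ht.resolve_left ht0)
    set n : V6 := fun i => 2 * s i - t i with hn
    have e1 : 4 * cfg2.qfC s t = cfg2.qf n + 3 * 9 := by
      rw [cfg2.four_qfC, ← hn, ht.resolve_left ht0]
    have e2 : 4 * cfg2.RfC s t = cfg2.Rf n + 3 * 1 := by rw [cfg2.four_RfC, ← hn, hR]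
    have e3 : 4 * cfg2.WfC s t = cfg2.Wf n ^ 2 + 3 * 9 := by rw [cfg2.four_WfC, ← hn, hW]
    have hlt : cfg2.Wf t ≤ 3 := by nlinarith
    have hgt : -3 ≤ cfg2.Wf t := by nlinarith
    have hpar : cfg2.Wf n = 2 * cfg2.Wf s - cfg2.Wf t := by
      simp only [hn, Cfg.Wf, lin_two_sub]
    have hodd : cfg2.Wf t % 2 = 1 := by
      generalize cfg2.Wf t = V at hW hlt hgt
      interval_cases V <;> omega
    obtain ⟨δ, hd, hp⟩ := small2 n
    have h1 := id2 n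
    rw [hd] at e2 h1
    have hl : δ ≤ 2 := by nlinarith
    have hg : -2 ≤ δ := by nlinarith
    have hWl : cfg2.Wf n ≤ 7 := by nlinarith
    have hWg : -7 ≤ cfg2.Wf n := by nlinarith
    generalize cfg2.qfC s t = X, cfg2.RfC s t = RC, cfg2.WfC s t = WC at h e1 e2 e3 ⊢
    generalize cfg2.qf n = x, cfg2.Wf n = W, cfg2.Wf t = V, cfg2.Wf s = U
      at h1 e1 e3 hp hpar hodd hWl hWg ⊢
    simp only [List.mem_cons, List.not_mem_nil, or_false, Prod.mk.injEq]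
    interval_cases δ <;> interval_cases W <;> omega

/-- The statistics of a row with `t` its non-real part. -/
def HasStat (c : Cfg) (s t : V6) (cv : Fin c.r → ℤ) (u : ℤ × ℤ × ℤ × ℤ) : Prop :=
  c.RfC s t = u.1 ∧ c.WfC s t = u.2.1 ∧ ∑ a, cv a * cv a = u.2.2.1 ∧ (∑ a, cv a) ^ 2 = u.2.2.2

/-- The scalar part of `row8`. -/
theorem pick8 {x R W a : ℤ} {P : Prop}
    (h1 : P ∧ (x, R, W) ∈
        [((0 : ℤ), (0 : ℤ), (0 : ℤ)), (5, 0, 25), (8, 4, 4), (9, 4, 9), (11, 6, 1)] ∨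
      ¬ P ∧ (x, R, W) ∈ [((9 : ℤ), (4 : ℤ), (9 : ℤ)), (11, 4, 19)])
    (h2 : (x + a * a) % 3 = 0) (h3 : 2 * x + 3 * (a * a) ≤ 26) (h4 : x ≠ 0 ∨ a * a ≠ 0)
    (hv : a * a = 0 ∨ a * a = 1 ∨ a * a = 4 ∨ 9 ≤ a * a) :
    P ∧ (R, W, a * a, a ^ 2) ∈
        [((0 : ℤ), (25 : ℤ), (1 : ℤ), (1 : ℤ)), (0, 25, 4, 4), (4, 4, 1, 1), (4, 9, 0, 0),
          (6, 1, 1, 1)] ∨
      ¬ P ∧ (R, W, a * a, a ^ 2) ∈ [((4 : ℤ), (9 : ℤ), (0 : ℤ), (0 : ℤ)), (4, 19, 1, 1)] := by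
  rw [pow_two]
  simp only [List.mem_cons, List.not_mem_nil, or_false, Prod.mk.injEq] at h1 ⊢
  generalize a * a = m at *
  rcases h1 with ⟨hr, h⟩ | ⟨hr, h⟩
  · refine Or.inl ⟨hr, ?_⟩
    rcases h with h | h | h | h | h <;> rcases hv with e | e | e | e <;> omega
  · refine Or.inr ⟨hr, ?_⟩
    rcases h with h | h <;> rcases hv with e | e | e | e <;> omega

/-- The scalar part of `row4`. -/
theorem pick4 {x R W m S : ℤ} {P : Prop}
    (h1 : P ∧ (x, R, W) ∈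
        [((0 : ℤ), (0 : ℤ), (0 : ℤ)), (4, 0, 16), (7, 3, 1), (9, 3, 9), (10, 4, 4), (13, 3, 25)] ∨
      ¬ P ∧ (x, R, W) ∈ [((9 : ℤ), (3 : ℤ), (9 : ℤ)), (10, 3, 13), (13, 5, 7)])
    (h2 : (x + m) % 3 = 0) (h3 : 2 * x + 3 * m ≤ 26) (h4 : x ≠ 0 ∨ m ≠ 0)
    (hv : m = 0 ∧ S = 0 ∨ m = 2 ∧ S = 4 ∨ m = 5 ∧ S = 1 ∨ 8 ≤ m) :
    P ∧ (R, W, m, S) ∈
        [((0 : ℤ), (16 : ℤ), (2 : ℤ), (4 : ℤ)), (0, 16, 5, 1), (3, 1, 2, 4), (3, 9, 0, 0),
          (4, 4, 2, 4)] ∨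
      ¬ P ∧ (R, W, m, S) ∈ [((3 : ℤ), (9 : ℤ), (0 : ℤ), (0 : ℤ)), (3, 13, 2, 4)] := by
  simp only [List.mem_cons, List.not_mem_nil, or_false, Prod.mk.injEq] at h1 ⊢
  rcases h1 with ⟨hr, h⟩ | ⟨hr, h⟩
  · refine Or.inl ⟨hr, ?_⟩
    rcases h with h | h | h | h | h | h <;> rcases hv with e | e | e | e <;> omega
  · refine Or.inr ⟨hr, ?_⟩
    rcases h with h | h | h <;> rcases hv with e | e | e | e <;> omega

/-- The scalar part of `row2`. -/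
theorem pick2 {x R W m S : ℤ} {P : Prop}
    (h1 : P ∧ (x, R, W) ∈
        [((0 : ℤ), (0 : ℤ), (0 : ℤ)), (2, 0, 4), (5, 1, 1), (8, 0, 16), (9, 1, 9)] ∨
      ¬ P ∧ (x, R, W) ∈ [((8 : ℤ), (1 : ℤ), (7 : ℤ)), (9, 1, 9), (11, 1, 13)])
    (h2 : (x + m) % 3 = 0) (h3 : 2 * x + 3 * m ≤ 26) (h4 : x ≠ 0 ∨ m ≠ 0)
    (hv : m = 0 ∧ S = 0 ∨ m = 4 ∧ S = 16 ∨ m = 7 ∧ S = 1 ∨ 9 ≤ m) :
    P ∧ (R, W, m, S) ∈
        [((0 : ℤ), (4 : ℤ), (4 : ℤ), (16 : ℤ)), (0, 4, 7, 1), (1, 1, 4, 16), (1, 9, 0, 0)] ∨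
      ¬ P ∧ (R, W, m, S) ∈ [((1 : ℤ), (9 : ℤ), (0 : ℤ), (0 : ℤ))] := by
  simp only [List.mem_cons, List.not_mem_nil, or_false, Prod.mk.injEq] at h1 ⊢
  rcases h1 with ⟨hr, h⟩ | ⟨hr, h⟩
  · refine Or.inl ⟨hr, ?_⟩
    rcases h with h | h | h | h | h <;> rcases hv with e | e | e | e <;> omega
  · refine Or.inr ⟨hr, ?_⟩
    rcases h with h | h | h <;> rcases hv with e | e | e | e <;> omega

/-- The statistics `(R, W², ∑ c², (∑ c)²)` of a row. -/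
def stat (c : Cfg) (s t : V6) (cv : Fin c.r → ℤ) : ℤ × ℤ × ℤ × ℤ :=
  (c.RfC s t, c.WfC s t, ∑ a, cv a * cv a, (∑ a, cv a) ^ 2)

/-- The rows of index eight. -/
theorem row8 {s t : V6} {cv : Fin cfg8.r → ℤ} (g : Good cfg8 s t cv) :
    t = 0 ∧ stat cfg8 s t cv ∈
        [((0 : ℤ), (25 : ℤ), (1 : ℤ), (1 : ℤ)), (0, 25, 4, 4), (4, 4, 1, 1), (4, 9, 0, 0),
          (6, 1, 1, 1)] ∨
      t ≠ 0 ∧ stat cfg8 s t cv ∈ [((4 : ℤ), (9 : ℤ), (0 : ℤ), (0 : ℤ)), (4, 19, 1, 1)] := by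
  obtain ⟨hp, -, h2, h3, h4⟩ := g
  let f : Fin 1 → ℤ := cv
  have hsum : ∑ a, cv a * cv a = f 0 * f 0 := Fin.sum_univ_one (fun a => f a * f a)
  have hs : ∑ a, cv a = f 0 := Fin.sum_univ_one f
  unfold stat
  rw [hsum, hs]
  rw [hsum] at h2 h3 h4
  have hm := mul_self_nonneg (f 0)
  refine pick8 (forms8 hp (by linarith)) h2 h3 h4 ?_
  rcases (show f 0 = 0 ∨ f 0 = 1 ∨ f 0 = -1 ∨ f 0 = 2 ∨ f 0 = -2 ∨ 3 ≤ f 0 ∨ f 0 ≤ -3 by omega)
    with e | e | e | e | e | e | e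
  all_goals first
    | (rw [e]; norm_num; done)
    | exact Or.inr (Or.inr (Or.inr (by nlinarith)))

/-- The rows of index four. -/
theorem row4 {s t : V6} {cv : Fin cfg4.r → ℤ} (g : Good cfg4 s t cv) :
    t = 0 ∧ stat cfg4 s t cv ∈
        [((0 : ℤ), (16 : ℤ), (2 : ℤ), (4 : ℤ)), (0, 16, 5, 1), (3, 1, 2, 4), (3, 9, 0, 0),
          (4, 4, 2, 4)] ∨
      t ≠ 0 ∧ stat cfg4 s t cv ∈ [((3 : ℤ), (9 : ℤ), (0 : ℤ), (0 : ℤ)), (3, 13, 2, 4)] := by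
  obtain ⟨hp, hm, h2, h3, h4⟩ := g
  let f : Fin 2 → ℤ := cv
  have hsum : ∑ a, cv a * cv a = f 0 * f 0 + f 1 * f 1 := Fin.sum_univ_two (fun a => f a * f a)
  have hs : ∑ a, cv a = f 0 + f 1 := Fin.sum_univ_two f
  unfold stat
  rw [hsum, hs]
  rw [hsum] at h2 h3 h4
  have h01 : (f 0 - f 1) % 3 = 0 := hm (0 : Fin 2) (1 : Fin 2)
  have q0 := mul_self_nonneg (f 0)
  have q1 := mul_self_nonneg (f 1)
  refine pick4 (forms4 hp (by linarith)) h2 h3 h4 ?_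
  generalize f 0 = a, f 1 = b at h01 q0 q1 ⊢
  by_cases hb : 8 ≤ a * a + b * b
  · exact Or.inr (Or.inr (Or.inr hb))
  · rcases values4 a (abs_le_two' (by linarith)) b (abs_le_two' (by linarith)) h01 with
      ⟨rfl, rfl⟩ | h | h | h
    · exact Or.inl ⟨rfl, rfl⟩
    · exact Or.inr (Or.inl h)
    · exact Or.inr (Or.inr (Or.inl h))
    · exact Or.inr (Or.inr (Or.inr h.ge))

/-- The rows of index two. -/
theorem row2 {s t : V6} {cv : Fin cfg2.r → ℤ} (g : Good cfg2 s t cv) :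
    t = 0 ∧ stat cfg2 s t cv ∈
        [((0 : ℤ), (4 : ℤ), (4 : ℤ), (16 : ℤ)), (0, 4, 7, 1), (1, 1, 4, 16), (1, 9, 0, 0)] ∨
      t ≠ 0 ∧ stat cfg2 s t cv ∈ [((1 : ℤ), (9 : ℤ), (0 : ℤ), (0 : ℤ))] := by
  obtain ⟨hp, hm, h2, h3, h4⟩ := g
  let f : Fin 4 → ℤ := cv
  have hsum : ∑ a, cv a * cv a = f 0 * f 0 + f 1 * f 1 + f 2 * f 2 + f 3 * f 3 :=
    Fin.sum_univ_four (fun a => f a * f a)
  have hs : ∑ a, cv a = f 0 + f 1 + f 2 + f 3 := Fin.sum_univ_four f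
  unfold stat
  rw [hsum, hs]
  rw [hsum] at h2 h3 h4
  have m1 : (f 0 - f 1) % 3 = 0 := hm (0 : Fin 4) (1 : Fin 4)
  have m2 : (f 0 - f 2) % 3 = 0 := hm (0 : Fin 4) (2 : Fin 4)
  have m3 : (f 0 - f 3) % 3 = 0 := hm (0 : Fin 4) (3 : Fin 4)
  have qa := mul_self_nonneg (f 0)
  have qb := mul_self_nonneg (f 1)
  have qc := mul_self_nonneg (f 2)
  have qd := mul_self_nonneg (f 3)
  refine pick2 (forms2 hp (by linarith)) h2 h3 h4 ?_
  generalize f 0 = a, f 1 = b, f 2 = c, f 3 = d at m1 m2 m3 qa qb qc qd ⊢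
  by_cases hb : 9 ≤ a * a + b * b + c * c + d * d
  · exact Or.inr (Or.inr (Or.inr hb))
  · rcases values2 a (abs_le_two' (by linarith)) b (abs_le_two' (by linarith)) c
      (abs_le_two' (by linarith)) d (abs_le_two' (by linarith)) m1 m2 m3 (by linarith) with
      h | h | h
    · exact Or.inl h
    · exact Or.inr (Or.inl h)
    · exact Or.inr (Or.inr (Or.inl h))

end Cfsg.Agent.Lib.BC77.ThreeExtra.Rows
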