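import Cfsg.Agent.Lib.Blocks.Contrib
import Cfsg.Agent.Lib.Brauer.HallExtension
import Cfsg.Agent.Lib.Characters.Diag

/-!
# Values at elements of order three and the regular extension of a character

`χ(g) = a + b ω` with `a + b ≡ χ(1)` modulo 3 when `g³ = 1`; the function `g ↦ θ(g_{p'})` is a
generalized character.
-/

set_option autoImplicit false
set_option linter.style.haveILetI false

namespace Cfsg.Agent.Lib.BC77.ThreeExtra.Values

open scoped ComplexConjugate
open Cfsg.Agent.Lib.Characters.Basic

universe u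

/-- A primitive third root of unity. -/
noncomputable def om : ℂ := Complex.exp (2 * Real.pi * Complex.I / 3)

theorem om_prim : IsPrimitiveRoot om 3 := by
  have h := Complex.isPrimitiveRoot_exp 3 (by norm_num)
  simpa [om] using h

theorem om_cube : om ^ 3 = 1 := om_prim.pow_eq_one

theorem om_ne_one : om ≠ 1 := om_prim.ne_one (by norm_num)

theorem om_ne_zero : om ≠ 0 := fun h => by
  have := om_cube
  rw [h] at this
  norm_num at this

theorem om_sq : om ^ 2 = -1 - om := by
  have h : (om - 1) * (om ^ 2 + om + 1) = 0 := by linear_combination om_cube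
  linear_combination (mul_eq_zero.1 h).resolve_left (sub_ne_zero.2 om_ne_one)

theorem conj_om : conj om = -1 - om := by
  rw [Characters.Diag.conj_eq_inv_of_pow (N := 3) (by norm_num) om_cube, ← om_sq]
  exact inv_eq_of_mul_eq_one_right (by linear_combination om_cube)

theorem cube_root {x : ℂ} (h : x ^ 3 = 1) : x = 1 ∨ x = om ∨ x = om ^ 2 := by
  have e : (x - 1) * ((x - om) * (x - om ^ 2)) = 0 := by
    linear_combination h + (-(x ^ 2) + x) * om_sq + (x - 1) * om_cube
  rcases mul_eq_zero.1 e with e | e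
  · exact Or.inl (sub_eq_zero.1 e)
  · rcases mul_eq_zero.1 e with e | e
    · exact Or.inr (Or.inl (sub_eq_zero.1 e))
    · exact Or.inr (Or.inr (sub_eq_zero.1 e))

theorem om_ne_conj : om ≠ -1 - om := fun h => om_ne_one (by
  have h2 : om ^ 2 = om := om_sq.trans h.symm
  rw [pow_two] at h2
  exact mul_right_cancel₀ om_ne_zero (h2.trans (one_mul om).symm))

theorem int_combination {a b : ℤ} (h : (a : ℂ) + b * om = 0) : a = 0 ∧ b = 0 := by
  have hc := congrArg conj h
  simp only [map_add, map_mul, map_intCast, map_zero, conj_om] at hc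
  have hb : (b : ℂ) * (om - (-1 - om)) = 0 := by linear_combination h - hc
  have hb' : b = 0 := by
    exact_mod_cast (mul_eq_zero.1 hb).resolve_right (sub_ne_zero.2 om_ne_conj)
  subst hb'
  simp only [Int.cast_zero, zero_mul, add_zero] at h
  exact ⟨by exact_mod_cast h, rfl⟩

variable {G : Type u} [Group G] [Finite G]

/-- The value at an element with `g³ = 1`. -/
theorem exists_values {χ : G → ℂ} (hχ : Cfsg.IsCharacter G χ) {g : G} (hg : g ^ 3 = 1) :
    ∃ (a b : ℤ) (n : ℕ), χ 1 = n ∧ χ g = a + b * om ∧ (a + b - n) % 3 = 0 := by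
  classical
  obtain ⟨n, ρ, rfl⟩ := hχ
  obtain ⟨ι, hι, B, ζ, hb, hcard, hchar⟩ := Characters.Diag.exists_eigenbasis ρ g three_ne_zero hg
  let A : ι → ℤ × ℤ := fun i => if ζ i = 1 then (1, 0) else if ζ i = om then (0, 1) else (-1, -1)
  have hA : ∀ i, ζ i = (A i).1 + (A i).2 * om ∧ ((A i).1 + (A i).2 - 1) % 3 = 0 := by
    intro i
    rcases cube_root (hb i).2 with e | e | e
    · simp [A, e]
    · simp [A, e, om_ne_one]
    · have h1 : om ^ 2 ≠ 1 := fun h => by
        have := om_prim.eq_orderOf ▸ orderOf_dvd_of_pow_eq_one h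
        norm_num at this
      have h2 : om ^ 2 ≠ om := fun h => om_ne_conj (h.symm.trans om_sq)
      have hAi : A i = (-1, -1) := by simp only [A, e, if_neg h1, if_neg h2]
      rw [hAi, e, om_sq]
      exact ⟨by push_cast; ring, by norm_num⟩
  refine ⟨∑ i, (A i).1, ∑ i, (A i).2, Fintype.card ι, ?_, ?_, ?_⟩
  · rw [Representation.char_one, hcard]
  · rw [hchar, Finset.sum_congr rfl fun i _ => (hA i).1, Finset.sum_add_distrib, ← Finset.sum_mul]
    push_cast
    rfl
  · have : (∑ i, (A i).1 + ∑ i, (A i).2 - (Fintype.card ι : ℤ)) =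
        ∑ i, ((A i).1 + (A i).2 - 1) := by
      rw [Finset.sum_sub_distrib, Finset.sum_add_distrib, Finset.sum_const, Finset.card_univ]
      simp
    rw [this]
    exact Int.emod_eq_zero_of_dvd (Finset.dvd_sum fun i _ => Int.dvd_of_emod_eq_zero (hA i).2)

/-- An integer value at an element with `g³ = 1` conjugate to its inverse. -/
theorem exists_int_value (χ : Cfsg.IrrCharacter G) {g : G} (hg : g ^ 3 = 1) (hr : IsConj g g⁻¹) :
    ∃ a : ℤ, (χ : G → ℂ) g = a ∧ (a - (Cfsg.charDegree (χ : G → ℂ) : ℤ)) % 3 = 0 := by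
  obtain ⟨a, b, n, hn, hv, hm⟩ := exists_values (isCharacter_irr χ) hg
  have hd : Cfsg.charDegree (χ : G → ℂ) = n := by
    have := (Lib.H80.ClassMult.deg_spec χ).2
    rw [hn] at this
    exact_mod_cast this.symm
  obtain ⟨c, hc⟩ := isConj_iff.1 hr
  have hreal : conj ((χ : G → ℂ) g) = (χ : G → ℂ) g := by
    rw [← apply_inv (isCharacter_irr χ), ← hc, isClassFunction_irr χ]
  rw [hv] at hreal
  simp only [map_add, map_mul, map_intCast, conj_om] at hreal
  obtain ⟨-, hb⟩ := int_combination (a := -b) (b := -2 * b) (by push_cast; linear_combination hreal)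
  have hb0 : b = 0 := by omega
  subst hb0
  exact ⟨a, by rw [hv]; simp, by rw [hd]; omega⟩

variable {p : ℕ} [Fact p.Prime]

open Brauer.Elementary Brauer.Monomial in
/-- The regular extension of a character is a generalized character. -/
theorem exists_regular_extension (θ : Cfsg.IrrCharacter G) : ∃ k : ℕ,
    p ^ (Nat.card G).factorization p ∣ k ∧
    (∀ s : G, ¬ p ∣ orderOf s → s ^ k = s) ∧
    Cfsg.IsGeneralizedCharacter G (fun g => (θ : G → ℂ) (g ^ k)) := by
  classical
  letI := Fintype.ofFinite G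
  have hp : p.Prime := Fact.out
  set m := p ^ (Nat.card G).factorization p with hm
  set n := Nat.card G / p ^ (Nat.card G).factorization p with hn
  have hmn : m * n = Nat.card G := Nat.ordProj_mul_ordCompl_eq_self _ _
  have hcop : Nat.Coprime m n :=
    ((hp.coprime_iff_not_dvd).2 (Nat.not_dvd_ordCompl hp Nat.card_pos.ne')).pow_left _
  obtain ⟨k, hk0, hk1⟩ := Nat.chineseRemainder hcop 0 1
  refine ⟨k, Nat.modEq_zero_iff_dvd.1 hk0, fun s hs => ?_, ?_⟩
  · conv_rhs => rw [← pow_one s]
    rw [pow_eq_pow_iff_modEq]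
    refine hk1.of_dvd (Nat.Coprime.dvd_of_dvd_mul_left ?_ (hmn ▸ orderOf_dvd_natCard s))
    exact ((hp.coprime_iff_not_dvd.2 hs).pow_left _).symm
  · refine Brauer.Characterization.isGeneralized_of_mem
      (Brauer.Characterization.mem_of_elementary ℤ (fun g h => ?_) fun E _ q hq hel => ?_)
    · rw [conj_pow]; exact isClassFunction_irr θ _ _
    · have hcard : Nat.card E ∣ m * n := hmn.symm ▸ Subgroup.card_subgroup_dvd_card E
      have hmul := Brauer.HallExtension.pow_mul_of_elementary hq hel hcard hcop hk0 hk1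
      let s : E →* G := MonoidHom.mk' (fun e => ((e ^ k : E) : G)) (fun a b => by
        show ((_ : E) : G) = _
        rw [hmul]; rfl)
      have hs : (fun e : E => (θ : G → ℂ) ((e : G) ^ k)) = (θ : G → ℂ) ∘ s := by
        funext e
        show _ = (θ : G → ℂ) (((e ^ k : E) : G))
        rw [Subgroup.coe_pow]
      rw [hs]
      have hsub : monoSet (IsElem (G := E)) ⊆ monoSet (fun _ : Subgroup E => True) :=
        fun f ⟨K, _, l, hl⟩ => ⟨K, trivial, l, hl⟩
      exact Submodule.span_mono hsub (genChar_mem (Induced.Generalized.of_isCharacter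
        (isCharacter_comp s (isCharacter_irr θ))))

end Cfsg.Agent.Lib.BC77.ThreeExtra.Values
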