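import Cfsg.Agent.S0942
import Cfsg.Agent.S0947
import Cfsg.Agent.Lib.Blocks.Orthogonality
import Cfsg.Agent.Lib.BrauerMap.PrincipalSection
import Cfsg.Agent.Lib.Cores.Basic
import Cfsg.Agent.Lib.BC77.ThreeExtra.Classes
import Cfsg.Agent.Lib.BC77.ThreeExtra.Values

/-!
# The sections of the 3-elements

Sums over the group split over the regular elements, the two central sections and the sections
outside the centre; on the latter the principal block is constant with column norm nine.
-/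

set_option autoImplicit false
set_option linter.style.haveILetI false

namespace Cfsg.Agent.Lib.BC77.ThreeExtra.Section

open Cfsg.Agent.Lib.Blocks Cfsg.Agent.Lib.Characters.Basic
open Cfsg.Agent.Lib.BC77.ThreeExtra.Group Cfsg.Agent.Lib.BC77.ThreeExtra.Classes
open scoped ComplexConjugate

universe u

local instance : Fact (Nat.Prime 3) := ⟨Nat.prime_three⟩

variable {G : Type u} [Group G] [Finite G]

open scoped Classical in
/-- The sum over the elements whose 3-part is conjugate to `x`. -/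
noncomputable def secSum [Fintype G] (x : G) (f : G → ℂ) : ℂ :=
  ∑ g ∈ Finset.univ.filter (fun g : G => ∃ y, Cfsg.IsPPart 3 g y ∧ IsConj x y), f g

open scoped Classical in
/-- A section sum through the centralizer. -/
theorem secSum_eq [Fintype G] {x : G} (hx : ∃ k, orderOf x = 3 ^ k) {H : Subgroup G} [Fintype H]
    (hH : H = Subgroup.centralizer ({x} : Set G)) {f : G → ℂ} (hf : Cfsg.IsClassFunction G f) :
    (Nat.card H : ℂ) * secSum x f =
      (Nat.card G : ℂ) * ∑ s : H, if 3 ∣ orderOf s then 0 else f (x * (s : G)) := by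
  classical
  have hmemH : ∀ g : G, g ∈ H ↔ g * x = x * g := fun g => by
    subst hH; exact Subgroup.mem_centralizer_singleton_iff
  have hcom : ∀ s : H, Commute (s : G) x := fun s => (hmemH _).1 s.2
  set Sreg : Finset H := Finset.univ.filter fun s => ¬ 3 ∣ orderOf s
  set F : G × H → G := fun vs => vs.1 * (x * (vs.2 : G)) * vs.1⁻¹
  have hpart : ∀ vs : G × H, vs.2 ∈ Sreg → Cfsg.IsPPart 3 (F vs) (vs.1 * x * vs.1⁻¹) := by
    intro vs hs
    have hs' : ¬ 3 ∣ orderOf vs.2 := (Finset.mem_filter.1 hs).2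
    rw [← Subgroup.orderOf_coe] at hs'
    exact BrauerMap.PrincipalSection.isPPart_conj
      (⟨vs.2, rfl, (hcom vs.2).symm, hx, hs'⟩ : Cfsg.IsPPart 3 (x * (vs.2 : G)) x) vs.1
  set S := Finset.univ.filter (fun g : G => ∃ y, Cfsg.IsPPart 3 g y ∧ IsConj x y) with hSdef
  have hmaps : ∀ vs ∈ (Finset.univ : Finset G) ×ˢ Sreg, F vs ∈ S := fun vs hvs =>
    Finset.mem_filter.2 ⟨Finset.mem_univ _, _, hpart vs (Finset.mem_product.1 hvs).2,
      isConj_iff.2 ⟨vs.1, rfl⟩⟩
  have hfib : ∀ g ∈ S,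
      (((Finset.univ : Finset G) ×ˢ Sreg).filter fun vs => F vs = g).card = Nat.card H := by
    intro g hg
    obtain ⟨-, y, hy, hxy⟩ := Finset.mem_filter.1 hg
    obtain ⟨v0, hv0⟩ := isConj_iff.1 hxy
    have hy0 : Cfsg.IsPPart 3 (v0⁻¹ * g * v0) x := by
      have h := BrauerMap.PrincipalSection.isPPart_conj hy v0⁻¹
      rw [inv_inv, show v0⁻¹ * y * v0 = x by rw [← hv0]; group] at h
      exact h
    obtain ⟨s0, hs0, hc0, -, hr0⟩ := hy0
    have hs0H : s0 ∈ H := (hmemH _).2 hc0.eq.symm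
    rw [Nat.card_eq_fintype_card, ← Finset.card_univ]
    refine (Finset.card_bij' (fun (h : H) _ => ((v0 * (h : G), h⁻¹ * (⟨s0, hs0H⟩ : H) * h) : G × H))
      (fun vs hvs => (⟨v0⁻¹ * vs.1, ?_⟩ : H)) ?_ ?_ ?_ ?_).symm
    · rw [Finset.mem_filter, Finset.mem_product] at hvs
      refine (hmemH _).2 ?_
      have h := hpart vs hvs.1.2
      rw [hvs.2] at h
      have e := BrauerMap.PrincipalSection.isPPart_unique Nat.prime_three h hy
      have : v0⁻¹ * vs.1 * x * (v0⁻¹ * vs.1)⁻¹ = x := by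
        calc v0⁻¹ * vs.1 * x * (v0⁻¹ * vs.1)⁻¹ = v0⁻¹ * (vs.1 * x * vs.1⁻¹) * v0 := by group
          _ = x := by rw [e, ← hv0]; group
      exact mul_inv_eq_iff_eq_mul.1 this
    · intro h _
      rw [Finset.mem_filter, Finset.mem_product]
      refine ⟨⟨Finset.mem_univ _, Finset.mem_filter.2 ⟨Finset.mem_univ _, ?_⟩⟩, ?_⟩
      · rw [show h⁻¹ * ⟨s0, hs0H⟩ * h = MulAut.conj h⁻¹ ⟨s0, hs0H⟩ by simp, MulEquiv.orderOf_eq,
          Subgroup.orderOf_mk]
        exact hr0
      · show v0 * (h : G) * (x * ((h : G)⁻¹ * s0 * (h : G))) * (v0 * (h : G))⁻¹ = g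
        calc v0 * (h : G) * (x * ((h : G)⁻¹ * s0 * (h : G))) * (v0 * (h : G))⁻¹
            = v0 * (((h : G) * x) * (h : G)⁻¹ * s0) * v0⁻¹ := by group
          _ = v0 * (x * s0) * v0⁻¹ := by rw [(hcom h).eq, mul_inv_cancel_right]
          _ = g := by rw [hs0]; group
    · intro vs _
      exact Finset.mem_univ _
    · intro h _
      exact Subtype.ext (inv_mul_cancel_left v0 (h : G))
    · intro vs hvs
      rw [Finset.mem_filter, Finset.mem_product] at hvs
      refine Prod.ext (mul_inv_cancel_left v0 vs.1) (Subtype.ext ?_)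
      have hwx : Commute (v0⁻¹ * vs.1) x := by
        have h := hpart vs hvs.1.2
        rw [hvs.2] at h
        have e := BrauerMap.PrincipalSection.isPPart_unique Nat.prime_three h hy
        refine mul_inv_eq_iff_eq_mul.1 ?_
        calc v0⁻¹ * vs.1 * x * (v0⁻¹ * vs.1)⁻¹ = v0⁻¹ * (vs.1 * x * vs.1⁻¹) * v0 := by group
          _ = x := by rw [e, ← hv0]; group
      show (v0⁻¹ * vs.1)⁻¹ * s0 * (v0⁻¹ * vs.1) = (vs.2 : G)
      have h1 : x * s0 = v0⁻¹ * (vs.1 * (x * (vs.2 : G)) * vs.1⁻¹) * v0 := by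
        rw [hs0]; exact congrArg (fun t => v0⁻¹ * t * v0) hvs.2.symm
      have h2 : s0 = x⁻¹ * (v0⁻¹ * (vs.1 * (x * (vs.2 : G)) * vs.1⁻¹) * v0) := by
        rw [← h1, inv_mul_cancel_left]
      calc (v0⁻¹ * vs.1)⁻¹ * s0 * (v0⁻¹ * vs.1)
          = (x * (v0⁻¹ * vs.1))⁻¹ * ((v0⁻¹ * vs.1) * x) * (vs.2 : G) := by rw [h2]; group
        _ = (vs.2 : G) := by rw [hwx.eq]; group
  have h1 : ∑ vs ∈ (Finset.univ : Finset G) ×ˢ Sreg, f (F vs) =
      (Nat.card H : ℂ) * secSum x f := by
    rw [← Finset.sum_fiberwise_of_maps_to hmaps, secSum, Finset.mul_sum]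
    refine Finset.sum_congr rfl fun g hg => ?_
    rw [Finset.sum_congr rfl fun vs hvs => by rw [(Finset.mem_filter.1 hvs).2], Finset.sum_const,
      hfib g hg, nsmul_eq_mul]
  rw [← h1, Finset.sum_product]
  rw [Finset.sum_congr rfl fun v _ => (Finset.sum_congr rfl fun s _ => hf _ _ :
      ∑ s ∈ Sreg, f (F (v, s)) = ∑ s ∈ Sreg, f (x * (s : G))),
    Finset.sum_const, Finset.card_univ, nsmul_eq_mul,
    Nat.card_eq_fintype_card, Finset.sum_filter]
  congr 1
  exact Finset.sum_congr rfl fun s _ => by split_ifs <;> rfl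

variable {P : Sylow 3 G} {z : G} (hS : Setup P z)
variable {r : ℕ} {u : Fin r → G} (hu : Reps P z u)

include hS

theorem order_z : ∃ k, orderOf z = 3 ^ k := ⟨1, z_order hS⟩

theorem order_z2 : ∃ k, orderOf (z ^ 2) = 3 ^ k := by
  obtain ⟨i, hi, h⟩ := (Nat.dvd_prime_pow Nat.prime_three).1
    (show orderOf (z ^ 2) ∣ 3 ^ 1 from orderOf_dvd_of_pow_eq_one (by
      rw [pow_one, ← pow_mul, mul_comm, pow_mul, z3 hS, one_pow]))
  exact ⟨i, h⟩

include hu

theorem u3 (a : Fin r) : u a ^ 3 = 1 := hS.cube _ (hu.mem a)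

theorem u_ne_one (a : Fin r) : u a ≠ 1 := fun h => hu.out a (h ▸ one_mem _)

theorem order_u (a : Fin r) : ∃ k, orderOf (u a) = 3 ^ k :=
  ⟨1, (orderOf_eq_prime (u3 hS hu a) (u_ne_one hS hu a)).trans (pow_one 3).symm⟩

open scoped Classical in
/-- A sum over the group split over the sections. -/
theorem total [Fintype G] (f : G → ℂ) :
    ∑ g : G, f g = (∑ g : G, if 3 ∣ orderOf g then 0 else f g) + secSum z f + secSum (z ^ 2) f +
      ∑ a : Fin r, secSum (u a) f := by
  classical
  have hz2 : z ^ 2 ∈ Subgroup.zpowers z := pow_mem (Subgroup.mem_zpowers z) 2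
  have hz21 : z ^ 2 ≠ 1 := fun h => hS.zne (by
    have h3 := z3 hS
    rwa [pow_succ, h, one_mul] at h3)
  have hzz2 : ¬ IsConj z (z ^ 2) := by
    intro h
    obtain ⟨g, hg⟩ := isConj_iff.1 h
    exact not_inv hS g (hg.trans (inv_eq_sq hS hS.zmem).symm)
  have huz : ∀ (a : Fin r) (w : G), w ∈ Subgroup.zpowers z → ¬ IsConj w (u a) := by
    intro a w hw h
    obtain ⟨g, hg⟩ := isConj_iff.1 h.symm
    exact conj_notMem hS (hu.mem a) (hu.out a) (g := g) (hg ▸ hw)
  -- one indicator per element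
  have key : ∀ g : G, f g = (if 3 ∣ orderOf g then 0 else f g) +
      (if ∃ y, Cfsg.IsPPart 3 g y ∧ IsConj z y then f g else 0) +
      (if ∃ y, Cfsg.IsPPart 3 g y ∧ IsConj (z ^ 2) y then f g else 0) +
      ∑ a : Fin r, (if ∃ y, Cfsg.IsPPart 3 g y ∧ IsConj (u a) y then f g else 0) := by
    intro g
    obtain ⟨y, hy⟩ := exists_isPPart Nat.prime_three g
    have hiff : ∀ w : G, (∃ y', Cfsg.IsPPart 3 g y' ∧ IsConj w y') ↔ IsConj w y := fun w =>
      ⟨fun ⟨y', hy', hw⟩ => BrauerMap.PrincipalSection.isPPart_unique Nat.prime_three hy hy' ▸ hw,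
        fun h => ⟨y, hy, h⟩⟩
    simp only [hiff]
    by_cases hg : 3 ∣ orderOf g
    · have hy1 := isPPart_ne_one hy hg
      obtain ⟨c, hc⟩ := exists_conj_mem (P := P) hS (hy.elim fun _ h => h.2.2.1)
      have hcy : IsConj (c * y * c⁻¹) y := (isConj_iff.2 ⟨c, rfl⟩).symm
      have hcy1 : c * y * c⁻¹ ≠ 1 := fun h => hy1 (conj_eq_one_iff.1 h)
      rw [if_pos hg, zero_add]
      by_cases hmem : c * y * c⁻¹ ∈ Subgroup.zpowers z
      · have hu' : ∀ a, ¬ IsConj (u a) y := fun a h =>
          huz a _ hmem (hcy.trans h.symm)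
        rw [Finset.sum_eq_zero fun a _ => if_neg (hu' a), add_zero]
        rcases zpowers_cases hS hmem with e | e | e
        · exact absurd e hcy1
        · rw [if_pos (e ▸ hcy), if_neg fun h => hzz2 ((e ▸ hcy : IsConj z y).trans h.symm), add_zero]
        · rw [if_pos (e ▸ hcy : IsConj (z ^ 2) y),
            if_neg fun h => hzz2 (h.trans (e ▸ hcy : IsConj (z ^ 2) y).symm), zero_add]
      · obtain ⟨a, ha⟩ := hu.cover _ (by exact hc) hmem
        have hay : IsConj (u a) y := ha.symm.trans hcy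
        rw [if_neg fun h => huz a z (Subgroup.mem_zpowers z) (h.trans hay.symm),
          if_neg fun h => huz a _ hz2 (h.trans hay.symm),
          Finset.sum_eq_single a (fun b _ hb => if_neg fun h => hb (hu.inj b a (h.trans hay.symm)))
            (fun h => absurd (Finset.mem_univ a) h), if_pos hay]
        simp
    · have hy1 : y = 1 := BrauerMap.PrincipalSection.isPPart_unique Nat.prime_three hy
        (isPPart_one_of_regular hg)
      subst hy1
      rw [if_neg hg, if_neg fun h => hS.zne (isConj_one_left.1 h),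
        if_neg fun h => hz21 (isConj_one_left.1 h),
        Finset.sum_eq_zero fun a _ => if_neg fun h => u_ne_one hS hu a (isConj_one_left.1 h)]
      simp
  rw [Finset.sum_congr rfl fun g _ => key g, Finset.sum_add_distrib, Finset.sum_add_distrib,
    Finset.sum_add_distrib]
  simp only [secSum, Finset.sum_filter]
  congr 1
  rw [Finset.sum_comm]

variable (M : Ideal Cfsg.AlgInt) (hM : Cfsg.IsPModular 3 M)

include hM

/-- The principal block is constant on the sections outside the centre. -/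
theorem section_const (a : Fin r) {g : G} (hg : Cfsg.IsPPart 3 g (u a)) (χ : Cfsg.IrrCharacter G)
    (hχ : χ ∈ Cfsg.principalBlock M G) : (χ : G → ℂ) g = (χ : G → ℂ) (u a) := by
  obtain ⟨v, hv, hcom, hpow, hv'⟩ := hg
  obtain ⟨K, hKn, hK2, hKi⟩ := complement hS (hu.mem a) (hu.out a)
  have hvC : v ∈ Subgroup.centralizer ({u a} : Set G) :=
    Subgroup.mem_centralizer_singleton_iff.2 hcom.symm
  have hmem : (⟨v, hvC⟩ : Subgroup.centralizer ({u a} : Set G)) ∈ K := by
    rw [← QuotientGroup.eq_one_iff, ← orderOf_eq_one_iff]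
    refine Nat.eq_one_of_dvd_coprimes (Nat.Coprime.pow_left 2
      ((Nat.prime_three.coprime_iff_not_dvd).2 hv')) (show _ ∣ 3 ^ 2 from ?_) ?_
    · rw [show (3 : ℕ) ^ 2 = K.index by rw [hKi]; rfl, Subgroup.index_eq_card]
      exact orderOf_dvd_natCard _
    · rw [← Subgroup.orderOf_mk v hvC]
      exact orderOf_map_dvd (QuotientGroup.mk' K) _
  rw [← hv]
  exact Cfsg.Agent.S0942.result 3 M hM (u a) hpow v
    (Subgroup.mem_map.2 ⟨_, Lib.Cores.le_pPrimeCore_of_not_dvd hK2 hmem, rfl⟩) χ hχ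

omit hM in
open scoped Classical in
/-- The sum over a section outside the centre of a function constant on it. -/
theorem secSum_u [Fintype G] (a : Fin r) {f : G → ℂ} (hf : Cfsg.IsClassFunction G f)
    (hc : ∀ g, Cfsg.IsPPart 3 g (u a) → f g = f (u a)) :
    9 * secSum (u a) f = (Nat.card G : ℂ) * f (u a) := by
  classical
  set C := Subgroup.centralizer ({u a} : Set G)
  obtain ⟨K, hKn, hK2, hKi⟩ : ∃ K : Subgroup C, K.Normal ∧ ¬ 3 ∣ Nat.card K ∧ K.index = 9 :=
    complement hS (hu.mem a) (hu.out a)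
  haveI := Fintype.ofFinite C
  have h := secSum_eq (order_u hS hu a) (H := C) rfl hf
  have hK : ∀ s : C, ¬ 3 ∣ orderOf s ↔ s ∈ K := by
    intro s
    constructor
    · intro hs
      rw [← QuotientGroup.eq_one_iff, ← orderOf_eq_one_iff]
      refine Nat.eq_one_of_dvd_coprimes (Nat.Coprime.pow_left 2
        ((Nat.prime_three.coprime_iff_not_dvd).2 hs)) (show _ ∣ 3 ^ 2 from ?_)
        (orderOf_map_dvd (QuotientGroup.mk' K) s)
      rw [show (3 : ℕ) ^ 2 = K.index by rw [hKi]; rfl, Subgroup.index_eq_card]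
      exact orderOf_dvd_natCard _
    · intro hs h3
      exact hK2 (h3.trans (Subgroup.orderOf_dvd_natCard K hs))
  have hval : ∀ s : C, (if 3 ∣ orderOf s then (0 : ℂ) else f (u a * (s : G))) =
      if s ∈ K then f (u a) else 0 := by
    intro s
    by_cases hs : 3 ∣ orderOf s
    · rw [if_pos hs, if_neg fun h => (hK s).2 h hs]
    · rw [if_neg hs, if_pos ((hK s).1 hs)]
      refine hc _ ⟨s, rfl, (Subgroup.mem_centralizer_singleton_iff.1 s.2).symm, order_u hS hu a, ?_⟩
      rwa [Subgroup.orderOf_coe]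
  rw [Finset.sum_congr rfl fun s _ => hval s, ← Finset.sum_filter, Finset.sum_const, nsmul_eq_mul,
    ← Fintype.card_subtype, ← Nat.card_eq_fintype_card, ← K.card_mul_index, hKi] at h
  have hK0 : (Nat.card K : ℂ) ≠ 0 := Nat.cast_ne_zero.2 Nat.card_pos.ne'
  refine mul_left_cancel₀ hK0 ?_
  push_cast at h
  linear_combination h

open scoped Classical in
/-- The column relations outside the centre. -/
theorem col (a : Fin r) {g y : G} (hy : Cfsg.IsPPart 3 g y) :
    ∑ᶠ χ ∈ Cfsg.principalBlock M G, (χ : G → ℂ) g * conj ((χ : G → ℂ) (u a)) =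
      if IsConj y (u a) then 9 else 0 := by
  haveI := hM.2.1
  obtain ⟨K, hKn, hK2, hKi⟩ := complement hS (hu.mem a) (hu.out a)
  have hi := order_u hS hu a
  split_ifs with hconj
  · obtain ⟨c, hc⟩ := isConj_iff.1 hconj
    have hpart : Cfsg.IsPPart 3 (c * g * c⁻¹) (u a) := by
      rw [← hc]; exact BrauerMap.PrincipalSection.isPPart_conj hy c
    have h := (Cfsg.Agent.S0947.result 3 M hM (u a) hi (u_ne_one hS hu a) 1 (by simp)).2 (by
      obtain ⟨j, -, hj⟩ := (Nat.dvd_prime_pow Nat.prime_three).1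
        (show (Cfsg.pPrimeCore 3 (Subgroup.centralizer ({u a} : Set G))).index ∣ 3 ^ 2 by
          rw [show (3 : ℕ) ^ 2 = K.index by rw [hKi]; rfl]
          exact Subgroup.index_dvd_of_le (Lib.Cores.le_pPrimeCore_of_not_dvd hK2))
      exact ⟨j, hj⟩)
    rw [OneMemClass.coe_one, mul_one, ← K.card_mul_index, hKi,
      Nat.factorization_mul Nat.card_pos.ne' (by norm_num), Finsupp.add_apply,
      Nat.factorization_eq_zero_of_not_dvd hK2, show (9 : ℕ) = 3 ^ 2 from rfl,
      Nat.prime_three.factorization_pow, Finsupp.single_eq_same, zero_add] at h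
    have h' := congrArg (fun r : ℝ => (r : ℂ)) h
    rw [finsum_mem_eq_finite_toFinset_sum _ (Set.toFinite _), Complex.ofReal_sum] at h'
    rw [finsum_mem_eq_finite_toFinset_sum _ (Set.toFinite _)]
    refine Eq.trans (Finset.sum_congr rfl fun χ hχ => ?_) (h'.trans (by norm_num))
    rw [← char_conj_apply χ g c,
      section_const hS hu M hM a hpart χ ((Set.toFinite _).mem_toFinset.1 hχ), Complex.mul_conj']
    push_cast
    rfl
  · rw [← sum_block_eq_zero hM hy (isPPart_self hM.1 hi) hconj isPBlock_principalBlock]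
    refine finsum_congr fun χ => finsum_congr fun _ => ?_
    rw [apply_inv (isCharacter_irr χ)]

omit hM in
/-- The values outside the centre are integers congruent to the degree. -/
theorem exists_int (a : Fin r) (χ : Cfsg.IrrCharacter G) :
    ∃ c : ℤ, (χ : G → ℂ) (u a) = c ∧ (c - (Cfsg.charDegree (χ : G → ℂ) : ℤ)) % 3 = 0 := by
  refine Values.exists_int_value χ (u3 hS hu a) ?_
  obtain ⟨g, -, hg⟩ := hu.real a
  exact isConj_iff.2 ⟨g, hg⟩

end Cfsg.Agent.Lib.BC77.ThreeExtra.Section
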