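import Cfsg.Agent.Lib.BC77.ThreeExtra.Forms

/-!
# The possible rows for inertial index eight, four and two

For each inertial index the rows with `x ≤ 13` are listed: the real ones and those whose non-real
part has `x = 9`.
-/

set_option autoImplicit false
set_option maxHeartbeats 1000000

namespace Cfsg.Agent.Lib.BC77.ThreeExtra.Types

open Cfsg.Agent.Lib.BC77.ThreeExtra.Forms

/-- Inertial index eight. -/
def cfg8 : Cfg where
  r := 1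
  m := 10
  D := 5
  d := ![![1, 1, 1, 1, 1, 2]]
  root := ![![1, -1, 0, 0, 0, 0], ![1, 0, -1, 0, 0, 0], ![1, 0, 0, -1, 0, 0],
    ![1, 0, 0, 0, -1, 0], ![0, 1, -1, 0, 0, 0], ![0, 1, 0, -1, 0, 0], ![0, 1, 0, 0, -1, 0],
    ![0, 0, 1, -1, 0, 0], ![0, 0, 1, 0, -1, 0], ![0, 0, 0, 1, -1, 0]]
  w := ![2, 2, 2, 2, 2, -5]

/-- Inertial index four. -/
def cfg4 : Cfg where
  r := 2
  m := 6
  D := 4
  d := ![![1, 1, 1, 1, 1, -2], ![1, 1, 1, 1, -2, 1]]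
  root := ![![1, -1, 0, 0, 0, 0], ![1, 0, -1, 0, 0, 0], ![1, 0, 0, -1, 0, 0],
    ![0, 1, -1, 0, 0, 0], ![0, 1, 0, -1, 0, 0], ![0, 0, 1, -1, 0, 0]]
  w := ![1, 1, 1, 1, 4, 4]

/-- Inertial index two. -/
def cfg2 : Cfg where
  r := 4
  m := 1
  D := 2
  d := ![![1, 1, -2, 1, 1, 1], ![1, 1, 1, -2, 1, 1], ![1, 1, 1, 1, -2, 1], ![1, 1, 1, 1, 1, -2]]
  root := ![![1, -1, 0, 0, 0, 0]]
  w := ![1, 1, -2, -2, -2, -2]

theorem id8 (v : V6) : 5 * cfg8.qf v = 9 * cfg8.Rf v + cfg8.Wf v ^ 2 := by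
  show 5 * (9 * ∑ i, v i * v i - ∑ k : Fin 1, lin (cfg8.d k) v ^ 2) =
    9 * (∑ k : Fin 10, lin (cfg8.root k) v ^ 2) + lin cfg8.w v ^ 2
  simp [lin, cfg8, Fin.sum_univ_succ]
  ring

theorem id4 (v : V6) : 4 * cfg4.qf v = 9 * cfg4.Rf v + cfg4.Wf v ^ 2 := by
  show 4 * (9 * ∑ i, v i * v i - ∑ k : Fin 2, lin (cfg4.d k) v ^ 2) =
    9 * (∑ k : Fin 6, lin (cfg4.root k) v ^ 2) + lin cfg4.w v ^ 2
  simp [lin, cfg4, Fin.sum_univ_succ]
  ring

theorem id2 (v : V6) : 2 * cfg2.qf v = 9 * cfg2.Rf v + cfg2.Wf v ^ 2 := by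
  show 2 * (9 * ∑ i, v i * v i - ∑ k : Fin 4, lin (cfg2.d k) v ^ 2) =
    9 * (∑ k : Fin 1, lin (cfg2.root k) v ^ 2) + lin cfg2.w v ^ 2
  simp [lin, cfg2, Fin.sum_univ_succ]
  ring

/-- The root part of inertial index eight in five differences. -/
def r8 (a b c d : ℤ) : ℤ :=
  a * a + b * b + c * c + d * d + (a - b) * (a - b) + (a - c) * (a - c) + (a - d) * (a - d) +
    (b - c) * (b - c) + (b - d) * (b - d) + (c - d) * (c - d)

/-- The root part of inertial index four in three differences. -/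
def r4 (a b c : ℤ) : ℤ :=
  a * a + b * b + c * c + (a - b) * (a - b) + (a - c) * (a - c) + (b - c) * (b - c)

theorem r8_box : ∀ a ∈ Finset.Icc (-2 : ℤ) 2, ∀ b ∈ Finset.Icc (-2 : ℤ) 2,
    ∀ c ∈ Finset.Icc (-2 : ℤ) 2, ∀ d ∈ Finset.Icc (-2 : ℤ) 2, r8 a b c d ≤ 7 →
      r8 a b c d = 0 ∧ (a + b + c + d) % 5 = 0 ∨ r8 a b c d = 4 ∨ r8 a b c d = 6 := by
  decide

theorem r4_box : ∀ a ∈ Finset.Icc (-2 : ℤ) 2, ∀ b ∈ Finset.Icc (-2 : ℤ) 2,
    ∀ c ∈ Finset.Icc (-2 : ℤ) 2, r4 a b c ≤ 5 →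
      r4 a b c = 0 ∧ (a + b + c) % 4 = 0 ∨ r4 a b c = 3 ∨
        r4 a b c = 4 ∧ (a + b + c) % 4 = 2 := by
  decide

theorem abs_le_two {a : ℤ} (h : a * a ≤ 7) : a ∈ Finset.Icc (-2 : ℤ) 2 :=
  Finset.mem_Icc.mpr ⟨by nlinarith, by nlinarith⟩

/-- The small values of the root part, index eight. -/
theorem small8 (v : V6) (h : cfg8.Rf v ≤ 7) :
    cfg8.Rf v = 0 ∧ cfg8.Wf v % 5 = 0 ∨ cfg8.Rf v = 4 ∨ cfg8.Rf v = 6 := by
  have e : cfg8.Rf v = r8 (v 1 - v 0) (v 2 - v 0) (v 3 - v 0) (v 4 - v 0) := by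
    rw [show cfg8.Rf v = ∑ k : Fin 10, lin (cfg8.root k) v ^ 2 from rfl]
    simp [lin, cfg8, r8, Fin.sum_univ_succ]
    ring
  have hw : cfg8.Wf v = 2 * ((v 1 - v 0) + (v 2 - v 0) + (v 3 - v 0) + (v 4 - v 0)) +
      5 * (2 * v 0 - v 5) := by
    simp [Cfg.Wf, lin, cfg8, Fin.sum_univ_succ]
    ring
  rw [e] at h ⊢
  rw [hw]
  generalize v 1 - v 0 = a, v 2 - v 0 = b, v 3 - v 0 = c, v 4 - v 0 = d at h ⊢
  have h' := h
  unfold r8 at h'
  have q := fun x : ℤ => mul_self_nonneg x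
  have := q a; have := q b; have := q c; have := q d
  have := q (a - b); have := q (a - c); have := q (a - d)
  have := q (b - c); have := q (b - d); have := q (c - d)
  rcases r8_box a (abs_le_two (by linarith)) b (abs_le_two (by linarith)) c
    (abs_le_two (by linarith)) d (abs_le_two (by linarith)) h with ⟨h0, h1⟩ | h0 | h0
  · exact Or.inl ⟨h0, by omega⟩
  · exact Or.inr (Or.inl h0)
  · exact Or.inr (Or.inr h0)

/-- The small values of the root part, index four. -/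
theorem small4 (v : V6) (h : cfg4.Rf v ≤ 5) :
    cfg4.Rf v = 0 ∧ cfg4.Wf v % 4 = 0 ∨ cfg4.Rf v = 3 ∨
      cfg4.Rf v = 4 ∧ cfg4.Wf v % 4 = 2 := by
  have e : cfg4.Rf v = r4 (v 1 - v 0) (v 2 - v 0) (v 3 - v 0) := by
    rw [show cfg4.Rf v = ∑ k : Fin 6, lin (cfg4.root k) v ^ 2 from rfl]
    simp [lin, cfg4, r4, Fin.sum_univ_succ]
    ring
  have hw : cfg4.Wf v = ((v 1 - v 0) + (v 2 - v 0) + (v 3 - v 0)) +
      4 * (v 0 + v 4 + v 5) := by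
    simp [Cfg.Wf, lin, cfg4, Fin.sum_univ_succ]
    ring
  rw [e] at h ⊢
  rw [hw]
  generalize v 1 - v 0 = a, v 2 - v 0 = b, v 3 - v 0 = c at h ⊢
  have h' := h
  unfold r4 at h'
  have q := fun x : ℤ => mul_self_nonneg x
  have := q a; have := q b; have := q c
  have := q (a - b); have := q (a - c); have := q (b - c)
  rcases r4_box a (abs_le_two (by linarith)) b (abs_le_two (by linarith)) c
    (abs_le_two (by linarith)) h with ⟨h0, h1⟩ | h0 | ⟨h0, h1⟩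
  · exact Or.inl ⟨h0, by omega⟩
  · exact Or.inr (Or.inl h0)
  · exact Or.inr (Or.inr ⟨h0, by omega⟩)

/-- The root part and the parity, index two. -/
theorem small2 (v : V6) : ∃ δ : ℤ, cfg2.Rf v = δ ^ 2 ∧ (cfg2.Wf v - δ) % 2 = 0 := by
  refine ⟨v 0 - v 1, ?_, ?_⟩
  · rw [show cfg2.Rf v = ∑ k : Fin 1, lin (cfg2.root k) v ^ 2 from rfl, Fin.sum_univ_one]
    simp [lin, cfg2, Fin.sum_univ_succ]
    ring
  · have : cfg2.Wf v - (v 0 - v 1) = 2 * (v 1 - v 2 - v 3 - v 4 - v 5) := by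
      simp [Cfg.Wf, lin, cfg2, Fin.sum_univ_succ]
      ring
    omega

end Cfsg.Agent.Lib.BC77.ThreeExtra.Types
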