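import Cfsg.Agent.Lib.BC77.ThreeExtra.Centre
import Cfsg.Agent.Lib.BC77.ThreeExtra.Types

/-!
# The values outside the centre of the members with scalar one

For inertial index eight, four and two there are six members with scalar one, with the rows of
`cfg8`, `cfg4`, `cfg2` up to sign.
-/

set_option autoImplicit false
set_option linter.style.haveILetI false
set_option maxHeartbeats 1000000

namespace Cfsg.Agent.Lib.BC77.ThreeExtra.Shape

open Cfsg.Agent.Lib.Blocks Cfsg.Agent.Lib.Blocks.Contrib Cfsg.Agent.Lib.Characters.Basic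
open Cfsg.Agent.Lib.H80.ClassMult
open Cfsg.Agent.Lib.BC77.ThreeExtra.Group Cfsg.Agent.Lib.BC77.ThreeExtra.Classes
open Cfsg.Agent.Lib.BC77.ThreeExtra.Centre Cfsg.Agent.Lib.BC77.ThreeExtra.Values
open Cfsg.Agent.Lib.BC77.ThreeExtra.Forms Cfsg.Agent.Lib.BC77.ThreeExtra.Types
open scoped ComplexConjugate

universe u

local instance : Fact (Nat.Prime 3) := ⟨Nat.prime_three⟩

attribute [local instance] Classical.propDecidable

theorem exists_counts {α κ : Type*} [DecidableEq κ] (s : Finset α) (f : α → κ) (T : Finset κ)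
    (hT : ∀ x ∈ s, f x ∈ T) :
    ∃ N : κ → ℕ, (∀ c, N c = (s.filter fun x => f x = c).card) ∧
      ∀ F : κ → ℤ, ∑ x ∈ s, F (f x) = ∑ c ∈ T, (N c : ℤ) * F c := by
  refine ⟨fun c => (s.filter fun x => f x = c).card, fun c => rfl, fun F => ?_⟩
  rw [← Finset.sum_fiberwise_of_maps_to hT]
  refine Finset.sum_congr rfl fun c _ => ?_
  rw [Finset.sum_congr rfl fun x hx => by rw [(Finset.mem_filter.1 hx).2], Finset.sum_const,
    nsmul_eq_mul]

theorem exists_match {α κ : Type*} [DecidableEq κ] (s : Finset α) (f : α → κ) (T : Finset κ)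
    (g : Fin 6 → κ) (hs : ∀ x ∈ s, f x ∈ T) (hg : ∀ i, g i ∈ T)
    (h : ∀ c ∈ T, (s.filter fun x => f x = c).card =
      (Finset.univ.filter fun i => g i = c).card) :
    ∃ σ : Fin 6 → α, Function.Injective σ ∧ (∀ x, x ∈ s ↔ ∃ i, σ i = x) ∧ ∀ i, f (σ i) = g i := by
  classical
  have e : ∀ c : κ, {i : Fin 6 // g i = c} ≃ {x : {x // x ∈ s} // f x.1 = c} := by
    intro c
    refine Fintype.equivOfCardEq ?_
    rw [Fintype.card_subtype, Fintype.card_subtype]
    by_cases hc : c ∈ T
    · rw [← h c hc, show (Finset.univ.filter fun x : {x // x ∈ s} => f x.1 = c) =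
        (s.filter fun x => f x = c).subtype (· ∈ s) by ext x; simp [x.2], Finset.card_subtype]
      congr 1
      ext x
      simp
      tauto
    · rw [Finset.filter_false_of_mem fun i _ (h : g i = c) => hc (h ▸ hg i),
        Finset.filter_false_of_mem fun x _ (h : f x.1 = c) => hc (h ▸ hs _ x.2)]
      rfl
  let E := Equiv.ofFiberEquiv (f := g) (g := fun x : {x // x ∈ s} => f x.1) e
  refine ⟨fun i => (E i).1, fun i j hij => E.injective (Subtype.ext hij), ?_, fun i => ?_⟩
  · intro x
    exact ⟨fun hx => ⟨E.symm ⟨x, hx⟩, congrArg Subtype.val (E.apply_symm_apply ⟨x, hx⟩)⟩,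
      fun ⟨i, hi⟩ => hi ▸ (E i).2⟩
  · exact Equiv.ofFiberEquiv_map e i

variable {H : Type u} [Group H] [Finite H] {P : Sylow 3 H} {z : H} (hS : Setup P z)
  (hz : ∀ c, Commute z c) {r : ℕ} {u : Fin r → H} (hu : Reps P z u)
  (M : Ideal Cfsg.AlgInt) (hM : Cfsg.IsPModular 3 M)

include hS hz hu hM

/-- The regular pairing of two combinations of members with scalar one. -/
theorem bilin [Fintype H] (f g : H → ℂ) (p q : Cfsg.IrrCharacter H → ℂ)
    (hf : ∀ s, ¬ 3 ∣ orderOf s → f s = ∑ η ∈ part z M 1, p η * (η : H → ℂ) s)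
    (hg : ∀ s, ¬ 3 ∣ orderOf s → g s = ∑ η ∈ part z M 1, q η * (η : H → ℂ) s) :
    ∑ s : H, (if 3 ∣ orderOf s then 0 else f s * conj (g s)) = (primeToCard 3 H : ℂ) *
      (9 * ∑ η ∈ part z M 1, p η * conj (q η) -
        ∑ a, (∑ η ∈ part z M 1, p η * (val hS hu η a : ℂ)) *
          conj (∑ η ∈ part z M 1, q η * (val hS hu η a : ℂ))) := by
  classical
  haveI := hM.2.1
  have e : ∑ s : H, (if 3 ∣ orderOf s then 0 else f s * conj (g s)) =
      ∑ η ∈ part z M 1, ∑ η' ∈ part z M 1,
        p η * conj (q η') * ((primeToCard 3 H : ℂ) * contribN 3 η η') := by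
    simp only [← regSum_eq_contribN, regSum_eq_sum, Finset.mul_sum]
    rw [Finset.sum_congr rfl fun η _ => Finset.sum_comm, Finset.sum_comm]
    refine Finset.sum_congr rfl fun s _ => ?_
    by_cases hs : 3 ∣ orderOf s
    · simp [hs]
    · simp only [if_neg hs, hf s hs, hg s hs, map_sum, map_mul, Finset.sum_mul_sum,
        apply_inv (isCharacter_irr _)]
      exact Finset.sum_congr rfl fun η _ => Finset.sum_congr rfl fun η' _ => by ring
  have e2 : ∀ η ∈ part z M 1, ∀ η' ∈ part z M 1,
      p η * conj (q η') * ((primeToCard 3 H : ℂ) * contribN 3 η η') =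
        (primeToCard 3 H : ℂ) * (9 * (if η = η' then p η * conj (q η') else 0) -
          ∑ a, (p η * (val hS hu η a : ℂ)) * (conj (q η') * (val hS hu η' a : ℂ))) := by
    intro η hη η' hη'
    rw [contrib_eq hS hz hu M hM (mem_part.1 hη).1 (mem_part.1 hη').1
      ((mem_part.1 hη).2.trans (mem_part.1 hη').2.symm)]
    push_cast
    rw [mul_sub, mul_sub, mul_sub, Finset.mul_sum, Finset.mul_sum, Finset.mul_sum]
    congr 1
    · split_ifs <;> ring
    · exact Finset.sum_congr rfl fun a _ => by ring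
  rw [e, Finset.sum_congr rfl fun η hη => Finset.sum_congr rfl fun η' hη' => e2 η hη η' hη']
  simp only [← Finset.mul_sum, Finset.sum_sub_distrib]
  congr 2
  · congr 1
    exact Finset.sum_congr rfl fun η hη => by rw [Finset.sum_ite_eq, if_pos hη]
  · rw [Finset.sum_congr rfl fun η _ => Finset.sum_comm, Finset.sum_comm]
    refine Finset.sum_congr rfl fun a _ => ?_
    rw [map_sum, Finset.sum_mul_sum]
    simp only [map_mul, map_intCast]

/-- The regular inner product through the expansions. -/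
theorem contrib_expansion {θ ζ : Cfsg.IrrCharacter H} {n m : Cfsg.IrrCharacter H → ℤ}
    (hn : ∀ s, ¬ 3 ∣ orderOf s → (θ : H → ℂ) s = ∑ η ∈ part z M 1, (n η : ℂ) * (η : H → ℂ) s)
    (hm : ∀ s, ¬ 3 ∣ orderOf s → (ζ : H → ℂ) s = ∑ η ∈ part z M 1, (m η : ℂ) * (η : H → ℂ) s) :
    contribN 3 θ ζ = 9 * ∑ η ∈ part z M 1, n η * m η -
      ∑ a, (∑ η ∈ part z M 1, n η * val hS hu η a) *
        (∑ η ∈ part z M 1, m η * val hS hu η a) := by
  classical
  letI := Fintype.ofFinite H
  have h := bilin hS hz hu M hM (θ : H → ℂ) (ζ : H → ℂ) (fun η => (n η : ℂ))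
    (fun η => (m η : ℂ)) hn hm
  have e : ∑ s : H, (if 3 ∣ orderOf s then 0 else (θ : H → ℂ) s * conj ((ζ : H → ℂ) s)) =
      (primeToCard 3 H : ℂ) * contribN 3 θ ζ := by
    rw [← regSum_eq_contribN, regSum_eq_sum]
    exact Finset.sum_congr rfl fun s _ => by rw [apply_inv (isCharacter_irr ζ)]
  rw [e] at h
  have h' := mul_left_cancel₀ (Nat.cast_ne_zero.2 (primeToCard_pos 3).ne') h
  simp only [map_sum, map_mul, map_intCast] at h'
  exact_mod_cast h'

omit hS hz hu hM in
/-- The six members with scalar one in the order of a table. -/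
structure Frame {H : Type u} [Group H] [Finite H] {P : Sylow 3 H} {z : H} (hS : Setup P z)
    (M : Ideal Cfsg.AlgInt) (c : Cfg) {u : Fin c.r → H} (hu : Reps P z u) where
  /-- the members -/
  sg : Fin 6 → Cfsg.IrrCharacter H
  /-- the signs -/
  eps : Fin 6 → ℤ
  inj : Function.Injective sg
  mem_iff : ∀ x, x ∈ part z M 1 ↔ ∃ i, sg i = x
  unit : ∀ i, eps i * eps i = 1
  row : ∀ a i, val hS hu (sg i) a = eps i * c.d a i

omit hS hz hu hM in
/-- The normalising sign. -/
def sgn {r : ℕ} [NeZero r] (v : Fin r → ℤ) : ℤ := if v 0 % 3 = 1 then 1 else -1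

omit hS hz hu hM in
theorem sgn_sq {r : ℕ} [NeZero r] (v : Fin r → ℤ) : sgn v * sgn v = 1 := by
  unfold sgn; split_ifs <;> norm_num

/-- The normalised values lie in `{1, -2}`. -/
theorem normal_mem [NeZero r] {θ : Cfsg.IrrCharacter H} (hθ : θ ∈ part z M 1) (a : Fin r) :
    sgn (val hS hu θ) * val hS hu θ a = 1 ∨ sgn (val hS hu θ) * val hS hu θ a = -2 := by
  have hsq := sum_sq_le hS hz hu M hM hθ
  have hb : ∀ b, val hS hu θ b * val hS hu θ b ≤ 8 := fun b => le_trans
    (Finset.single_le_sum (f := fun b => val hS hu θ b * val hS hu θ b)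
      (fun b _ => mul_self_nonneg _) (Finset.mem_univ b)) hsq
  have ha := hb a
  have h1 : val hS hu θ a ≤ 2 := by nlinarith
  have h2 : -2 ≤ val hS hu θ a := by nlinarith
  have h3 := val_not_dvd hS hz hu M hM hθ a
  have h4 := val_congr hS hu θ a 0
  unfold sgn
  split_ifs with h <;> omega

/-- The normalised values of the trivial character. -/
theorem normal_one [NeZero r] (a : Fin r) :
    sgn (val hS hu (oneChar H)) * val hS hu (oneChar H) a = 1 := by
  simp [sgn, val_one hS hu]

theorem one_mem_part : oneChar H ∈ part z M 1 :=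
  mem_part.2 ⟨Centre.one_mem hS hu M hM, lamz_one z⟩

omit hS hz hu hM in
theorem frame_of {H : Type u} [Group H] [Finite H] {P : Sylow 3 H} {z : H} (hS : Setup P z)
    (M : Ideal Cfsg.AlgInt) (c : Cfg) {u : Fin c.r → H} (hu : Reps P z u) [NeZero c.r]
    (τ : Fin 6 → ℤ) (hτ : ∀ i, τ i * τ i = 1) (σ : Fin 6 → Cfsg.IrrCharacter H)
    (hi : Function.Injective σ) (him : ∀ x, x ∈ part z M 1 ↔ ∃ i, σ i = x)
    (h : ∀ i, (fun a => sgn (val hS hu (σ i)) * val hS hu (σ i) a) = fun a => τ i * c.d a i) :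
    Nonempty (Frame hS M c hu) :=
  ⟨⟨σ, fun i => sgn (val hS hu (σ i)) * τ i, hi, him,
    fun i => by
      linear_combination (τ i * τ i) * sgn_sq (val hS hu (σ i)) + hτ i,
    fun a i => by
      have h1 := congrFun (h i) a
      linear_combination sgn (val hS hu (σ i)) * h1 -
        val hS hu (σ i) a * sgn_sq (val hS hu (σ i))⟩⟩

omit hS hz hu hM in
/-- Inertial index eight. -/
theorem frame8 {H : Type u} [Group H] [Finite H] {P : Sylow 3 H} {z : H} (hS : Setup P z)
    (hz : ∀ c, Commute z c) {u : Fin cfg8.r → H} (hu : Reps P z u)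
    (M : Ideal Cfsg.AlgInt) (hM : Cfsg.IsPModular 3 M) : Nonempty (Frame hS M cfg8 hu) := by
  classical
  haveI : NeZero cfg8.r := ⟨one_ne_zero⟩
  set s := part z M 1
  set d : Cfsg.IrrCharacter H → ℤ := fun θ => val hS hu θ 0
  set f : Cfsg.IrrCharacter H → ℤ := fun θ => sgn (val hS hu θ) * d θ
  let T : Finset ℤ := {1, -2}
  have hT : ∀ x ∈ s, f x ∈ T := fun x hx => by
    rcases normal_mem hS hz hu M hM hx 0 with e | e <;> simp [T, f, d, e]
  obtain ⟨N, hN, hF⟩ := exists_counts s f T hT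
  have e1 : ∑ x ∈ s, f x * f x = 9 := by
    rw [← (col_val hS hz hu M hM 0 0).trans (if_pos rfl)]
    exact Finset.sum_congr rfl fun x _ => by
      linear_combination (d x * d x) * sgn_sq (val hS hu x)
  rw [hF fun c => c * c] at e1
  simp [T] at e1
  have hone : oneChar H ∈ s := one_mem_part hS hz hu M hM
  have hN1 : 1 ≤ N 1 := by
    rw [hN]
    refine Finset.card_pos.2 ⟨oneChar H, Finset.mem_filter.2 ⟨hone, ?_⟩⟩
    exact normal_one hS hz hu M hM 0
  have hcase : N (-2) = 1 := by
    by_contra hne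
    rcases (by omega : N (-2) = 0 ∨ N (-2) = 2) with h2 | h2
    · -- all values are units: the form of a faithful member has the wrong parity
      have hall : ∀ x ∈ s, d x * d x = 1 := by
        intro x hx
        rcases normal_mem hS hz hu M hM hx 0 with e | e
        · have e' : sgn (val hS hu x) * d x = 1 := e
          linear_combination (sgn (val hS hu x) * d x + 1) * e' -
            (d x * d x) * sgn_sq (val hS hu x)
        · exfalso
          have : 0 < N (-2) := by
            rw [hN]; exact Finset.card_pos.2 ⟨x, Finset.mem_filter.2 ⟨hx, e⟩⟩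
          omega
      have hs9 : s.card = 9 := by
        have h := (col_val hS hz hu M hM 0 0).trans (if_pos rfl)
        rw [Finset.sum_congr rfl fun x hx => hall x hx, Finset.sum_const, nsmul_eq_mul, mul_one]
          at h
        exact_mod_cast h
      obtain ⟨hc, -⟩ := card_parts hS hz hu M hM
      obtain ⟨θ, hθ⟩ := Finset.card_pos.1 (show 0 < (part z M om).card by
        have : cfg8.r = 1 := rfl
        change (part z M om).card + cfg8.r = s.card at hc
        omega)
      obtain ⟨n, hn⟩ := exists_expansion hS hz M hM (mem_part.1 hθ).1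
      have h9 := contrib_expansion hS hz hu M hM hn hn
      rw [contrib_faithful hS hz hu M hM om_ne_one hθ hθ, if_pos rfl] at h9
      have hsum : ∑ a : Fin cfg8.r, (∑ η ∈ s, n η * val hS hu η a) *
          (∑ η ∈ s, n η * val hS hu η a) = (∑ η ∈ s, n η * d η) * (∑ η ∈ s, n η * d η) :=
        Fin.sum_univ_one (fun a : Fin 1 => (∑ η ∈ s, n η * val hS hu η a) *
          (∑ η ∈ s, n η * val hS hu η a))
      rw [hsum] at h9
      have hpar : (2 : ℤ) ∣ ∑ η ∈ s, n η * n η - ∑ η ∈ s, n η * d η := by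
        rw [← Finset.sum_sub_distrib]
        refine Finset.dvd_sum fun η hη => ?_
        have hd1 : d η = 1 ∨ d η = -1 := mul_self_eq_one_iff.1 (hall η hη)
        obtain ⟨k, hk⟩ := Int.even_mul_succ_self (n η)
        rcases hd1 with e | e <;> rw [e]
        · exact ⟨k - n η, by linarith⟩
        · exact ⟨k, by linarith⟩
      generalize ∑ η ∈ s, n η * n η = A, ∑ η ∈ s, n η * d η = S at h9 hpar
      obtain ⟨t, rfl⟩ : (3 : ℤ) ∣ S :=
        Int.Prime.dvd_pow' Nat.prime_three (k := 2) ⟨3 * A - 3, by push_cast; linarith⟩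
      obtain ⟨k, hk⟩ := Int.even_mul_succ_self t
      have hA : A = 1 + t * t := by linarith
      have hk' : t * t + t = k + k := by linarith
      omega
    · -- one odd value: the column is not orthogonal to the degrees
      have h := col_deg hS hz hu M hM 0
      rw [← Finset.add_sum_erase _ _ hone] at h
      have hdv : (2 : ℤ) ∣ ∑ x ∈ s.erase (oneChar H),
          (Cfsg.charDegree (x : H → ℂ) : ℤ) * val hS hu x 0 := by
        refine Finset.dvd_sum fun x hx => Dvd.dvd.mul_left ?_ _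
        rw [Finset.mem_erase] at hx
        rcases normal_mem hS hz hu M hM hx.2 0 with e | e
        · exfalso
          have hc1 : 1 < (s.filter fun y => f y = 1).card := Finset.one_lt_card.2
            ⟨x, Finset.mem_filter.2 ⟨hx.2, e⟩, oneChar H,
              Finset.mem_filter.2 ⟨hone, normal_one hS hz hu M hM 0⟩, hx.1⟩
          rw [← hN 1] at hc1
          omega
        · rcases mul_self_eq_one_iff.1 (sgn_sq (val hS hu x)) with e' | e' <;>
            rw [e'] at e <;> omega
      have hd1 : Cfsg.charDegree (oneChar H : H → ℂ) = 1 := by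
        simp [Cfsg.charDegree, oneChar_apply]
      rw [hd1, val_one hS hu] at h
      push_cast at h
      omega
  obtain ⟨σ, hi, him, hσ⟩ := exists_match s f T ![1, 1, 1, 1, 1, -2] hT (by decide) (by
    intro c hc
    rw [← hN c]
    simp only [T, Finset.mem_insert, Finset.mem_singleton] at hc
    rcases hc with rfl | rfl
    · rw [show N 1 = 5 by omega]; decide
    · rw [hcase]; decide)
  refine frame_of hS M cfg8 hu ![1, 1, 1, 1, 1, -1] (by decide) σ hi him fun i => ?_
  funext a
  obtain rfl : a = 0 := Subsingleton.elim (α := Fin 1) a 0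
  refine (hσ i).trans ?_
  fin_cases i <;> rfl

omit hS hz hu hM in
/-- Inertial index four. -/
theorem frame4 {H : Type u} [Group H] [Finite H] {P : Sylow 3 H} {z : H} (hS : Setup P z)
    (hz : ∀ c, Commute z c) {u : Fin cfg4.r → H} (hu : Reps P z u)
    (M : Ideal Cfsg.AlgInt) (hM : Cfsg.IsPModular 3 M) : Nonempty (Frame hS M cfg4 hu) := by
  classical
  haveI : NeZero cfg4.r := ⟨two_ne_zero⟩
  set s := part z M 1
  set i0 : Fin cfg4.r := (0 : Fin 2)
  set i1 : Fin cfg4.r := (1 : Fin 2)
  set f : Cfsg.IrrCharacter H → ℤ × ℤ := fun θ =>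
    (sgn (val hS hu θ) * val hS hu θ i0, sgn (val hS hu θ) * val hS hu θ i1)
  let T : Finset (ℤ × ℤ) := {(1, 1), (1, -2), (-2, 1), (-2, -2)}
  have hT : ∀ x ∈ s, f x ∈ T := fun x hx => by
    rcases normal_mem hS hz hu M hM hx i0 with e | e <;>
      rcases normal_mem hS hz hu M hM hx i1 with e' | e' <;> simp [T, f, e, e']
  obtain ⟨N, hN, hF⟩ := exists_counts s f T hT
  have hcol : ∀ a b : Fin cfg4.r,
      ∑ x ∈ s, (sgn (val hS hu x) * val hS hu x a) * (sgn (val hS hu x) * val hS hu x b) =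
        if a = b then 9 else 0 := fun a b => by
    rw [← col_val hS hz hu M hM a b]
    exact Finset.sum_congr rfl fun x _ => by
      linear_combination (val hS hu x a * val hS hu x b) * sgn_sq (val hS hu x)
  have e1 := (hF fun c => c.1 * c.1).symm.trans ((hcol i0 i0).trans (if_pos rfl))
  have e2 := (hF fun c => c.2 * c.2).symm.trans ((hcol i1 i1).trans (if_pos rfl))
  have e3 := (hF fun c => c.1 * c.2).symm.trans
    ((hcol i0 i1).trans (if_neg (by decide : ¬ (0 : Fin 2) = 1)))
  simp [T] at e1 e2 e3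
  have hN1 : 1 ≤ N (1, 1) := by
    rw [hN]
    refine Finset.card_pos.2 ⟨oneChar H,
      Finset.mem_filter.2 ⟨one_mem_part hS hz hu M hM, ?_⟩⟩
    simp [f, normal_one hS hz hu M hM]
  obtain ⟨σ, hi, him, hσ⟩ := exists_match s f T
    ![(1, 1), (1, 1), (1, 1), (1, 1), (1, -2), (-2, 1)] hT (by decide) (by
    intro c hc
    rw [← hN c]
    simp only [T, Finset.mem_insert, Finset.mem_singleton] at hc
    rcases hc with rfl | rfl | rfl | rfl
    · rw [show N (1, 1) = 4 by omega]; decide
    · rw [show N (1, -2) = 1 by omega]; decide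
    · rw [show N (-2, 1) = 1 by omega]; decide
    · rw [show N (-2, -2) = 0 by omega]; decide)
  refine frame_of hS M cfg4 hu (fun _ => 1) (fun _ => by norm_num) σ hi him fun i => ?_
  funext a
  change Fin 2 at a
  rw [one_mul]
  fin_cases a
  · refine (congrArg Prod.fst (hσ i)).trans ?_
    fin_cases i <;> rfl
  · refine (congrArg Prod.snd (hσ i)).trans ?_
    fin_cases i <;> rfl

omit hS hz hu hM in
theorem values_two : ∀ a ∈ ({1, -2} : Finset ℤ), ∀ b ∈ ({1, -2} : Finset ℤ),
    ∀ c ∈ ({1, -2} : Finset ℤ), ∀ d ∈ ({1, -2} : Finset ℤ),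
    a * a + b * b + c * c + d * d ≤ 8 →
    (a, b, c, d) ∈ ({(1, 1, 1, 1), (-2, 1, 1, 1), (1, -2, 1, 1), (1, 1, -2, 1), (1, 1, 1, -2)} :
      Finset (ℤ × ℤ × ℤ × ℤ)) := by
  decide

omit hS hz hu hM in
/-- Inertial index two. -/
theorem frame2 {H : Type u} [Group H] [Finite H] {P : Sylow 3 H} {z : H} (hS : Setup P z)
    (hz : ∀ c, Commute z c) {u : Fin cfg2.r → H} (hu : Reps P z u)
    (M : Ideal Cfsg.AlgInt) (hM : Cfsg.IsPModular 3 M) : Nonempty (Frame hS M cfg2 hu) := by
  classical
  haveI : NeZero cfg2.r := ⟨four_ne_zero⟩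
  set s := part z M 1
  set w : Cfsg.IrrCharacter H → Fin 4 → ℤ := fun θ a => sgn (val hS hu θ) * val hS hu θ a
  set f : Cfsg.IrrCharacter H → ℤ × ℤ × ℤ × ℤ := fun θ => (w θ 0, w θ 1, w θ 2, w θ 3)
  let T : Finset (ℤ × ℤ × ℤ × ℤ) :=
    {(1, 1, 1, 1), (-2, 1, 1, 1), (1, -2, 1, 1), (1, 1, -2, 1), (1, 1, 1, -2)}
  have hw : ∀ x ∈ s, ∀ a, w x a ∈ ({1, -2} : Finset ℤ) := fun x hx a => by
    rcases normal_mem hS hz hu M hM hx a with e | e <;> simp [w, e]
  have hT : ∀ x ∈ s, f x ∈ T := fun x hx => by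
    refine values_two _ (hw x hx 0) _ (hw x hx 1) _ (hw x hx 2) _ (hw x hx 3) ?_
    have h : ∑ a : Fin 4, w x a * w x a ≤ 8 := by
      rw [Finset.sum_congr rfl fun a _ => show w x a * w x a =
        val hS hu x a * val hS hu x a by
          linear_combination (val hS hu x a * val hS hu x a) * sgn_sq (val hS hu x)]
      exact sum_sq_le hS hz hu M hM hx
    rwa [Fin.sum_univ_four] at h
  obtain ⟨N, hN, hF⟩ := exists_counts s f T hT
  have hcol : ∀ a b : Fin 4, ∑ x ∈ s, w x a * w x b = if a = b then 9 else 0 := fun a b => by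
    refine Eq.trans ?_ (col_val hS hz hu M hM a b)
    exact Finset.sum_congr rfl fun x _ => by
      linear_combination (val hS hu x a * val hS hu x b) * sgn_sq (val hS hu x)
  have e1 := (hF fun c => c.1 * c.1).symm.trans ((hcol 0 0).trans (if_pos rfl))
  have e2 := (hF fun c => c.2.1 * c.2.1).symm.trans ((hcol 1 1).trans (if_pos rfl))
  have e3 := (hF fun c => c.2.2.1 * c.2.2.1).symm.trans ((hcol 2 2).trans (if_pos rfl))
  have e4 := (hF fun c => c.2.2.2 * c.2.2.2).symm.trans ((hcol 3 3).trans (if_pos rfl))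
  have e5 := (hF fun c => c.1 * c.2.1).symm.trans ((hcol 0 1).trans (if_neg (by decide)))
  simp [T] at e1 e2 e3 e4 e5
  obtain ⟨σ, hi, him, hσ⟩ := exists_match s f T
    ![(1, 1, 1, 1), (1, 1, 1, 1), (-2, 1, 1, 1), (1, -2, 1, 1), (1, 1, -2, 1), (1, 1, 1, -2)]
    hT (by decide) (by
    intro c hc
    rw [← hN c]
    simp only [T, Finset.mem_insert, Finset.mem_singleton] at hc
    rcases hc with rfl | rfl | rfl | rfl | rfl
    · rw [show N (1, 1, 1, 1) = 2 by omega]; decide
    · rw [show N (-2, 1, 1, 1) = 1 by omega]; decide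
    · rw [show N (1, -2, 1, 1) = 1 by omega]; decide
    · rw [show N (1, 1, -2, 1) = 1 by omega]; decide
    · rw [show N (1, 1, 1, -2) = 1 by omega]; decide)
  refine frame_of hS M cfg2 hu (fun _ => 1) (fun _ => by norm_num) σ hi him fun i => ?_
  funext a
  change Fin 4 at a
  rw [one_mul]
  fin_cases a
  · refine (congrArg Prod.fst (hσ i)).trans ?_
    fin_cases i <;> rfl
  · refine (congrArg (fun p => p.2.1) (hσ i)).trans ?_
    fin_cases i <;> rfl
  · refine (congrArg (fun p => p.2.2.1) (hσ i)).trans ?_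
    fin_cases i <;> rfl
  · refine (congrArg (fun p => p.2.2.2) (hσ i)).trans ?_
    fin_cases i <;> rfl

end Cfsg.Agent.Lib.BC77.ThreeExtra.Shape
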